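import Cfsg.Agent.Lib.ZJWeight.Model

/-!
# The base case: a group generated by two conjugate quadratic elements
-/

set_option autoImplicit false

namespace Cfsg.Agent.ZJWeight

open Matrix Subgroup
open ConjFunctor (cj IsSylIn)
open scoped MatrixGroups

universe u v

variable {p : ℕ} [hp : Fact p.Prime] {U : Type v} [AddCommGroup U] [Module (ZMod p) U] [Finite U]
  {G : Type u} [Group G] [Finite G]

/-- The action on the model. -/
theorem exists_model_hom (ρ : G →* Module.End (ZMod p) U) {k : Type} [Field k]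
    [Algebra (ZMod p) k] {W : Submodule (ZMod p) U} {Φ : U →ₗ[ZMod p] (Fin 2 → k)}
    (hsurj : ∀ v, ∃ w ∈ W, Φ w = v) {x y : G} (hgen : closure ({x, y} : Set G) = ⊤)
    {X₀ Y₀ : SL(2, k)} (hx : ∀ w ∈ W, ρ x w ∈ W ∧ Φ (ρ x w) = X₀.1 *ᵥ Φ w)
    (hy : ∀ w ∈ W, ρ y w ∈ W ∧ Φ (ρ y w) = Y₀.1 *ᵥ Φ w) :
    ∃ σ : G →* SL(2, k), σ x = X₀ ∧ σ y = Y₀ ∧
      ∀ g, ∀ w ∈ W, ρ g w ∈ W ∧ Φ (ρ g w) = (σ g).1 *ᵥ Φ w := by
  classical
  have hall : ∀ g : G, ∃ M : SL(2, k), ∀ w ∈ W, ρ g w ∈ W ∧ Φ (ρ g w) = M.1 *ᵥ Φ w := by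
    intro g
    have hg : g ∈ closure ({x, y} : Set G) := hgen.ge (mem_top g)
    rw [← Subgroup.mem_toSubmonoid, closure_toSubmonoid_of_finite] at hg
    induction hg using Submonoid.closure_induction with
    | mem z hz =>
      rcases hz with rfl | rfl
      · exact ⟨X₀, hx⟩
      · exact ⟨Y₀, hy⟩
    | one => exact ⟨1, fun w hw => by simp [hw]⟩
    | mul a b _ _ ha hb =>
      obtain ⟨M, hM⟩ := ha
      obtain ⟨M', hM'⟩ := hb
      refine ⟨M * M', fun w hw => ?_⟩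
      obtain ⟨h1, h2⟩ := hM' w hw
      obtain ⟨h3, h4⟩ := hM _ h1
      rw [map_mul, Module.End.mul_apply]
      exact ⟨h3, by rw [h4, h2, Matrix.mulVec_mulVec, Transfer.sl_val_mul]⟩
  choose σ hσ using hall
  have huniq : ∀ (g : G) (M : SL(2, k)), (∀ w ∈ W, Φ (ρ g w) = M.1 *ᵥ Φ w) → σ g = M := by
    intro g M hM
    refine Subtype.ext (Matrix.toLin'.injective (LinearMap.ext fun v => ?_))
    obtain ⟨w, hw, rfl⟩ := hsurj v
    simp only [Matrix.toLin'_apply]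
    rw [← (hσ g w hw).2, hM w hw]
  refine ⟨⟨⟨σ, huniq 1 1 fun w _ => by simp⟩, fun a b => huniq (a * b) (σ a * σ b) fun w hw => ?_⟩,
    huniq x X₀ fun w hw => (hx w hw).2, huniq y Y₀ fun w hw => (hy w hw).2, hσ⟩
  rw [map_mul, Module.End.mul_apply, (hσ a _ (hσ b w hw).1).2, (hσ b w hw).2,
    Matrix.mulVec_mulVec, Transfer.sl_val_mul]

/-- The weight and the Borel module, for one model. -/
theorem base_run (hp2 : p ≠ 2) (ρ : G →* Module.End (ZMod p) U) {X : Submodule (ZMod p) U}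
    (a : (ZMod p)ˣ) {x y : G} (hx : Quad ρ x) (hy : Quad ρ y)
    (hgen : closure ({x, y} : Set G) = ⊤) (hxX : ∀ z ∈ X, ρ x z = z)
    (hxp : IsPGroup p (zpowers x))
    (hP : ∀ P : Subgroup G, IsPGroup p P → x ∈ P → P ≤ stab ρ X)
    (hfus : ∀ g : G, g * x * g⁻¹ ∈ stab ρ X → g ∈ stab ρ X)
    {m : ℕ} (hinj : ∀ z, z ∈ LinearMap.range (cOp ρ x y ^ m) → cOp ρ x y z = 0 → z = 0)
    {N N0 : Submodule (ZMod p) U} (hN : ∀ g : G, ∀ z ∈ N, ρ g z ∈ N)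
    (hN0 : ∀ z, z ∈ N0 ↔ (z ∈ N ∧ z ∈ Submodule.span (ZMod p)
      {z | ∃ (j : ℕ), ∃ w ∈ X, z = (cOp ρ x y ^ (j + m)) w}))
    (hN0X : ∃ w ∈ X, (cOp ρ x y ^ m) w ∉ N0) : Out ρ X N (a : ZMod p) := by
  classical
  set c := cOp ρ x y with hc
  set A := ρ x - 1 with hA
  set B := ρ y - 1 with hB
  have hcg : ∀ g, Commute (ρ g) c := fun g => cOp_commute hx hy (hgen.ge (mem_top g))
  have hAc : Commute A c := (hcg x).sub_left (Commute.one_left c)
  have hBc : Commute B c := (hcg y).sub_left (Commute.one_left c)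
  set M := Submodule.span (ZMod p) {z | ∃ (j : ℕ), ∃ w ∈ X, z = (c ^ (j + m)) w} with hM
  have hcM : ∀ z ∈ M, c z ∈ M := by
    intro z hz
    induction hz using Submodule.span_induction with
    | mem z hz =>
      obtain ⟨j, w, hw, rfl⟩ := hz
      refine Submodule.subset_span ⟨j + 1, w, hw, ?_⟩
      rw [← Module.End.mul_apply, ← pow_succ']
      congr 2
      omega
    | zero => simp
    | add z w _ _ h1 h2 => rw [map_add]; exact add_mem h1 h2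
    | smul r z _ h => rw [map_smul]; exact M.smul_mem r h
  have hAX : ∀ z ∈ X, A z = 0 := fun z hz => by simp [hA, hxX z hz]
  have hMA : ∀ z ∈ M, A z = 0 := by
    intro z hz
    refine (Submodule.span_le (p := LinearMap.ker A)).mpr ?_ hz
    rintro _ ⟨j, w, hw, rfl⟩
    show A ((c ^ (j + m)) w) = 0
    rw [← Module.End.mul_apply, (hAc.pow_right _).eq, Module.End.mul_apply, hAX w hw, map_zero]
  have hMR : M ≤ LinearMap.range (c ^ m) := by
    refine Submodule.span_le.mpr ?_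
    rintro _ ⟨j, w, -, rfl⟩
    exact ⟨(c ^ j) w, by rw [← Module.End.mul_apply, ← pow_add, add_comm]⟩
  obtain ⟨k, _, _, _, _, t, Φ, W, ht, hsurj, hW, hMW, ⟨e, ⟨w₀, hw₀, he⟩, hΦe⟩, hN0Φ, hWdec⟩ :=
    exists_field_model (A := A) (B := B) (c := c) (M := M) (R := LinearMap.range (c ^ m))
      (N0 := N0) (E := {z | ∃ w ∈ X, z = (c ^ m) w}) rfl hy hAc hBc hMR hMA hinj hcM
      (fun e he => by
        obtain ⟨w, hw, rfl⟩ := he
        exact Submodule.subset_span ⟨0, w, hw, by rw [Nat.zero_add]⟩)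
      (fun M' hM' hE => by
        refine Submodule.span_le.mpr ?_
        rintro _ ⟨j, w, hw, rfl⟩
        induction j with
        | zero => rw [Nat.zero_add]; exact hE _ ⟨w, hw, rfl⟩
        | succ j ih =>
          rw [show j + 1 + m = j + m + 1 by omega, pow_succ', Module.End.mul_apply]
          exact hM' _ ih)
      (fun z hz => ((hN0 z).mp hz).2)
      (fun z hz => (hN0 _).mpr ⟨by
          have hzN := ((hN0 z).mp hz).1
          simp only [hc, cOp, LinearMap.add_apply, Module.End.mul_apply, LinearMap.sub_apply,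
            Module.End.one_apply]
          refine add_mem (sub_mem (hN x _ ?_) ?_) (sub_mem (hN y _ ?_) ?_) <;>
            exact sub_mem (hN _ _ hzN) hzN,
        hcM z ((hN0 z).mp hz).2⟩)
      (by
        obtain ⟨w, hw, hne⟩ := hN0X
        exact ⟨_, ⟨w, hw, rfl⟩, hne⟩)
  -- the homomorphism
  let X₀ : SL(2, k) := ⟨!![1, t; 0, 1], by simp [Matrix.det_fin_two]⟩
  let Y₀ : SL(2, k) := ⟨!![1, 0; 1, 1], by simp [Matrix.det_fin_two]⟩
  have hρA : ∀ w, ρ x w = w + A w := fun w => by simp [hA]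
  have hρB : ∀ w, ρ y w = w + B w := fun w => by simp [hB]
  obtain ⟨σ, hσx, hσy, hσ⟩ := exists_model_hom ρ hsurj hgen (X₀ := X₀) (Y₀ := Y₀)
    (fun w hw => by
      obtain ⟨h1, -, h3, -⟩ := hW w hw
      refine ⟨by rw [hρA]; exact add_mem hw h1, ?_⟩
      rw [hρA, map_add, h3]
      ext i
      fin_cases i <;> simp [X₀, Matrix.mulVec, dotProduct, Fin.sum_univ_two])
    (fun w hw => by
      obtain ⟨-, h2, -, h4⟩ := hW w hw
      refine ⟨by rw [hρB]; exact add_mem hw h2, ?_⟩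
      rw [hρB, map_add, h4]
      ext i
      fin_cases i <;> simp [Y₀, Matrix.mulVec, dotProduct, Fin.sum_univ_two, add_comm])
  haveI : Finite σ.range := Finite.of_surjective _ σ.rangeRestrict_surjective
  obtain ⟨H, ⟨g₁, hg₁⟩, hH10, hH00, hH11⟩ := exists_torus (p := p) hp2 σ.range
    ⟨x, hσx⟩ ⟨y, hσy⟩ ht rfl rfl a
  set φa := ZMod.castHom (dvd_refl p) k
  -- the preimage of the upper unitriangular matrices
  let A₀ : Subgroup G :=
    { carrier := {g | (σ g).1 1 0 = 0 ∧ (σ g).1 0 0 = 1 ∧ (σ g).1 1 1 = 1}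
      one_mem' := by
        show (σ 1).1 1 0 = 0 ∧ (σ 1).1 0 0 = 1 ∧ (σ 1).1 1 1 = 1
        rw [map_one, Transfer.sl_val_one]; simp
      mul_mem' := by
        rintro g h ⟨g10, g00, g11⟩ ⟨h10, h00, h11⟩
        show (σ (g * h)).1 1 0 = 0 ∧ (σ (g * h)).1 0 0 = 1 ∧ (σ (g * h)).1 1 1 = 1
        rw [map_mul, Transfer.sl_val_mul]
        simp [Matrix.mul_apply, Fin.sum_univ_two, g10, g00, g11, h10, h00, h11]
      inv_mem' := by
        rintro g ⟨g10, g00, g11⟩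
        show (σ g⁻¹).1 1 0 = 0 ∧ (σ g⁻¹).1 0 0 = 1 ∧ (σ g⁻¹).1 1 1 = 1
        rw [map_inv, Matrix.SpecialLinearGroup.coe_inv, Matrix.adjugate_fin_two]
        simp [g10, g00, g11] }
  have hxA₀ : x ∈ A₀ := by
    show (σ x).1 1 0 = 0 ∧ (σ x).1 0 0 = 1 ∧ (σ x).1 1 1 = 1
    rw [hσx]; simp [X₀]
  have hnorm : cj g₁ A₀ = A₀ := by
    refine eq_of_le_of_card_ge ?_ (by rw [ConjFunctor.cj_card])
    rintro _ ⟨g, ⟨g10, g00, g11⟩, rfl⟩
    show (σ (g₁ * g * g₁⁻¹)).1 1 0 = 0 ∧ (σ (g₁ * g * g₁⁻¹)).1 0 0 = 1 ∧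
      (σ (g₁ * g * g₁⁻¹)).1 1 1 = 1
    rw [map_mul, map_mul, map_inv, Transfer.sl_val_mul, Transfer.sl_val_mul,
      Matrix.SpecialLinearGroup.coe_inv, Matrix.adjugate_fin_two, hg₁]
    have hdet : H.1 0 0 * H.1 1 1 = 1 := by
      rw [hH00, hH11, ← map_mul, Units.mul_inv, map_one]
    simp [Matrix.mul_apply, Fin.sum_univ_two, g10, g00, g11, hH10, hdet,
      mul_comm (H.1 1 1) (H.1 0 0)]
  obtain ⟨P, hPs, hxP⟩ := ConjFunctor.exists_isSylIn_ge (p := p) (zpowers_le.mpr hxA₀) hxp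
  obtain ⟨l, hl, hle⟩ := ConjFunctor.isSylIn_conj hPs (by
    have := ConjFunctor.isSylIn_map hPs g₁
    rwa [hnorm] at this)
  set n := l * g₁ with hn
  have hnP : cj n P = P := by rw [hn, ConjFunctor.cj_mul, hle]
  have hxS : P ≤ stab ρ X := hP P hPs.2.1 (hxP (mem_zpowers x))
  have hnS : n ∈ stab ρ X := hfus n (hxS (hnP ▸ ⟨x, hxP (mem_zpowers x), rfl⟩))
  obtain ⟨l10, l00, l11⟩ := hl
  have hn10 : (σ n).1 1 0 = 0 := by
    rw [hn, map_mul, Transfer.sl_val_mul, hg₁]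
    simp [Matrix.mul_apply, Fin.sum_univ_two, l10, hH10]
  have hn00 : (σ n).1 0 0 = φa a := by
    rw [hn, map_mul, Transfer.sl_val_mul, hg₁]
    simp [Matrix.mul_apply, Fin.sum_univ_two, l00, hH10, hH00, φa]
  obtain ⟨bk, hbk⟩ : ∃ bk : k, bk = φa ((a⁻¹ : (ZMod p)ˣ) : ZMod p) := ⟨_, rfl⟩
  rw [← hbk] at hH11
  have hn11 : (σ n).1 1 1 = bk := by
    rw [hn, map_mul, Transfer.sl_val_mul, hg₁]
    simp [Matrix.mul_apply, Fin.sum_univ_two, l10, l11, hH11]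
  have hcast : ∀ (z : ZMod p) (w : k), φa z * w = z • w := fun z w => by
    rw [Algebra.smul_def, show φa z = algebraMap (ZMod p) k z from
      RingHom.congr_fun (RingHom.ext_zmod φa (algebraMap (ZMod p) k)) z]
  -- the weight
  have hker : ¬ Function.Injective (fun z : X =>
      (⟨ρ n z - (a : ZMod p) • (z : U), sub_mem (hnS z z.2) (X.smul_mem _ z.2)⟩ : X)) := by
    intro hf
    obtain ⟨z, hz⟩ := (Finite.surjective_of_injective hf) ⟨w₀, hw₀⟩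
    have h2 : ρ n z - (a : ZMod p) • (z : U) = w₀ := congrArg Subtype.val hz
    have hcz : (c ^ m) (z : U) ∈ M := Submodule.subset_span ⟨0, z, z.2, by rw [Nat.zero_add]⟩
    obtain ⟨hzW, hz1⟩ := hMW _ hcz
    apply hΦe
    rw [he, ← h2, map_sub, map_smul, ← Module.End.mul_apply, ← ((hcg n).pow_right m).eq,
      Module.End.mul_apply, map_sub, map_smul, (hσ n _ hzW).2]
    ext i
    fin_cases i <;>
      simp [Matrix.mulVec, dotProduct, Fin.sum_univ_two, hn00, hn10, hn11, hz1, hcast]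
  obtain ⟨cw, hcX, hc0, hcn⟩ : ∃ cw ∈ X, cw ≠ 0 ∧ ρ n cw = (a : ZMod p) • cw := by
    simp only [Function.Injective, not_forall] at hker
    obtain ⟨z, w, hzw, hne⟩ := hker
    have h2 : ρ n z - (a : ZMod p) • (z : U) = ρ n w - (a : ZMod p) • (w : U) :=
      congrArg Subtype.val hzw
    refine ⟨(z : U) - w, sub_mem z.2 w.2, fun h => hne (Subtype.ext (sub_eq_zero.mp h)), ?_⟩
    rw [map_sub, smul_sub]
    rw [sub_eq_sub_iff_sub_eq_sub] at h2
    exact h2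
  -- the section
  obtain ⟨ℓ, hℓ1⟩ : ∃ ℓ : k →ₗ[ZMod p] ZMod p, ℓ 1 = 1 := by
    obtain ⟨ℓ, hℓ⟩ := Module.Projective.exists_dual_ne_zero (ZMod p) (one_ne_zero : (1 : k) ≠ 0)
    exact ⟨(ℓ 1)⁻¹ • ℓ, by simp [hℓ]⟩
  let W₁ : Submodule (ZMod p) U :=
    W ⊓ (Submodule.span (ZMod p) {(1 : k)}).comap
      ((LinearMap.proj (R := ZMod p) (φ := fun _ : Fin 2 => k) 1).comp Φ)
  let φ : U →ₗ[ZMod p] (Fin 2 → ZMod p) := LinearMap.pi fun i =>
    if i = 0 then ℓ ∘ₗ (LinearMap.mulLeft (ZMod p) t⁻¹) ∘ₗ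
        ((LinearMap.proj (R := ZMod p) (φ := fun _ : Fin 2 => k) 0).comp Φ)
      else ℓ ∘ₗ ((LinearMap.proj (R := ZMod p) (φ := fun _ : Fin 2 => k) 1).comp Φ)
  have hφ0 : ∀ w, φ w 0 = ℓ (t⁻¹ * Φ w 0) := fun w => rfl
  have hφ1 : ∀ w, φ w 1 = ℓ (Φ w 1) := fun w => rfl
  have hW₁ : ∀ w, w ∈ W₁ ↔ w ∈ W ∧ ∃ r : ZMod p, r • (1 : k) = Φ w 1 := fun w => by
    show w ∈ W ∧ Φ w 1 ∈ Submodule.span (ZMod p) {(1 : k)} ↔ _
    rw [Submodule.mem_span_singleton]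
  have hxstab : x ∈ stab ρ X := fun z hz => by rw [hxX z hz]; exact hz
  refine ⟨x, n, hxstab, hnS, ⟨cw, hcX, hc0, hcn⟩, W₁, φ, ℓ (t⁻¹ * (σ n).1 0 1), fun v => ?_,
    fun w hw => ?_, fun w hw hwN => ?_⟩
  · obtain ⟨w, hw, hwv⟩ := hsurj ![t * (v 0 • (1 : k)), v 1 • (1 : k)]
    refine ⟨w, (hW₁ w).mpr ⟨hw, v 1, by simp [hwv]⟩, ?_⟩
    ext i
    fin_cases i
    · show φ w 0 = v 0
      rw [hφ0, hwv]
      simp [ht, hℓ1]
    · show φ w 1 = v 1
      rw [hφ1, hwv]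
      simp [hℓ1]
  · obtain ⟨hwW, r, hr⟩ := (hW₁ w).mp hw
    have hφr : φ w 1 = r := by rw [hφ1, ← hr]; simp [hℓ1]
    obtain ⟨hxW, hxΦ⟩ := hσ x w hwW
    obtain ⟨hnW, hnΦ⟩ := hσ n w hwW
    rw [hσx] at hxΦ
    have hx0 : Φ (ρ x w) 0 = Φ w 0 + t * Φ w 1 := by
      rw [hxΦ]; simp [X₀, Matrix.mulVec, dotProduct, Fin.sum_univ_two]
    have hx1 : Φ (ρ x w) 1 = Φ w 1 := by
      rw [hxΦ]; simp [X₀, Matrix.mulVec, dotProduct, Fin.sum_univ_two]
    have hn0 : Φ (ρ n w) 0 = (a : ZMod p) • Φ w 0 + (σ n).1 0 1 * Φ w 1 := by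
      rw [hnΦ]; simp [Matrix.mulVec, dotProduct, Fin.sum_univ_two, hn00, hcast]
    have hn1 : Φ (ρ n w) 1 = ((a⁻¹ : (ZMod p)ˣ) : ZMod p) • Φ w 1 := by
      rw [← hcast, ← hbk, hnΦ]; simp [Matrix.mulVec, dotProduct, Fin.sum_univ_two, hn10, hn11]
    refine ⟨(hW₁ _).mpr ⟨hxW, r, by rw [hx1, hr]⟩,
      (hW₁ _).mpr ⟨hnW, ((a⁻¹ : (ZMod p)ˣ) : ZMod p) * r, by rw [hn1, ← hr, smul_smul]⟩, ?_, ?_⟩
    · ext i
      fin_cases i
      · show φ (ρ x w) 0 = φ w 0 + φ w 1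
        rw [hφ0, hx0, mul_add, map_add, ← hφ0, inv_mul_cancel_left₀ ht, ← hφ1]
      · show φ (ρ x w) 1 = φ w 1
        rw [hφ1, hx1, ← hφ1]
    · ext i
      fin_cases i
      · show φ (ρ n w) 0 = (a : ZMod p) * φ w 0 + ℓ (t⁻¹ * (σ n).1 0 1) * φ w 1
        rw [hφr, hφ0, hn0, mul_add, map_add, mul_smul_comm, map_smul, smul_eq_mul, ← hφ0, ← hr]
        congr 1
        rw [mul_smul_comm, mul_one, mul_smul_comm, map_smul, smul_eq_mul, mul_comm]
      · show φ (ρ n w) 1 = (a : ZMod p)⁻¹ * φ w 1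
        rw [hφ1, hn1, map_smul, smul_eq_mul, ← hφ1, Units.val_inv_eq_inv_val]
  · obtain ⟨hwW, -⟩ := (hW₁ w).mp hw
    obtain ⟨m₁, h₁, m₂, h₂, rfl⟩ := hWdec w hwW
    have hAw : A (m₁ + B m₂) = c m₂ := by
      rw [map_add, hMA m₁ h₁, zero_add, hc, cOp, ← hA, ← hB, LinearMap.add_apply,
        Module.End.mul_apply, Module.End.mul_apply, hMA m₂ h₂, map_zero, add_zero]
    have hAN : A (m₁ + B m₂) ∈ N := by
      simp only [hA, LinearMap.sub_apply, Module.End.one_apply]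
      exact sub_mem (hN x _ hwN) hwN
    rw [hAw] at hAN
    have hcN0 : ∀ z ∈ N0, c z ∈ N0 := fun z hz => (hN0 _).mpr ⟨by
        have hzN := ((hN0 z).mp hz).1
        simp only [hc, cOp, LinearMap.add_apply, Module.End.mul_apply, LinearMap.sub_apply,
          Module.End.one_apply]
        refine add_mem (sub_mem (hN x _ ?_) ?_) (sub_mem (hN y _ ?_) ?_) <;>
          exact sub_mem (hN _ _ hzN) hzN,
      hcM z ((hN0 z).mp hz).2⟩
    have hm₂ : m₂ ∈ N0 := mem_of_map_mem hcN0 (fun z hz => hMR ((hN0 z).mp hz).2) hinj (hMR h₂)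
      ((hN0 _).mpr ⟨hAN, hcM _ h₂⟩)
    have hBN : B m₂ ∈ N := by
      simp only [hB, LinearMap.sub_apply, Module.End.one_apply]
      exact sub_mem (hN y _ ((hN0 _).mp hm₂).1) ((hN0 _).mp hm₂).1
    have hm₁ : m₁ ∈ N0 := (hN0 _).mpr ⟨by simpa using sub_mem hwN hBN, h₁⟩
    have hz := hN0Φ _ hm₁ _ hm₂
    ext i
    fin_cases i
    · show φ (m₁ + B m₂) 0 = 0
      rw [hφ0, hz]; simp
    · show φ (m₁ + B m₂) 1 = 0
      rw [hφ1, hz]; simp

/-- **The base case.** -/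
theorem base_out (hp2 : p ≠ 2) (ρ : G →* Module.End (ZMod p) U) {X N : Submodule (ZMod p) U}
    (a : (ZMod p)ˣ) (ha : (a : ZMod p) ≠ 1) {x g₀ : G} (hx : Quad ρ x)
    (hgen : closure ({x, g₀ * x * g₀⁻¹} : Set G) = ⊤) (hN : ∀ g : G, ∀ z ∈ N, ρ g z ∈ N)
    (hNX : ∀ z ∈ N, z ∈ X → z = 0) (hxX : ∀ z ∈ X, ρ x z = z) (hxp : IsPGroup p (zpowers x))
    (hyX : g₀ * x * g₀⁻¹ ∉ stab ρ X)
    (hP : ∀ P : Subgroup G, IsPGroup p P → x ∈ P → P ≤ stab ρ X)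
    (hfus : ∀ g : G, g * x * g⁻¹ ∈ stab ρ X → g ∈ stab ρ X) : Out ρ X N (a : ZMod p) := by
  set c := cOp ρ x (g₀ * x * g₀⁻¹) with hc
  haveI : Module.Finite (ZMod p) U := Module.Finite.of_finite
  obtain ⟨m₀, hm₀⟩ := Filter.eventually_atTop.mp (LinearMap.eventually_isCompl_ker_pow_range_pow c)
  obtain ⟨m, hm1, hdisj⟩ : ∃ m, 1 ≤ m ∧ Disjoint (LinearMap.ker (c ^ m)) (LinearMap.range (c ^ m)) :=
    ⟨max m₀ 1, le_max_right _ _, (hm₀ _ (le_max_left _ _)).disjoint⟩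
  have hinj : ∀ z, z ∈ LinearMap.range (c ^ m) → c z = 0 → z = 0 := by
    intro z hz hcz
    refine Submodule.disjoint_def.mp hdisj z ?_ hz
    rw [LinearMap.mem_ker, show m = m - 1 + 1 by omega, pow_succ, Module.End.mul_apply, hcz,
      map_zero]
  set M := Submodule.span (ZMod p) {z | ∃ (j : ℕ), ∃ w ∈ X, z = (c ^ (j + m)) w}
  have hbot : ∃ w ∈ X, (c ^ m) w ∉ (⊥ : Submodule (ZMod p) U) := by
    by_contra hcon
    push Not at hcon
    refine hyX fun z hz => ?_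
    have h := nil_fix ρ hx hgen (N := ⊥) (fun g z hz => by simp [(Submodule.mem_bot _).mp hz])
      hxX m hcon (g₀ * x * g₀⁻¹) z hz
    rw [Submodule.mem_bot, sub_eq_zero] at h
    rwa [h]
  have hfirst : Out ρ X (⊥ : Submodule (ZMod p) U) (a : ZMod p) :=
    base_run hp2 ρ a hx (hx.conj g₀) hgen hxX hxp hP hfus hinj
      (fun g z hz => by simp [(Submodule.mem_bot _).mp hz])
      (N0 := ⊥) (fun z => ⟨fun h => ⟨h, by rw [(Submodule.mem_bot _).mp h]; exact zero_mem _⟩,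
        fun h => h.1⟩) hbot
  refine base_run hp2 ρ a hx (hx.conj g₀) hgen hxX hxp hP hfus hinj hN (N0 := N ⊓ M)
    (fun z => Iff.rfl) ?_
  by_contra hcon
  push Not at hcon
  obtain ⟨x', n, -, -, ⟨w, hw, hw0, hwn⟩, -⟩ := hfirst
  have h := nil_fix ρ hx hgen hN hxX m (fun z hz => (hcon z hz).1) n w hw
  rw [hwn] at h
  have h2 : ((a : ZMod p) - 1) • w = 0 :=
    hNX _ (by rwa [sub_smul, one_smul]) (X.smul_mem _ hw)
  rcases smul_eq_zero.mp h2 with h3 | h3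
  · exact ha (sub_eq_zero.mp h3)
  · exact hw0 h3

end Cfsg.Agent.ZJWeight
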