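import Mathlib

/-!
# A central quadratic element

A finite `p`-group, `p` odd, of linear maps which is generated by quadratically acting elements
and is nontrivial has a nontrivial quadratically acting central element.
-/

set_option autoImplicit false

namespace Cfsg.Agent.ZJWeight

open Subgroup

universe u v

variable {p : ℕ} [hp : Fact p.Prime] {U : Type v} [AddCommGroup U] [Module (ZMod p) U]
  {G : Type u} [Group G]

/-- `g` acts quadratically. -/
def Quad (ρ : G →* Module.End (ZMod p) U) (g : G) : Prop := (ρ g - 1) * (ρ g - 1) = 0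

theorem quad_one (ρ : G →* Module.End (ZMod p) U) : Quad ρ 1 := by simp [Quad]

theorem Quad.conj {ρ : G →* Module.End (ZMod p) U} {g : G} (h : Quad ρ g) (s : G) :
    Quad ρ (s * g * s⁻¹) := by
  have e : ρ (s * g * s⁻¹) - 1 = ρ s * (ρ g - 1) * ρ s⁻¹ := by
    rw [map_mul, map_mul, mul_sub, sub_mul, mul_one, ← map_mul ρ s s⁻¹, mul_inv_cancel, map_one]
  rw [Quad, e]
  calc ρ s * (ρ g - 1) * ρ s⁻¹ * (ρ s * (ρ g - 1) * ρ s⁻¹)
      = ρ s * (ρ g - 1) * (ρ s⁻¹ * ρ s) * (ρ g - 1) * ρ s⁻¹ := by simp only [mul_assoc]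
    _ = 0 := by rw [← map_mul, inv_mul_cancel, map_one, mul_one, mul_assoc (ρ s), h, mul_zero,
        zero_mul]

theorem Quad.map_inv {ρ : G →* Module.End (ZMod p) U} {g : G} (h : Quad ρ g) :
    ρ g⁻¹ = 1 - (ρ g - 1) := by
  have h1 : ρ g⁻¹ * ρ g = 1 := by rw [← map_mul, inv_mul_cancel, map_one]
  have h2 : ρ g * (1 - (ρ g - 1)) = 1 := by
    calc ρ g * (1 - (ρ g - 1)) = 1 - (ρ g - 1) * (ρ g - 1) := by
          simp only [mul_sub, sub_mul, mul_one, one_mul]; abel
      _ = 1 := by rw [h, sub_zero]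
  exact left_inv_eq_right_inv h1 h2

/-- The algebraic heart: two commuting relations force `X X' = X' X = 0`. -/
theorem quad_aux (hp2 : p ≠ 2) {ρ : G →* Module.End (ZMod p) U} {x s : G} (hx : Quad ρ x)
    (hs : Quad ρ s) (h1 : Commute x (s * x * s⁻¹)) (h2 : Commute x (s⁻¹ * x * s)) :
    Quad ρ (x⁻¹ * (s * x * s⁻¹)) := by
  have hy : Quad ρ (s * x * s⁻¹) := hx.conj s
  have hsi : ρ s⁻¹ = 1 - (ρ s - 1) := hs.map_inv
  have key1 : (ρ (s * x * s⁻¹) - 1) * (ρ x - 1) = (ρ x - 1) * (ρ (s * x * s⁻¹) - 1) := by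
    have := (h1.map ρ).eq
    simp only [mul_sub, sub_mul, mul_one, one_mul, this]
    abel
  have key2 : (ρ (s⁻¹ * x * s) - 1) * (ρ x - 1) = (ρ x - 1) * (ρ (s⁻¹ * x * s) - 1) := by
    have := (h2.map ρ).eq
    simp only [mul_sub, sub_mul, mul_one, one_mul, this]
    abel
  set X := ρ x - 1 with hX
  set S := ρ s - 1 with hS
  have hXX : X * X = 0 := hx
  have hXX' : ∀ z, X * (X * z) = 0 := fun z => by rw [← mul_assoc, hXX, zero_mul]
  have hy' : ρ (s * x * s⁻¹) - 1 = X + S * X - X * S - S * X * S := by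
    rw [map_mul, map_mul, hsi, show ρ s = 1 + S by rw [hS]; abel,
      show ρ x = 1 + X by rw [hX]; abel]
    have hSS : S * S = 0 := hs
    simp only [mul_sub, sub_mul, mul_add, add_mul, one_mul, mul_one, mul_assoc, hSS]
    abel
  have hz' : ρ (s⁻¹ * x * s) - 1 = X - S * X + X * S - S * X * S := by
    rw [map_mul, map_mul, hsi, show ρ s = 1 + S by rw [hS]; abel,
      show ρ x = 1 + X by rw [hX]; abel]
    have hSS : S * S = 0 := hs
    simp only [mul_sub, sub_mul, mul_add, add_mul, one_mul, mul_one, mul_assoc, hSS]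
    abel
  rw [hy'] at key1
  rw [hz'] at key2
  simp only [mul_sub, sub_mul, mul_add, add_mul, mul_assoc, hXX, hXX', mul_zero] at key1 key2
  have h4 : (4 : ℕ) • (X * (S * X)) = 0 := by
    linear_combination (norm := abel) key2 - key1
  have hne : ((4 : ℕ) : ZMod p) ≠ 0 := by
    intro h
    rw [ZMod.natCast_eq_zero_iff] at h
    have h2 : p ∣ 2 ^ 2 := h
    exact hp2 ((Nat.prime_dvd_prime_iff_eq hp.out Nat.prime_two).mp (hp.out.dvd_of_dvd_pow h2))
  have hXSX : X * (S * X) = 0 := by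
    rw [← Nat.cast_smul_eq_nsmul (ZMod p)] at h4
    exact (smul_eq_zero.mp h4).resolve_left hne
  have hXSX' : ∀ z, X * (S * (X * z)) = 0 := fun z => by
    rw [← mul_assoc S, ← mul_assoc X, hXSX, zero_mul]
  have hXY : X * (ρ (s * x * s⁻¹) - 1) = 0 := by
    rw [hy']
    simp only [mul_sub, mul_add, mul_assoc, hXX, hXX', hXSX, hXSX', mul_zero]
    abel
  have hYX : (ρ (s * x * s⁻¹) - 1) * X = 0 := by
    rw [hy']
    simp only [sub_mul, add_mul, mul_assoc, hXX, hXX', hXSX, hXSX', mul_zero]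
    abel
  have he : ρ (x⁻¹ * (s * x * s⁻¹)) - 1 = (ρ (s * x * s⁻¹) - 1) - X := by
    rw [map_mul, hx.map_inv, ← hX]
    simp only [sub_mul, one_mul]
    have : X * ρ (s * x * s⁻¹) = X := by
      have := hXY
      rw [mul_sub, mul_one, sub_eq_zero] at this
      exact this
    rw [this]
    abel
  rw [Quad, he]
  have hYY : (ρ (s * x * s⁻¹) - 1) * (ρ (s * x * s⁻¹) - 1) = 0 := hy
  generalize ρ (s * x * s⁻¹) - 1 = Y at hXY hYX hYY ⊢
  simp only [mul_sub, sub_mul, hXY, hYX, hXX, hYY]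
  abel

variable [Finite G]

theorem zpowers_eq_top_of_normalClosure {x : G} (hG : IsPGroup p G)
    (h : normalClosure ({x} : Set G) = ⊤) : zpowers x = ⊤ := by
  by_contra hne
  obtain hM | ⟨M, hM, hxM⟩ := eq_top_or_exists_le_coatom (zpowers x)
  · exact hne hM
  haveI : Group.IsNilpotent G := hG.isNilpotent
  haveI : M.Normal := Group.normalizerCondition_of_isNilpotent.normal_of_coatom M hM
  refine hM.1 (top_le_iff.mp (h ▸ normalClosure_le_normal ?_))
  rintro y rfl
  exact hxM (mem_zpowers y)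

/-- **A central quadratic element.** -/
theorem exists_central_quad (hp2 : p ≠ 2) :
    ∀ (n : ℕ) (G : Type u) [Group G] [Finite G] (ρ : G →* Module.End (ZMod p) U),
      Nat.card G ≤ n → Function.Injective ρ → IsPGroup p G → Nontrivial G →
      closure {g : G | Quad ρ g} = ⊤ → ∃ x : G, x ≠ 1 ∧ Quad ρ x ∧ x ∈ center G := by
  intro n
  induction n with
  | zero => intro G _ _ _ h; exact absurd h (Nat.not_le.mpr Nat.card_pos)
  | succ n ih =>
  intro G _ _ ρ hcard hinj hG hne hgen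
  classical
  have hD : ∃ d : G, d ≠ 1 ∧ Quad ρ d := by
    by_contra hcon
    push Not at hcon
    obtain ⟨a, b, hab⟩ := hne
    have h1 : (⊤ : Subgroup G) ≤ ⊥ := hgen ▸ (closure_le _).mpr fun g hg => by
      by_contra h
      exact hcon g h hg
    exact hab ((mem_bot.mp (h1 (mem_top a))).trans (mem_bot.mp (h1 (mem_top b))).symm)
  haveI : Fintype {d : G // d ≠ 1 ∧ Quad ρ d} := Fintype.ofFinite _
  obtain ⟨d0, hd0⟩ := hD
  obtain ⟨⟨x, hx1, hxq⟩, -, hmin⟩ := Finset.exists_min_image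
    (Finset.univ : Finset {d : G // d ≠ 1 ∧ Quad ρ d})
    (fun d => Nat.card (normalClosure ({d.1} : Set G))) ⟨⟨d0, hd0⟩, Finset.mem_univ _⟩
  set N := normalClosure ({x} : Set G) with hN
  by_cases hNtop : N = ⊤
  · have hz := zpowers_eq_top_of_normalClosure hG hNtop
    refine ⟨x, hx1, hxq, mem_center_iff.mpr fun g => ?_⟩
    obtain ⟨k, rfl⟩ := mem_zpowers_iff.mp (hz.ge (mem_top g))
    exact ((Commute.refl x).zpow_left k).eq
  have hNlt : Nat.card N ≤ n := by
    have h1 : Nat.card N < Nat.card G := by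
      rw [← Subgroup.card_top (G := G)]
      refine lt_of_le_of_ne (card_le_of_le le_top) fun he => hNtop ?_
      exact eq_of_le_of_card_ge le_top he.ge
    omega
  have hxN : x ∈ N := subset_normalClosure rfl
  obtain ⟨⟨x', hx'N⟩, hx'1, hx'q, hx'c⟩ := ih N (ρ.comp N.subtype) hNlt
    (hinj.comp N.subtype_injective) (hG.to_subgroup N)
    ⟨⟨1, ⟨x, hxN⟩, fun h => hx1 (congrArg Subtype.val h).symm⟩⟩
    (by
      apply map_injective N.subtype_injective
      rw [MonoidHom.map_closure, ← MonoidHom.range_eq_map, range_subtype]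
      refine le_antisymm ((closure_le _).mpr ?_) ?_
      · rintro _ ⟨g, -, rfl⟩; exact g.2
      · rw [hN, normalClosure, closure_le]
        intro y hy
        obtain ⟨x₀, hx₀, hc⟩ := Group.mem_conjugatesOfSet_iff.mp hy
        obtain ⟨c, rfl⟩ := isConj_iff.mp hc
        rw [Set.mem_singleton_iff.mp hx₀]
        exact subset_closure ⟨⟨c * x * c⁻¹, (inferInstance : N.Normal).conj_mem x hxN c⟩,
          hxq.conj c, rfl⟩)
  have hle : normalClosure ({x'} : Set G) ≤ N :=
    normalClosure_le_normal (by rintro y rfl; exact hx'N)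
  have hx'1' : x' ≠ 1 := fun h => hx'1 (Subtype.ext h)
  have heq : normalClosure ({x'} : Set G) = N :=
    eq_of_le_of_card_ge hle (hmin ⟨x', hx'1', hx'q⟩ (Finset.mem_univ _))
  have hx'c' : ∀ c ∈ N, c * x' = x' * c := fun c hc =>
    congrArg Subtype.val (mem_center_iff.mp hx'c ⟨c, hc⟩)
  by_cases hall : ∀ s : G, Quad ρ s → s * x' = x' * s
  · refine ⟨x', hx'1', hx'q, mem_center_iff.mpr fun g => ?_⟩
    have hmem : g ∈ closure {g : G | Quad ρ g} := hgen.ge (mem_top g)
    refine (closure_le (centralizer ({x'} : Set G))).mpr ?_ hmem x' rfl |>.symm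
    intro s hs y hy
    rw [Set.mem_singleton_iff.mp hy]
    exact (hall s hs).symm
  push Not at hall
  obtain ⟨s, hs, hsne⟩ := hall
  exfalso
  have hNn : N.Normal := inferInstance
  set e := x'⁻¹ * (s * x' * s⁻¹) with he
  have heq' : Quad ρ e := quad_aux hp2 hx'q hs (hx'c' _ (hNn.conj_mem x' hx'N s)).symm
    (hx'c' _ (by simpa using hNn.conj_mem x' hx'N s⁻¹)).symm
  have he1 : e ≠ 1 := fun h => hsne (by
    rw [he, inv_mul_eq_one] at h
    exact mul_inv_eq_iff_eq_mul.mp h.symm)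
  have heN : normalClosure ({e} : Set G) ≤ ⁅N, (⊤ : Subgroup G)⁆ := by
    haveI : (⁅N, (⊤ : Subgroup G)⁆).Normal := inferInstance
    refine normalClosure_le_normal ?_
    rintro y rfl
    have := commutator_mem_commutator (inv_mem hx'N) (mem_top s) (H₁ := N) (H₂ := (⊤ : Subgroup G))
    simpa [he, commutatorElement_def, mul_assoc] using this
  have hlt : ⁅N, (⊤ : Subgroup G)⁆ < N := by
    haveI : Group.IsNilpotent G := hG.isNilpotent
    refine lt_of_le_of_ne (commutator_le_left N ⊤) fun h => ?_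
    obtain ⟨k, hk⟩ := Subgroup.nilpotent_iff_lowerCentralSeries.mp (inferInstance : Group.IsNilpotent G)
    have hall : ∀ j, N ≤ Subgroup.lowerCentralSeries (⊤ : Subgroup G) j := by
      intro j
      induction j with
      | zero => exact le_top
      | succ j ihj => exact h ▸ commutator_mono ihj le_rfl
    exact hx1 (mem_bot.mp (hk ▸ hall k hxN))
  have h1 := hmin ⟨e, he1, heq'⟩ (Finset.mem_univ _)
  have h2 : Nat.card (⁅N, (⊤ : Subgroup G)⁆ : Subgroup G) < Nat.card N :=
    lt_of_le_of_ne (card_le_of_le hlt.le) fun hh => hlt.ne (eq_of_le_of_card_ge hlt.le hh.ge)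
  have h3 := card_le_of_le heN
  change Nat.card N ≤ Nat.card (normalClosure ({e} : Set G)) at h1
  omega

/-- The subgroup version. -/
theorem exists_central_quad_mem (hp2 : p ≠ 2) (ρ : G →* Module.End (ZMod p) U)
    (hinj : Function.Injective ρ) {Q : Subgroup G} (hQ : IsPGroup p Q) (hne : Q ≠ ⊥)
    (hgen : Q = closure {g : G | g ∈ Q ∧ Quad ρ g}) :
    ∃ x ∈ Q, x ≠ 1 ∧ Quad ρ x ∧ ∀ g ∈ Q, g * x = x * g := by
  obtain ⟨x, hx1, hxq, hxc⟩ := exists_central_quad hp2 _ Q (ρ.comp Q.subtype) le_rfl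
    (hinj.comp Q.subtype_injective) hQ ((nontrivial_iff_ne_bot Q).mpr hne) (by
      apply map_injective Q.subtype_injective
      rw [MonoidHom.map_closure, ← MonoidHom.range_eq_map, range_subtype]
      conv_rhs => rw [hgen]
      congr 1
      ext g
      exact ⟨fun ⟨⟨h, hh⟩, hq, e⟩ => e ▸ ⟨hh, hq⟩, fun hg => ⟨⟨g, hg.1⟩, hg.2, rfl⟩⟩)
  exact ⟨x, x.2, fun h => hx1 (Subtype.ext h), hxq,
    fun g hg => congrArg Subtype.val (mem_center_iff.mp hxc ⟨g, hg⟩)⟩

end Cfsg.Agent.ZJWeight
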