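import Cfsg.Agent.Lib.ZJWeight.FGroup

/-!
# `F(p)` from a two-dimensional Borel module
-/

set_option autoImplicit false

namespace Cfsg.Agent.ZJWeight

open Subgroup Matrix
open ConjFunctor (cj IsSylIn)
open scoped MatrixGroups

universe u

attribute [-simp] ZMod.inv_coe_unit

variable {p : ℕ} [hp : Fact p.Prime] {G : Type u} [Group G] [Finite G]

theorem fMk_mul (v w : Fin 2 → ZMod p) (q r : SL(2, ZMod p)) (hq : q.1 1 0 = 0) (hr : r.1 1 0 = 0) :
    fMk v q hq * fMk w r hr = fMk (v + q.1 *ᵥ w) (q * r)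
      (by simp [Matrix.mul_apply, Fin.sum_univ_two, hq, hr]) :=
  Subtype.ext (SL2Dickson.block_mul v w q r)

theorem exists_fMk (M : FGrp p) : ∃ v q hq, fMk v q hq = M := by
  obtain ⟨v, q, h⟩ := SL2Dickson.exists_block (M := (M : SL(3, ZMod p)))
    (show (M : SL(3, ZMod p)) ∈ Cfsg.qdOver (ZMod p) from
      (closure_mono fun z hz => ⟨hz.2.1, hz.2.2.1, hz.2.2.2⟩ :
        Cfsg.fOver (ZMod p) ≤ Cfsg.qdOver (ZMod p)) M.2)
  have hq : q.1 1 0 = 0 := by
    have h10 := (fGrp_entries M).1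
    rw [← h] at h10
    simpa using h10
  exact ⟨v, q, hq, Subtype.ext h⟩

theorem eq_neg_self (hp2 : p ≠ 2) {z : ZMod p} (h : z = -z) : z = 0 := by
  have h2 : (2 : ZMod p) * z = 0 := by linear_combination h
  refine (mul_eq_zero.mp h2).resolve_left fun e => hp2 ?_
  rw [show (2 : ZMod p) = ((2 : ℕ) : ZMod p) by norm_num, ZMod.natCast_eq_zero_iff] at e
  exact (Nat.prime_dvd_prime_iff_eq hp.out Nat.prime_two).mp e

/-- `F(p)` from the data of the core lemma. -/
theorem hasF_of_data (hp2 : p ≠ 2) {Wb : Subgroup G} (hWp : IsPGroup p Wb) {x n : G}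
    (a : (ZMod p)ˣ) (ha : ∀ u : (ZMod p)ˣ, u ∈ zpowers a) (b : ZMod p)
    (φ : Wb →* Multiplicative (Fin 2 → ZMod p)) (hφ : Function.Surjective φ)
    (hx : x ∈ normalizer (Wb : Set G)) (hn : n ∈ normalizer (Wb : Set G))
    (hxφ : ∀ w : Wb, (φ ⟨x * w * x⁻¹, (mem_normalizer_iff.mp hx w).mp w.2⟩).toAdd =
      ![(φ w).toAdd 0 + (φ w).toAdd 1, (φ w).toAdd 1])
    (hnφ : ∀ w : Wb, (φ ⟨n * w * n⁻¹, (mem_normalizer_iff.mp hn w).mp w.2⟩).toAdd =
      ![(a : ZMod p) * (φ w).toAdd 0 + b * (φ w).toAdd 1, (a : ZMod p)⁻¹ * (φ w).toAdd 1]) :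
    HasF p (Wb ⊔ closure ({x, n} : Set G)) := by
  classical
  set Γ := closure ({x, n} : Set G) with hΓ
  have hΓN : Γ ≤ normalizer (Wb : Set G) := (closure_le _).mpr (by
    rintro z (rfl | rfl) <;> assumption)
  let cw : ∀ g ∈ normalizer (Wb : Set G), Wb → Wb := fun g hg w =>
    ⟨g * w * g⁻¹, (mem_normalizer_iff.mp hg w).mp w.2⟩
  have hall : ∀ g ∈ Γ, ∀ hg : g ∈ normalizer (Wb : Set G), ∃ M : SL(2, ZMod p), M.1 1 0 = 0 ∧
      ∀ w : Wb, (φ (cw g hg w)).toAdd = M.1 *ᵥ (φ w).toAdd := by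
    intro g hg
    rw [hΓ, ← Subgroup.mem_toSubmonoid, closure_toSubmonoid_of_finite] at hg
    induction hg using Submonoid.closure_induction with
    | mem z hz =>
      intro hzn
      rcases hz with rfl | rfl
      · refine ⟨⟨!![1, 1; 0, 1], by simp [det_fin_two]⟩, by simp, fun w => ?_⟩
        refine (hxφ w).trans ?_
        ext i; fin_cases i <;> simp [Matrix.mulVec, dotProduct, Fin.sum_univ_two]
      · refine ⟨⟨!![(a : ZMod p), b; 0, (a : ZMod p)⁻¹], by
          rw [det_fin_two_of, mul_inv_cancel₀ a.ne_zero, mul_zero, sub_zero]⟩, by simp, fun w => ?_⟩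
        refine (hnφ w).trans ?_
        ext i; fin_cases i <;> simp [Matrix.mulVec, dotProduct, Fin.sum_univ_two]
    | one =>
      intro h1
      refine ⟨1, by simp, fun w => ?_⟩
      rw [show cw 1 h1 w = w from Subtype.ext (by simp [cw])]
      simp
    | mul g h hg' hh' ihg ihh =>
      intro hgh
      have hgN : g ∈ normalizer (Wb : Set G) := hΓN (by
        rw [hΓ, ← Subgroup.mem_toSubmonoid, closure_toSubmonoid_of_finite]; exact hg')
      have hhN : h ∈ normalizer (Wb : Set G) := hΓN (by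
        rw [hΓ, ← Subgroup.mem_toSubmonoid, closure_toSubmonoid_of_finite]; exact hh')
      obtain ⟨M, hM0, hM⟩ := ihg hgN
      obtain ⟨M', hM'0, hM'⟩ := ihh hhN
      refine ⟨M * M', by simp [Matrix.mul_apply, Fin.sum_univ_two, hM0, hM'0], fun w => ?_⟩
      rw [show cw (g * h) hgh w = cw g hgN (cw h hhN w) from Subtype.ext (by simp [cw, mul_assoc]),
        hM, hM', Matrix.mulVec_mulVec]
      rfl
  choose θf hθ0 hθ using fun g : Γ => hall g g.2 (hΓN g.2)
  have huniq : ∀ (g : Γ) (M : SL(2, ZMod p)),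
      (∀ w : Wb, (φ (cw g (hΓN g.2) w)).toAdd = M.1 *ᵥ (φ w).toAdd) → θf g = M := by
    intro g M hM
    refine Subtype.ext (Matrix.toLin'.injective (LinearMap.ext fun v => ?_))
    obtain ⟨w, hw⟩ := hφ (Multiplicative.ofAdd v)
    simp only [Matrix.toLin'_apply]
    have h2 := hM w
    rw [hθ g w, hw] at h2
    simpa using h2
  let θ : Γ →* SL(2, ZMod p) := MonoidHom.mk' θf fun g h => huniq (g * h) _ fun w => by
    rw [show cw ((g * h : Γ) : G) (hΓN (g * h).2) w = cw g (hΓN g.2) (cw h (hΓN h.2) w) from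
      Subtype.ext (by simp [cw, mul_assoc]), hθ, hθ, Matrix.mulVec_mulVec]
    rfl
  have hθx : (θ ⟨x, subset_closure (Set.mem_insert x {n})⟩).1 = !![1, 1; 0, 1] := by
    rw [show θ ⟨x, subset_closure (Set.mem_insert x {n})⟩ = (⟨!![1, 1; 0, 1],
      by simp [det_fin_two]⟩ : SL(2, ZMod p)) from huniq _ _ fun w => by
        refine (hxφ w).trans ?_
        ext i; fin_cases i <;> simp [Matrix.mulVec, dotProduct, Fin.sum_univ_two]]
  have hnΓ : n ∈ Γ := subset_closure (Set.mem_insert_of_mem x rfl)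
  have hθn : (θ ⟨n, hnΓ⟩).1 = !![(a : ZMod p), b; 0, (a : ZMod p)⁻¹] := by
    rw [show θ ⟨n, hnΓ⟩ = (⟨!![(a : ZMod p), b; 0, (a : ZMod p)⁻¹], by
      rw [det_fin_two_of, mul_inv_cancel₀ a.ne_zero, mul_zero, sub_zero]⟩ : SL(2, ZMod p)) from
        huniq _ _ fun w => by
          refine (hnφ w).trans ?_
          ext i; fin_cases i <;> simp [Matrix.mulVec, dotProduct, Fin.sum_univ_two]]
  -- the Borel subgroup is the image
  have honto : ∀ M : SL(2, ZMod p), M.1 1 0 = 0 → ∃ g, θ g = M := by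
    intro M hM
    have hMd : M.1 0 0 * M.1 1 1 = 1 := by
      have hd := M.2
      rw [det_fin_two, hM] at hd
      linear_combination hd
    obtain ⟨j, hj⟩ := mem_zpowers_iff.mp (ha (Units.mkOfMulEqOne _ _ hMd))
    obtain ⟨j', hj'⟩ := Submonoid.mem_powers_iff _ _ |>.mp
      ((isOfFinOrder_of_finite (⟨n, hnΓ⟩ : Γ)).mem_powers_iff_mem_zpowers.mpr ⟨j, rfl⟩ :
        (⟨n, hnΓ⟩ : Γ) ^ j ∈ Submonoid.powers (⟨n, hnΓ⟩ : Γ))
    have hpowu : ∀ (i : ℕ), (θ (⟨n, hnΓ⟩ ^ i)).1 0 0 = (a : ZMod p) ^ i ∧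
        (θ (⟨n, hnΓ⟩ ^ i)).1 1 0 = 0 := by
      intro i
      induction i with
      | zero => simp
      | succ i ih =>
        obtain ⟨i1, i2⟩ := ih
        rw [pow_succ, map_mul, Transfer.sl_val_mul, hθn]
        generalize (θ (⟨n, hnΓ⟩ ^ i)).1 = P at i1 i2 ⊢
        constructor <;> simp [Matrix.mul_apply, Fin.sum_univ_two, i1, i2, pow_succ]
    obtain ⟨h00, h10⟩ := hpowu j'
    have h00' : (θ (⟨n, hnΓ⟩ ^ j')).1 0 0 = M.1 0 0 := by
      have hkey : ∀ (i : ℤ) (i' : ℕ), (⟨n, hnΓ⟩ : Γ) ^ i' = (⟨n, hnΓ⟩ : Γ) ^ i →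
          ((a ^ i : (ZMod p)ˣ) : ZMod p) = (a : ZMod p) ^ i' := by
        intro i i' he
        let χ : Γ →* (ZMod p)ˣ := MonoidHom.mk'
          (fun g => Units.mkOfMulEqOne ((θ g).1 0 0) ((θ g).1 1 1) (by
            have hd := (θ g).2
            rw [det_fin_two, show (θ g).1 1 0 = 0 from hθ0 g] at hd
            linear_combination hd))
          fun g h => Units.ext (by
            simp [Matrix.mul_apply, Fin.sum_univ_two, show (θ h).1 1 0 = 0 from hθ0 h])
        have hχ : χ ⟨n, hnΓ⟩ = a := Units.ext (by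
          show (θ ⟨n, hnΓ⟩).1 0 0 = (a : ZMod p)
          rw [hθn]; simp)
        have := congrArg χ he
        rw [map_pow, map_zpow, hχ] at this
        rw [← this, Units.val_pow_eq_pow_val]
      rw [h00, ← hkey j j' hj', hj]
      rfl
    set N := (θ (⟨n, hnΓ⟩ ^ j'))⁻¹ * M with hN
    have hN10 : N.1 1 0 = 0 := by
      rw [hN, Transfer.sl_val_mul, Matrix.SpecialLinearGroup.coe_inv, Matrix.adjugate_fin_two]
      generalize (θ (⟨n, hnΓ⟩ ^ j')).1 = P at h10 ⊢
      simp [Matrix.mul_apply, Fin.sum_univ_two, h10, hM]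
    have hN00 : N.1 0 0 = 1 := by
      have hd : (θ (⟨n, hnΓ⟩ ^ j')).1 0 0 * (θ (⟨n, hnΓ⟩ ^ j')).1 1 1 = 1 := by
        have hd := (θ (⟨n, hnΓ⟩ ^ j')).2
        rw [det_fin_two, h10] at hd
        linear_combination hd
      rw [hN, Transfer.sl_val_mul, Matrix.SpecialLinearGroup.coe_inv, Matrix.adjugate_fin_two]
      generalize (θ (⟨n, hnΓ⟩ ^ j')).1 = P at h10 h00' hd ⊢
      simp [Matrix.mul_apply, Fin.sum_univ_two, hM, ← h00']
      linear_combination hd
    have hN11 : N.1 1 1 = 1 := by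
      have hd := N.2
      rw [det_fin_two, hN10, hN00] at hd
      linear_combination hd
    have hxp : ∀ i : ℕ, (θ (⟨x, subset_closure (Set.mem_insert x {n})⟩ ^ i)).1 =
        !![1, (i : ZMod p); 0, 1] := by
      intro i
      induction i with
      | zero => simp [one_fin_two]
      | succ i ih =>
        rw [pow_succ, map_mul, Transfer.sl_val_mul, hθx, ih]
        ext r s; fin_cases r <;> fin_cases s <;> simp [Matrix.mul_apply, Fin.sum_univ_two, add_comm]
    refine ⟨⟨n, hnΓ⟩ ^ j' * ⟨x, subset_closure (Set.mem_insert x {n})⟩ ^ (N.1 0 1).val, ?_⟩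
    rw [map_mul, show θ (⟨x, subset_closure (Set.mem_insert x {n})⟩ ^ (N.1 0 1).val) = N from
      Subtype.ext (by
        rw [hxp, ZMod.natCast_zmod_val]
        ext r s
        fin_cases r <;> fin_cases s <;> simp [hN10, hN00, hN11]), hN, mul_inv_cancel_left]
  let J : SL(2, ZMod p) := ⟨-1, by simp [det_fin_two]⟩
  have hJv : J.1 = -1 := rfl
  have hJc : ∀ M : SL(2, ZMod p), M * J = J * M := fun M => Subtype.ext (by
    rw [Transfer.sl_val_mul, Transfer.sl_val_mul, hJv, mul_neg, mul_one, neg_mul, one_mul])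
  have hJ2 : J * J = 1 := Subtype.ext (by rw [Transfer.sl_val_mul, hJv]; simp)
  obtain ⟨s₀, hs₀⟩ := honto J (by simp [hJv])
  obtain ⟨e, m, hm, hord⟩ := Nat.exists_eq_pow_mul_and_not_dvd (orderOf_pos s₀).ne' 2 (by norm_num)
  set s := s₀ ^ m with hs
  have hsθ : θ s = J := by
    obtain ⟨r, rfl⟩ : Odd m := Nat.not_even_iff_odd.mp fun he => hm (even_iff_two_dvd.mp he)
    rw [hs, map_pow, hs₀, pow_succ, pow_mul, pow_two, hJ2, one_pow, one_mul]
  have hs2 : IsPGroup 2 (zpowers s) := by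
    rintro ⟨z, hz⟩
    obtain ⟨r, rfl⟩ := mem_zpowers_iff.mp hz
    refine ⟨e, Subtype.ext ?_⟩
    show (s ^ r) ^ 2 ^ e = 1
    rw [hs, ← _root_.zpow_natCast, ← _root_.zpow_mul, mul_comm r, _root_.zpow_mul,
      _root_.zpow_natCast, ← pow_mul, mul_comm m, ← hord, pow_orderOf_eq_one, _root_.one_zpow]
  haveI : Fact (Nat.Prime 2) := ⟨Nat.prime_two⟩
  set ZJ : Subgroup SL(2, ZMod p) := zpowers J
  haveI hZJn : ZJ.Normal := ⟨fun z hz M => by
    obtain ⟨r, rfl⟩ := mem_zpowers_iff.mp hz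
    rw [((show Commute M J from hJc M).zpow_right r).eq, mul_inv_cancel_right]
    exact zpow_mem (mem_zpowers J) r⟩
  set Z2 := ZJ.comap θ with hZ2
  haveI hZ2n : Z2.Normal := hZJn.comap θ
  have hsZ : s ∈ Z2 := by rw [hZ2, mem_comap, hsθ]; exact mem_zpowers J
  obtain ⟨S2, hS2⟩ := (hs2.comap_subtype (K := Z2)).exists_le_sylow
  set N := normalizer (((S2 : Subgroup Z2).map Z2.subtype : Subgroup Γ) : Set Γ) with hN
  have hsup : N ⊔ Z2 = ⊤ := Sylow.normalizer_sup_eq_top S2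
  have hsS : s ∈ (S2 : Subgroup Z2).map Z2.subtype :=
    ⟨⟨s, hsZ⟩, hS2 (show (⟨s, hsZ⟩ : Z2) ∈ (zpowers s).comap Z2.subtype from mem_zpowers s), rfl⟩
  have hsN : s ∈ N := le_normalizer hsS
  have hNonto : ∀ M : SL(2, ZMod p), M.1 1 0 = 0 → ∃ g ∈ N, θ g = M := by
    intro M hM
    obtain ⟨g, hg⟩ := honto M hM
    have : g ∈ N ⊔ Z2 := by rw [hsup]; trivial
    obtain ⟨n', hn', z, hz, rfl⟩ := mem_sup_of_normal_right.mp this
    obtain ⟨r, hr⟩ := mem_zpowers_iff.mp (show θ z ∈ ZJ from hz)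
    refine ⟨n' * s ^ r, mul_mem hn' (zpow_mem hsN r), ?_⟩
    rw [map_mul, map_zpow, hsθ, hr, ← map_mul, hg]
  -- the homomorphism
  let fA : Wb →* FGrp p := MonoidHom.mk' (fun w => fMk (φ w).toAdd 1 (by simp)) fun w w' =>
    Subtype.ext (by
      show SL2Dickson.block _ _ = SL2Dickson.block _ _ * SL2Dickson.block _ _
      rw [SL2Dickson.block_mul, map_mul, toAdd_mul, mul_one, Transfer.sl_val_one, one_mulVec])
  set B := N.map Γ.subtype with hB
  have hBΓ : B ≤ Γ := map_subtype_le _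
  let fB : B →* FGrp p := MonoidHom.mk' (fun g => fMk 0 (θ ⟨g, hBΓ g.2⟩) (hθ0 _)) fun g g' =>
    Subtype.ext (by
      show SL2Dickson.block _ _ = SL2Dickson.block _ _ * SL2Dickson.block _ _
      rw [SL2Dickson.block_mul, mulVec_zero, add_zero, ← map_mul]
      rfl)
  obtain ⟨f, hfA, hfB⟩ := exists_hom_of_graph fA fB (hBΓ.trans hΓN) (fun g hgW hgB => by
      obtain ⟨gb, hgN, rfl⟩ := hgB
      refine Subtype.ext (congrArg₂ SL2Dickson.block ?_ ?_)
      · -- `φ` vanishes on `W ∩ N`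
        set w : Wb := ⟨gb, hgW⟩
        have hc : s * gb * s⁻¹ * gb⁻¹ ∈ (S2 : Subgroup Z2).map Z2.subtype := by
          have h1 := (mem_normalizer_iff.mp hgN s⁻¹).mp (inv_mem hsS)
          simpa [mul_assoc] using mul_mem hsS h1
        have hcW : ((s * gb * s⁻¹ * gb⁻¹ : Γ) : G) ∈ Wb :=
          mul_mem (cw s (hΓN s.2) w).2 (inv_mem hgW)
        obtain ⟨r, hr⟩ := (S2.isPGroup'.map Z2.subtype) ⟨_, hc⟩
        obtain ⟨r', hr'⟩ := hWp ⟨_, hcW⟩
        have h1 : ((s * gb * s⁻¹ * gb⁻¹ : Γ) : G) = 1 := by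
          refine orderOf_eq_one_iff.mp (Nat.eq_one_of_dvd_coprimes
            (show Nat.Coprime (2 ^ r) (p ^ r') from Nat.Coprime.pow r r'
              ((Nat.coprime_primes Nat.prime_two hp.out).mpr (Ne.symm hp2))) ?_
            (orderOf_dvd_of_pow_eq_one (congrArg Subtype.val hr')))
          refine orderOf_dvd_of_pow_eq_one ?_
          have := congrArg (fun z : (S2 : Subgroup Z2).map Z2.subtype => ((z : Γ) : G)) hr
          simpa using this
        have h2 : cw s (hΓN s.2) w = w := Subtype.ext (by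
          show (s : G) * gb * (s : G)⁻¹ = gb
          exact mul_inv_eq_one.mp (by simpa using h1))
        have h3 := hθ s w
        rw [h2, show θf s = θ s from rfl, hsθ, hJv, neg_mulVec, one_mulVec] at h3
        funext i
        exact eq_neg_self hp2 (by simpa using congrFun h3 i)
      · refine (huniq _ _ fun v => ?_).symm
        rw [Transfer.sl_val_one, one_mulVec]
        have e : cw (gb : G) (hΓN gb.2) v = (⟨gb, hgW⟩ : Wb) * v * (⟨gb, hgW⟩ : Wb)⁻¹ :=
          Subtype.ext rfl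
        refine Eq.trans (congrArg (fun z => (φ z).toAdd) e) ?_
        refine congrArg Multiplicative.toAdd ?_
        rw [map_mul φ, map_mul φ, map_inv φ, mul_comm (φ _) (φ v), mul_inv_cancel_right])
    (fun g w => by
      rw [eq_mul_inv_iff_mul_eq]
      refine Subtype.ext ?_
      show SL2Dickson.block _ _ * SL2Dickson.block _ _ = SL2Dickson.block _ _ * SL2Dickson.block _ _
      rw [SL2Dickson.block_mul, SL2Dickson.block_mul]
      refine congrArg₂ SL2Dickson.block ?_ (by rw [one_mul, mul_one])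
      rw [mulVec_zero, add_zero, zero_add]
      exact hθ ⟨g, hBΓ g.2⟩ w)
  refine ⟨_, sup_le_sup_left hBΓ Wb, f, fun M => ?_⟩
  obtain ⟨v, q, hq, rfl⟩ := exists_fMk M
  obtain ⟨w, hw⟩ := hφ (Multiplicative.ofAdd v)
  obtain ⟨g, hg, hgq⟩ := hNonto q hq
  refine ⟨⟨(w : G), mem_sup_left w.2⟩ * ⟨(g : G), mem_sup_right ⟨g, hg, rfl⟩⟩, ?_⟩
  rw [map_mul, hfA w, show f ⟨(g : G), mem_sup_right ⟨g, hg, rfl⟩⟩ = fB ⟨g, ⟨g, hg, rfl⟩⟩ from
    hfB ⟨g, ⟨g, hg, rfl⟩⟩]
  refine Subtype.ext ?_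
  show SL2Dickson.block _ _ * SL2Dickson.block _ _ = SL2Dickson.block v q
  rw [SL2Dickson.block_mul, hw, mulVec_zero, add_zero, one_mul]
  show SL2Dickson.block v (θ g) = _
  rw [hgq]

end Cfsg.Agent.ZJWeight
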