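import Cfsg.Agent.Lib.ZJWeight.Local
import Cfsg.Agent.Lib.ZJWeight.FData
import Cfsg.Agent.Lib.ConjFunctor.Sections

/-!
# `F(p)` climbs to the normalizer of `Z(J(S))`
-/

set_option autoImplicit false

namespace Cfsg.Agent.ZJWeight

open Subgroup
open ConjFunctor (cj IsSylIn nS)
open Transfer (ZJAb JAb)

universe u

variable {p : ℕ} [hp : Fact p.Prime] {G : Type u} [Group G] [Finite G]

/-- `F(p)` in `G` gives `F(p)` in `N(Z(J(S)))`. -/
def Phi (p : ℕ) [Fact p.Prime] (G : Type u) [Group G] [Finite G] : Prop :=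
  ∀ S : Sylow p G, HasF p (⊤ : Subgroup G) →
    HasF p (normalizer (ZJAb 0 (S : Subgroup G) : Set G))

omit [Finite G] hp in
theorem map_conj_ZJAb (g : G) (T : Subgroup G) :
    ZJAb 0 (cj g T) = cj g (ZJAb 0 T) :=
  (Transfer.map_ZJAb T (MulAut.conj g).toMonoidHom (MulAut.conj g).injective.injOn).symm

omit [Finite G] in
theorem HasF.conj {H : Subgroup G} (h : HasF p H) (g : G) : HasF p (cj g H) :=
  h.map _ (MulAut.conj g).injective

omit [Finite G] in
theorem HasF.top_subgroup {M : Subgroup G} (h : HasF p M) : HasF p (⊤ : Subgroup M) := by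
  have := h.comap M.subtype (range_subtype M).ge
  exact this.mono le_top

theorem exists_ne_one_fGrp : ∃ M ∈ (fChar p).ker, M ≠ 1 := by
  refine ⟨fMk ![1, 0] 1 (by simp), MonoidHom.mem_ker.mpr (Units.ext ?_), fun h => ?_⟩
  · rw [fChar_val]; simp [fMk]
  · have := congrArg (fun M : FGrp p => M.1.1 0 2) h
    simp [fMk] at this

/-- The configuration in a whole group. -/
theorem exists_normalizer_hasF (hp2 : p ≠ 2) {H : Subgroup G} (h : HasF p H) :
    ∃ P : Subgroup G, P ≠ ⊥ ∧ IsPGroup p P ∧ HasF p (normalizer (P : Set G)) := by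
  obtain ⟨P, n, -, -, hPp, hn, f, hf, hfull⟩ := h.exists_config hp2
  refine ⟨P, fun hbot => ?_, hPp, P ⊔ zpowers n, sup_le le_normalizer (zpowers_le.mpr hn), f, hf⟩
  obtain ⟨M, hM, hne⟩ := exists_ne_one_fGrp (p := p)
  obtain ⟨⟨z, hz⟩, rfl⟩ := hfull M hM
  subst hbot
  refine hne ?_
  rw [show (⟨z, hz⟩ : (⊥ : Subgroup G)) = 1 from Subtype.ext (mem_bot.mp hz), map_one, map_one]

/-- In a subgroup. -/
theorem phi_sub {M T : Subgroup G} (hphi : Phi p M) (hT : IsSylIn p T M) (h : HasF p M) :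
    HasF p (M ⊓ normalizer (ZJAb 0 T : Set G)) := by
  let TM : Sylow p M := (hT.2.1.comap_subtype (K := M)).toSylow hT.2.2
  have hTM : (TM : Subgroup M).map M.subtype = T := by
    show (T.comap M.subtype).map M.subtype = T
    rw [map_comap_eq, range_subtype, inf_eq_right.mpr hT.1]
  have h1 := (hphi TM h.top_subgroup).map M.subtype M.subtype_injective
  refine h1.mono (le_inf (map_subtype_le _) ?_)
  refine (le_normalizer_map M.subtype).trans ?_
  rw [Transfer.map_ZJAb _ _ M.subtype_injective.injOn, hTM]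

/-- Climbing through proper local subgroups. -/
theorem climb (hphi : ∀ M : Subgroup G, M ≠ ⊤ → Phi p M) (S : Sylow p G)
    (hop : ∀ R : Subgroup G, IsPGroup p R → normalizer (R : Set G) = ⊤ → R = ⊥) :
    ∀ U : Subgroup G, U ≠ ⊥ → IsPGroup p U → HasF p (normalizer (U : Set G)) →
      HasF p (normalizer (ZJAb 0 (S : Subgroup G) : Set G)) := by
  suffices key : ∀ k, ∀ U T : Subgroup G, U ≠ ⊥ → IsPGroup p U →
      IsSylIn p T (normalizer (U : Set G)) → HasF p (normalizer (U : Set G)) →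
      Nat.card (S : Subgroup G) ≤ Nat.card T + k →
      HasF p (normalizer (ZJAb 0 (S : Subgroup G) : Set G)) by
    intro U hU hUp h
    obtain ⟨T, hT⟩ := ConjFunctor.exists_isSylIn (p := p) (normalizer (U : Set G))
    exact key _ U T hU hUp hT h (Nat.le_add_left _ _)
  intro k
  induction k using Nat.strong_induction_on with
  | _ k ih =>
  intro U T hU hUp hT hF hk
  have hne : normalizer (U : Set G) ≠ ⊤ := fun e => hU (hop U hUp e)
  have h1 := (phi_sub (hphi _ hne) hT hF).mono inf_le_right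
  obtain ⟨g, -, hg⟩ := ConjFunctor.exists_conj_le_of_isSylIn (ConjFunctor.isSylIn_top S)
    (le_top : T ≤ ⊤) hT.2.1
  by_cases hTS : cj g T = (S : Subgroup G)
  · have := h1.conj g
    rwa [ConjFunctor.cj_normalizer, ← map_conj_ZJAb, hTS] at this
  have hT0 : T ≠ ⊥ := by
    intro h
    have hle := ConjFunctor.exists_conj_le_of_isSylIn hT le_normalizer hUp
    obtain ⟨l, -, hl⟩ := hle
    rw [h] at hl
    exact hU (ConjFunctor.cj_eq_bot.mp (le_bot_iff.mp hl))
  set T₁ := cj g T with hT₁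
  set U' := ZJAb 0 T₁ with hU'
  have hT₁S : T₁ ≤ (S : Subgroup G) := hg
  have hT₁0 : T₁ ≠ ⊥ := fun h => hT0 (ConjFunctor.cj_eq_bot.mp h)
  have hU'p : IsPGroup p U' := (S.2.to_le hT₁S).to_le (Transfer.ZJAb_le _)
  obtain ⟨T', hT', hle⟩ := ConjFunctor.exists_isSylIn_ge (p := p)
    (show nS (S : Subgroup G) T₁ ≤ normalizer (U' : Set G) from
      inf_le_right.trans (Transfer.normalizer_le_normalizer_ZJAb _)) S.2.to_inf_left
  have hlt : Nat.card T < Nat.card T' := by
    rw [← ConjFunctor.cj_card g T]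
    refine lt_of_lt_of_le ?_ (card_le_of_le hle)
    exact lt_of_le_of_ne (card_le_of_le (ConjFunctor.le_nS hT₁S)) fun e =>
      (ConjFunctor.lt_nS S.2 hT₁S hTS).ne (eq_of_le_of_card_ge (ConjFunctor.le_nS hT₁S) e.ge)
  refine ih (k - 1) ?_ U' T' (Transfer.ZJAb_ne_bot (p := p) (Or.inl rfl) (S.2.to_le hT₁S) hT₁0)
    hU'p hT' ?_ (by omega)
  · have : Nat.card T < Nat.card (S : Subgroup G) := by
      rw [← ConjFunctor.cj_card g T]
      exact lt_of_le_of_ne (card_le_of_le hT₁S) fun e => hTS (eq_of_le_of_card_ge hT₁S e.ge)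
    omega
  · have := h1.conj g
    rwa [ConjFunctor.cj_normalizer, ← map_conj_ZJAb] at this

/-- Through the quotient by `O_p(G)`. -/
theorem hasF_of_quotient (hp2 : p ≠ 2) (hphi : ∀ M : Subgroup G, M ≠ ⊤ → Phi p M)
    [(Cfsg.pCore p G).Normal] (hphiq : Phi p (G ⧸ Cfsg.pCore p G)) (S : Sylow p G)
    (h : HasF p (⊤ : Subgroup (G ⧸ Cfsg.pCore p G))) :
    HasF p (normalizer (ZJAb 0 (S : Subgroup G) : Set G)) := by
  set q := QuotientGroup.mk' (Cfsg.pCore p G) with hqdef
  have hq : Function.Surjective q := QuotientGroup.mk'_surjective _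
  let S' : Sylow p (G ⧸ Cfsg.pCore p G) := S.mapSurjective hq
  have hS' : (S' : Subgroup (G ⧸ Cfsg.pCore p G)) = (S : Subgroup G).map q :=
    Sylow.coe_mapSurjective hq S
  set N' := normalizer
    (ZJAb 0 (S' : Subgroup (G ⧸ Cfsg.pCore p G)) : Set (G ⧸ Cfsg.pCore p G)) with hN'
  have h1 : HasF p (N'.comap q) := (hphiq S' h).comap q (by
    rw [MonoidHom.range_eq_top_of_surjective q hq]; exact le_top)
  have hS'0 : (S' : Subgroup (G ⧸ Cfsg.pCore p G)) ≠ ⊥ := by
    intro hbot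
    obtain ⟨P, hP0, hPp, -⟩ := exists_normalizer_hasF hp2 h
    obtain ⟨g, -, hle⟩ := ConjFunctor.exists_conj_le_of_isSylIn (ConjFunctor.isSylIn_top S')
      (le_top : P ≤ ⊤) hPp
    rw [hbot] at hle
    exact hP0 (ConjFunctor.cj_eq_bot.mp (le_bot_iff.mp hle))
  have hSM : (S : Subgroup G) ≤ N'.comap q := fun s hs => by
    rw [mem_comap, hN']
    exact Transfer.normalizer_le_normalizer_ZJAb _ (le_normalizer (hS' ▸ mem_map_of_mem q hs))
  have hne : N'.comap q ≠ ⊤ := by
    intro e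
    have htop : N' = ⊤ := by
      rw [← map_comap_eq_self_of_surjective hq N', e, map_top_of_surjective q hq]
    refine Transfer.ZJAb_ne_bot (p := p) (Or.inl rfl) S'.2 hS'0 (le_bot_iff.mp ?_)
    rw [← ConjFunctor.pCore_quotient_pCore (X := G) (p := p)]
    exact ConjFunctor.le_pCore_of_normalizer (S'.2.to_le (Transfer.ZJAb_le _)) htop
  exact (phi_sub (hphi _ hne) (ConjFunctor.isSylIn_of_le (ConjFunctor.isSylIn_top S) hSM le_top)
    h1).mono inf_le_right

end Cfsg.Agent.ZJWeight
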