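import Cfsg.Agent.Lib.ZJWeight.Out
import Cfsg.Agent.Lib.ConjFunctor.Basic

/-!
# Passing the outcome through subspaces, quotients and subgroups
-/

set_option autoImplicit false

namespace Cfsg.Agent.ZJWeight

open Subgroup

universe u v

variable {p : ℕ} [hp : Fact p.Prime] {U : Type v} [AddCommGroup U] [Module (ZMod p) U]
  {G : Type u} [Group G]

/-- The subgroup generated by the quadratically acting elements of `T`. -/
def qGen (ρ : G →* Module.End (ZMod p) U) (T : Subgroup G) : Subgroup G :=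
  closure {t | t ∈ T ∧ Quad ρ t}

theorem qGen_le (ρ : G →* Module.End (ZMod p) U) (T : Subgroup G) : qGen ρ T ≤ T :=
  (closure_le _).mpr fun _ h => h.1

theorem mem_qGen {ρ : G →* Module.End (ZMod p) U} {T : Subgroup G} {t : G} (ht : t ∈ T)
    (hq : Quad ρ t) : t ∈ qGen ρ T := subset_closure ⟨ht, hq⟩

theorem qGen_fix {ρ : G →* Module.End (ZMod p) U} [Finite G] {T : Subgroup G} {z : U}
    (h : ∀ t ∈ T, Quad ρ t → ρ t z = z) {g : G} (hg : g ∈ qGen ρ T) : ρ g z = z := by
  rw [qGen, ← Subgroup.mem_toSubmonoid, closure_toSubmonoid_of_finite] at hg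
  induction hg using Submonoid.closure_induction with
  | mem t ht => exact h t ht.1 ht.2
  | one => simp
  | mul a b _ _ ha hb => rw [map_mul, Module.End.mul_apply, hb, ha]

variable [Finite G]

/-- A normalizer of a larger generated subgroup normalizes the smaller one. -/
theorem mem_normalizer_qGen {ρ : G →* Module.End (ZMod p) U} {T Q' : Subgroup G} (hQ' : Q' ≤ T)
    (hle : qGen ρ T ≤ Q') {h : G} (hh : h ∈ normalizer (Q' : Set G)) :
    h ∈ normalizer (qGen ρ T : Set G) := by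
  refine ConjFunctor.cj_eq_iff.mp (eq_of_le_of_card_ge ?_ (by rw [ConjFunctor.cj_card]))
  rw [ConjFunctor.cj, qGen, MonoidHom.map_closure, closure_le]
  rintro _ ⟨t, ⟨ht, hq⟩, rfl⟩
  exact mem_qGen (hQ' ((mem_normalizer_iff.mp hh t).mp (hle (mem_qGen ht hq)))) (hq.conj h)

theorem le_normalizer_qGen (ρ : G →* Module.End (ZMod p) U) (T : Subgroup G) :
    T ≤ normalizer (qGen ρ T : Set G) := fun _ ht =>
  mem_normalizer_qGen (le_refl T) (qGen_le ρ T) (le_normalizer ht)

/-- Restriction of the action to an invariant subspace. -/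
def subRep (ρ : G →* Module.End (ZMod p) U) (U' : Submodule (ZMod p) U)
    (h : ∀ g : G, ∀ z ∈ U', ρ g z ∈ U') : G →* Module.End (ZMod p) U' where
  toFun g := (ρ g).restrict (h g)
  map_one' := LinearMap.ext fun z => Subtype.ext (by simp [LinearMap.restrict_coe_apply])
  map_mul' a b := LinearMap.ext fun z => Subtype.ext (by simp [LinearMap.restrict_coe_apply])

theorem subRep_apply (ρ : G →* Module.End (ZMod p) U) (U' : Submodule (ZMod p) U)
    (h : ∀ g : G, ∀ z ∈ U', ρ g z ∈ U') (g : G) (z : U') :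
    ((subRep ρ U' h g z : U') : U) = ρ g z := rfl

theorem Quad.subRep {ρ : G →* Module.End (ZMod p) U} {U' : Submodule (ZMod p) U}
    {h : ∀ g : G, ∀ z ∈ U', ρ g z ∈ U'} {g : G} (hg : Quad ρ g) :
    Quad (ZJWeight.subRep ρ U' h) g := by
  refine LinearMap.ext fun z => Subtype.ext ?_
  have := LinearMap.congr_fun hg (z : U)
  simpa [Module.End.mul_apply, subRep_apply] using this

/-- The action on a quotient by an invariant subspace. -/
def quotRep (ρ : G →* Module.End (ZMod p) U) (Y : Submodule (ZMod p) U)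
    (h : ∀ g : G, ∀ z ∈ Y, ρ g z ∈ Y) : G →* Module.End (ZMod p) (U ⧸ Y) where
  toFun g := Y.mapQ Y (ρ g) (fun z hz => h g z hz)
  map_one' := Submodule.linearMap_qext _ (LinearMap.ext fun z => by simp)
  map_mul' a b := Submodule.linearMap_qext _ (LinearMap.ext fun z => by simp)

theorem quotRep_mk (ρ : G →* Module.End (ZMod p) U) (Y : Submodule (ZMod p) U)
    (h : ∀ g : G, ∀ z ∈ Y, ρ g z ∈ Y) (g : G) (z : U) :
    quotRep ρ Y h g (Submodule.Quotient.mk z) = Submodule.Quotient.mk (ρ g z) := rfl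

omit [Finite G] in
theorem Quad.quotRep {ρ : G →* Module.End (ZMod p) U} {Y : Submodule (ZMod p) U}
    {h : ∀ g : G, ∀ z ∈ Y, ρ g z ∈ Y} {g : G} (hg : Quad ρ g) :
    Quad (ZJWeight.quotRep ρ Y h) g := by
  refine Submodule.linearMap_qext _ (LinearMap.ext fun z => ?_)
  have h1 := congrArg (Submodule.Quotient.mk (p := Y)) (LinearMap.congr_fun hg z)
  simp only [Module.End.mul_apply, LinearMap.sub_apply, Module.End.one_apply,
    LinearMap.zero_apply, Submodule.Quotient.mk_sub, Submodule.Quotient.mk_zero] at h1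
  simp only [LinearMap.comp_apply, Submodule.mkQ_apply, Module.End.mul_apply, LinearMap.sub_apply,
    Module.End.one_apply, LinearMap.zero_apply, ZJWeight.quotRep_mk]
  exact h1

variable {a : ZMod p}

theorem Out.of_subRep {ρ : G →* Module.End (ZMod p) U} {U' X N : Submodule (ZMod p) U}
    {h : ∀ g : G, ∀ z ∈ U', ρ g z ∈ U'} (hXU : X ≤ U')
    (ho : Out (subRep ρ U' h) (X.comap U'.subtype) (N.comap U'.subtype) a) : Out ρ X N a := by
  obtain ⟨x, n, hx, hn, ⟨c, hc, hc0, hcn⟩, W, φ, b, hs, hW, hWN⟩ := ho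
  obtain ⟨φ', hφ'⟩ := LinearMap.exists_extend φ
  have hφ : ∀ w : U', φ' (w : U) = φ w := fun w => LinearMap.congr_fun hφ' w
  refine ⟨x, n, fun z hz => hx ⟨z, hXU hz⟩ hz, fun z hz => hn ⟨z, hXU hz⟩ hz,
    ⟨c, hc, fun e => hc0 (Subtype.ext e), congrArg Subtype.val hcn⟩, W.map U'.subtype, φ', b,
    fun v => ?_, ?_, ?_⟩
  · obtain ⟨w, hw, rfl⟩ := hs v
    exact ⟨w, ⟨w, hw, rfl⟩, hφ w⟩
  · rintro _ ⟨w, hw, rfl⟩
    obtain ⟨h1, h2, h3, h4⟩ := hW w hw
    simp only [Submodule.subtype_apply]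
    rw [← subRep_apply ρ U' h x w, ← subRep_apply ρ U' h n w, hφ, hφ, hφ]
    exact ⟨⟨_, h1, rfl⟩, ⟨_, h2, rfl⟩, h3, h4⟩
  · rintro _ ⟨w, hw, rfl⟩ hwN
    rw [Submodule.subtype_apply, hφ]
    exact hWN w hw hwN

theorem Out.of_quotRep [Finite U] {ρ : G →* Module.End (ZMod p) U} {Y X N : Submodule (ZMod p) U}
    {h : ∀ g : G, ∀ z ∈ Y, ρ g z ∈ Y} (hYX : Y ≤ X)
    (ho : Out (quotRep ρ Y h) (X.map Y.mkQ) (N.map Y.mkQ) a) : Out ρ X N a := by
  obtain ⟨x, n, hx, hn, ⟨c, ⟨c', hc', rfl⟩, hc0, hcn⟩, W, φ, b, hs, hW, hWN⟩ := ho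
  have hst : ∀ g, g ∈ stab (quotRep ρ Y h) (X.map Y.mkQ) → g ∈ stab ρ X := by
    intro g hg z hz
    obtain ⟨z', hz', e⟩ := hg _ ⟨z, hz, rfl⟩
    simp only [Submodule.mkQ_apply, quotRep_mk] at e
    rw [Submodule.Quotient.eq] at e
    simpa using X.sub_mem hz' (hYX e)
  refine ⟨x, n, hst x hx, hst n hn, ?_, W.comap Y.mkQ, φ ∘ₗ Y.mkQ, b, fun v => ?_, fun w hw => ?_,
    fun w hw hwN => hWN _ hw ⟨w, hwN, rfl⟩⟩
  · -- the weight lifts
    set L : Module.End (ZMod p) U := ρ n - a • (1 : Module.End (ZMod p) U)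
    have hLY : ∀ z ∈ Y ⊔ Submodule.span (ZMod p) {c'}, L z ∈ Y := by
      intro z hz
      obtain ⟨y, hy, w, hw, rfl⟩ := Submodule.mem_sup.mp hz
      obtain ⟨r, rfl⟩ := Submodule.mem_span_singleton.mp hw
      simp only [L, LinearMap.sub_apply, map_add, LinearMap.smul_apply, Module.End.one_apply,
        map_smul]
      refine Y.add_mem (Y.sub_mem (h n y hy) (Y.smul_mem a hy)) ?_
      refine Y.smul_mem r ?_
      simp only [Submodule.mkQ_apply, quotRep_mk, ← Submodule.Quotient.mk_smul,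
        Submodule.Quotient.eq] at hcn
      exact hcn
    by_contra hcon
    push Not at hcon
    have hle : Y ⊔ Submodule.span (ZMod p) {c'} ≤ X :=
      sup_le hYX ((Submodule.span_singleton_le_iff_mem _ _).mpr hc')
    have hinj : Function.Injective (fun z : (Y ⊔ Submodule.span (ZMod p) {c'} : Submodule _ U) =>
        (⟨L z, hLY z z.2⟩ : Y)) := by
      intro z w e
      by_contra hne
      refine hcon ((z : U) - w) (hle (sub_mem z.2 w.2))
        (fun e' => hne (Subtype.ext (sub_eq_zero.mp e'))) ?_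
      have e2 : L z = L w := congrArg Subtype.val e
      simp only [L, LinearMap.sub_apply, LinearMap.smul_apply, Module.End.one_apply] at e2
      rw [map_sub, smul_sub]
      rw [sub_eq_sub_iff_sub_eq_sub] at e2
      exact e2
    have h1 := Nat.card_le_card_of_injective _ hinj
    refine hc0 ((Submodule.Quotient.mk_eq_zero Y).mpr ?_)
    have hsub : Y ≤ Y ⊔ Submodule.span (ZMod p) {c'} := le_sup_left
    have h2 : ((Y ⊔ Submodule.span (ZMod p) {c'} : Submodule (ZMod p) U) : Set U) = (Y : Set U) := by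
      refine (Set.eq_of_subset_of_ncard_le hsub ?_ (Set.toFinite _)).symm
      rw [← Nat.card_coe_set_eq, ← Nat.card_coe_set_eq]
      exact h1
    show c' ∈ (Y : Set U)
    rw [← h2]
    exact Submodule.mem_sup_right (Submodule.mem_span_singleton_self c')
  · obtain ⟨w, hw, rfl⟩ := hs v
    obtain ⟨w', rfl⟩ := Submodule.Quotient.mk_surjective Y w
    exact ⟨w', hw, rfl⟩
  · exact hW _ hw

omit [Finite G] in
theorem quad_comp {H : Type*} [Group H] (ρ : G →* Module.End (ZMod p) U) (f : H →* G) (g : H) :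
    Quad (ρ.comp f) g ↔ Quad ρ (f g) := Iff.rfl

theorem Out.of_subgroup {ρ : G →* Module.End (ZMod p) U} {X N : Submodule (ZMod p) U}
    {H : Subgroup G} (ho : Out (ρ.comp H.subtype) X N a) : Out ρ X N a := by
  obtain ⟨x, n, hx, hn, hrest⟩ := ho
  exact ⟨x, n, hx, hn, hrest⟩

theorem Out.of_hom {H : Type u} [Group H] [Finite H] {ρ : H →* Module.End (ZMod p) U}
    {X N : Submodule (ZMod p) U} (q : G →* H) (hq : Function.Surjective q)
    (ho : Out ρ X N a) : Out (ρ.comp q) X N a := by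
  obtain ⟨x, n, hx, hn, hrest⟩ := ho
  obtain ⟨x, rfl⟩ := hq x
  obtain ⟨n, rfl⟩ := hq n
  exact ⟨x, n, hx, hn, hrest⟩

theorem Out.of_smaller {ρ : G →* Module.End (ZMod p) U} {Y X N : Submodule (ZMod p) U}
    (hYX : Y ≤ X) (hst : stab ρ Y ≤ stab ρ X) (ho : Out ρ Y N a) : Out ρ X N a := by
  obtain ⟨x, n, hx, hn, ⟨c, hc, hrest⟩, hrest'⟩ := ho
  exact ⟨x, n, hst hx, hst hn, ⟨c, hYX hc, hrest⟩, hrest'⟩

end Cfsg.Agent.ZJWeight
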