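import Cfsg.Agent.Lib.ZJWeight.Base
import Cfsg.Agent.Lib.ZJWeight.Transfer
import Cfsg.Prelude.Def_Solvable
import Cfsg.Agent.Lib.Basics.Cores

/-!
# Moved subspaces under quadratic action give a weight and a Borel module
-/

set_option autoImplicit false

namespace Cfsg.Agent.ZJWeight

open Subgroup
open ConjFunctor (cj IsSylIn nS)

universe u v

variable {p : ℕ} [hp : Fact p.Prime]

/-- The statement for one action. -/
def CoreProp (a : (ZMod p)ˣ) (G : Type u) [Group G] [Finite G] (U : Type v) [AddCommGroup U]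
    [Module (ZMod p) U] : Prop :=
  ∀ (ρ : G →* Module.End (ZMod p) U) (T : Sylow p G) (X N : Submodule (ZMod p) U),
    normalizer (qGen ρ (T : Subgroup G) : Set G) ≤ stab ρ X → stab ρ X ≠ ⊤ →
    (∀ g : G, ∀ z ∈ N, ρ g z ∈ N) → (∀ z ∈ N, z ∈ X → z = 0) → Out ρ X N (a : ZMod p)

/-- The induction hypothesis. -/
def CoreIH (a : (ZMod p)ˣ) (n : ℕ) : Prop :=
  ∀ (G : Type u) [Group G] [Finite G] (U : Type v) [AddCommGroup U] [Module (ZMod p) U] [Finite U]
    (ρ : G →* Module.End (ZMod p) U) (T : Sylow p G) (X N : Submodule (ZMod p) U),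
    Nat.card G + Nat.card U + Nat.card X < n →
    normalizer (qGen ρ (T : Subgroup G) : Set G) ≤ stab ρ X → stab ρ X ≠ ⊤ →
    (∀ g : G, ∀ z ∈ N, ρ g z ∈ N) → (∀ z ∈ N, z ∈ X → z = 0) → Out ρ X N (a : ZMod p)

variable {G : Type u} [Group G] [Finite G] {U : Type v} [AddCommGroup U] [Module (ZMod p) U]
  [Finite U]

omit [Finite U] in
theorem card_submodule_lt [Finite U] {X Y : Submodule (ZMod p) U} (h : X < Y) :
    Nat.card X < Nat.card Y := by
  rw [← SetLike.coe_sort_coe, ← SetLike.coe_sort_coe, Nat.card_coe_set_eq, Nat.card_coe_set_eq]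
  exact Set.ncard_lt_ncard h (Set.toFinite _)

theorem isSylIn_inf {T M K : Subgroup G} (hT : IsSylIn p T M) (hK : K ≤ M)
    (hn : M ≤ normalizer (K : Set G)) : IsSylIn p (T ⊓ K) K := by
  obtain ⟨T', hT', hle⟩ := ConjFunctor.exists_isSylIn_ge (p := p) (inf_le_right : T ⊓ K ≤ K)
    hT.2.1.to_inf_left
  obtain ⟨m, hm, hm'⟩ := ConjFunctor.exists_conj_le_of_isSylIn hT (hT'.1.trans hK) hT'.2.1
  have h1 : cj m T' ≤ T ⊓ K := le_inf hm' (by
    rintro _ ⟨z, hz, rfl⟩
    exact (mem_normalizer_iff.mp (hn hm) z).mp (hT'.1 hz))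
  have h2 := card_le_of_le h1
  rw [ConjFunctor.cj_card] at h2
  rwa [eq_of_le_of_card_ge hle h2]

/-- Recursion into a proper subgroup. -/
theorem rec_sub {a : (ZMod p)ˣ} {ρ : G →* Module.End (ZMod p) U} {X N : Submodule (ZMod p) U}
    {n : ℕ} (IH : CoreIH.{u, v} a n) (hn : Nat.card G + Nat.card U + Nat.card X ≤ n)
    {H T2 : Subgroup G} (hH : H ≠ ⊤) (hT2 : IsSylIn p T2 H)
    (hQ : ∀ h ∈ H, h ∈ normalizer (qGen ρ T2 : Set G) → h ∈ stab ρ X) (hmv : ¬ H ≤ stab ρ X)
    (hN : ∀ g : G, ∀ z ∈ N, ρ g z ∈ N) (hNX : ∀ z ∈ N, z ∈ X → z = 0) :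
    Out ρ X N (a : ZMod p) := by
  let TH : Sylow p H := (hT2.2.1.comap_subtype (K := H)).toSylow hT2.2.2
  have hTH : (TH : Subgroup H).map H.subtype = T2 := by
    show (T2.comap H.subtype).map H.subtype = T2
    rw [map_comap_eq, range_subtype, inf_eq_right.mpr hT2.1]
  have hq : (qGen (ρ.comp H.subtype) (TH : Subgroup H)).map H.subtype = qGen ρ T2 := by
    rw [qGen, MonoidHom.map_closure, qGen]
    congr 1
    ext t
    constructor
    · rintro ⟨s, ⟨hs, hsq⟩, rfl⟩
      exact ⟨hTH ▸ mem_map_of_mem _ hs, hsq⟩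
    · rintro ⟨ht, htq⟩
      rw [← hTH] at ht
      obtain ⟨s, hs, rfl⟩ := ht
      exact ⟨s, ⟨hs, htq⟩, rfl⟩
  refine Out.of_subgroup (H := H) (IH H U (ρ.comp H.subtype) TH X N ?_ (fun h hh => ?_) (fun e => ?_)
    (fun g => hN g) hNX)
  · have : Nat.card H < Nat.card G := by
      rw [← Subgroup.card_top (G := G)]
      exact lt_of_le_of_ne (card_le_of_le le_top) fun e => hH (eq_of_le_of_card_ge le_top e.ge)
    omega
  · exact hQ h h.2 (hq ▸ le_normalizer_map H.subtype ⟨h, hh, rfl⟩)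
  · exact hmv fun g hg z hz => (e.ge (mem_top (⟨g, hg⟩ : H))) z hz

/-- Passing to an invariant or moved smaller subspace. -/
theorem descend {a : (ZMod p)ˣ} {ρ : G →* Module.End (ZMod p) U} {X N Y : Submodule (ZMod p) U}
    {n : ℕ} (IH : CoreIH.{u, v} a n) (hn : Nat.card G + Nat.card U + Nat.card X ≤ n)
    (T : Sylow p G) (hQX : normalizer (qGen ρ (T : Subgroup G) : Set G) ≤ stab ρ X)
    (hne : stab ρ X ≠ ⊤) (hN : ∀ g : G, ∀ z ∈ N, ρ g z ∈ N) (hNX : ∀ z ∈ N, z ∈ X → z = 0)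
    (hYX : Y < X) (hY0 : Y ≠ ⊥) (hQY : normalizer (qGen ρ (T : Subgroup G) : Set G) ≤ stab ρ Y) :
    Out ρ X N (a : ZMod p) := by
  by_cases hst : stab ρ Y = ⊤
  · -- `Y` is invariant
    have hY : ∀ g : G, ∀ z ∈ Y, ρ g z ∈ Y := fun g => hst.ge (mem_top g)
    have hle : qGen ρ (T : Subgroup G) ≤ qGen (quotRep ρ Y hY) (T : Subgroup G) :=
      closure_mono fun t ht => ⟨ht.1, ht.2.quotRep⟩
    haveI : Finite (U ⧸ Y) := Quotient.finite _
    refine Out.of_quotRep hYX.le (IH G (U ⧸ Y) (quotRep ρ Y hY) T _ _ ?_ (fun h hh => ?_)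
      (fun e => hne (top_le_iff.mp fun g _ z hz => ?_)) ?_ ?_)
    · have h1 : Nat.card (U ⧸ Y) < Nat.card U := by
        have h3 : Nat.card U = Nat.card (U ⧸ Y) * Nat.card Y := by
          rw [mul_comm]; exact Submodule.card_eq_card_quotient_mul_card Y
        have h4 : 1 < Nat.card Y := by
          haveI : Nontrivial Y := Submodule.nontrivial_iff_ne_bot.mpr hY0
          exact Finite.one_lt_card
        have h5 : 0 < Nat.card (U ⧸ Y) := Nat.card_pos
        nlinarith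
      have h2 : Nat.card (X.map Y.mkQ) ≤ Nat.card X :=
        Nat.card_le_card_of_surjective (fun z : X => (⟨Y.mkQ z, z, z.2, rfl⟩ : X.map Y.mkQ))
          (by rintro ⟨_, z, hz, rfl⟩; exact ⟨⟨z, hz⟩, rfl⟩)
      omega
    · have hh' := mem_normalizer_qGen (qGen_le _ _) hle hh
      rintro _ ⟨z, hz, rfl⟩
      exact ⟨_, hQX hh' z hz, rfl⟩
    · obtain ⟨z', hz', e'⟩ := (e.ge (mem_top g)) _ ⟨z, hz, rfl⟩
      simp only [Submodule.mkQ_apply, quotRep_mk] at e'
      rw [Submodule.Quotient.eq] at e'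
      simpa using X.sub_mem hz' (hYX.le e')
    · rintro g _ ⟨z, hz, rfl⟩
      exact ⟨_, hN g z hz, rfl⟩
    · rintro _ ⟨z, hz, rfl⟩ ⟨x, hx, e⟩
      simp only [Submodule.mkQ_apply] at e ⊢
      rw [Submodule.Quotient.eq] at e
      have : z ∈ X := by simpa using X.sub_mem hx (hYX.le e)
      rw [hNX z hz this]
      rfl
  by_cases hle : stab ρ Y ≤ stab ρ X
  · refine Out.of_smaller hYX.le hle (IH G U ρ T Y N ?_ hQY hst hN
      fun z hz hzY => hNX z hz (hYX.le hzY))
    have := card_submodule_lt hYX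
    omega
  · exact rec_sub IH hn hst
      (ConjFunctor.isSylIn_of_le (ConjFunctor.isSylIn_top T)
        ((le_normalizer_qGen ρ _).trans hQY) le_top)
      (fun h _ hh => hQX hh) hle hN hNX

/-- The stabiliser of the fixed points of a normalized subgroup. -/
theorem mem_stab_fixed {ρ : G →* Module.End (ZMod p) U} {X : Submodule (ZMod p) U}
    {R : Subgroup G} {g : G} (hgX : g ∈ stab ρ X) (hg : g ∈ normalizer (R : Set G))
    {Y : Submodule (ZMod p) U} (hY : ∀ z, z ∈ Y ↔ z ∈ X ∧ ∀ r ∈ R, ρ r z = z) :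
    g ∈ stab ρ Y := by
  intro z hz
  obtain ⟨hzX, hzR⟩ := (hY z).mp hz
  refine (hY _).mpr ⟨hgX z hzX, fun r hr => ?_⟩
  have h2 := hzR _ ((mem_normalizer_iff''.mp hg r).mp hr)
  rw [map_mul, map_mul, Module.End.mul_apply, Module.End.mul_apply] at h2
  have h3 := congrArg (ρ g) h2
  rwa [← Module.End.mul_apply, ← map_mul, mul_inv_cancel, map_one, Module.End.one_apply] at h3

/-- Fixed points of a `p`-group are nonzero. -/
theorem exists_fixed_ne_zero {ρ : G →* Module.End (ZMod p) U} {R : Subgroup G} (hR : IsPGroup p R)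
    {X : Submodule (ZMod p) U} (hX : X ≠ ⊥) (hRX : R ≤ stab ρ X) :
    ∃ z ∈ X, z ≠ 0 ∧ ∀ r ∈ R, ρ r z = z := by
  letI : MulAction R X :=
    { smul := fun r z => ⟨ρ r z, hRX r.2 z z.2⟩
      one_smul := fun z => Subtype.ext (by show ρ ((1 : R) : G) z = (z : U); simp)
      mul_smul := fun r s z => Subtype.ext (by
        show ρ ((r * s : R) : G) z = ρ r (ρ s z); simp) }
  have hd : p ∣ Nat.card X := by
    haveI : Nontrivial X := Submodule.nontrivial_iff_ne_bot.mpr hX
    obtain ⟨k, hk⟩ := IsPGroup.iff_card.mp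
      (show IsPGroup p (Multiplicative X) from fun z => ⟨1, by
        apply Multiplicative.toAdd.injective
        rw [toAdd_pow, pow_one, toAdd_one]
        rw [← Nat.cast_smul_eq_nsmul (ZMod p), ZMod.natCast_self, zero_smul]⟩)
    rw [show Nat.card (Multiplicative X) = Nat.card X from rfl] at hk
    rw [hk]
    refine dvd_pow_self p fun e => ?_
    rw [e, pow_zero] at hk
    exact absurd hk (Finite.one_lt_card).ne'
  have h0 : (⟨0, zero_mem X⟩ : X) ∈ MulAction.fixedPoints R X := fun r => Subtype.ext (map_zero _)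
  obtain ⟨b, hb, hne⟩ := hR.exists_fixed_point_of_prime_dvd_card_of_fixed_point X hd h0
  exact ⟨b, b.2, fun e => hne (Subtype.ext e.symm), fun r hr => congrArg Subtype.val (hb ⟨r, hr⟩)⟩

/-- A generating conjugacy invariant set reaches outside a proper subgroup it generates. -/
theorem exists_gen_normalizing {P I : Subgroup G} (hP : IsPGroup p P) {D : Set G}
    (hD : ∀ d ∈ D, ∀ g : G, g * d * g⁻¹ ∈ D) (hIP : I ≤ P)
    (hIgen : I ≤ closure {d | d ∈ D ∧ d ∈ I}) (hout : ∃ d ∈ D, d ∈ P ∧ d ∉ I) :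
    ∃ d ∈ D, d ∈ P ∧ d ∉ I ∧ d ∈ normalizer (I : Set G) := by
  by_cases hall : ∀ d ∈ D, d ∈ P → d ∈ normalizer (I : Set G)
  · obtain ⟨d, hdD, hdP, hdI⟩ := hout
    exact ⟨d, hdD, hdP, hdI, hall d hdD hdP⟩
  push Not at hall
  obtain ⟨d₀, hd₀D, hd₀P, hd₀N⟩ := hall
  set K := nS P I with hK
  have hKP : K ≤ P := inf_le_left
  have hKne : K ≠ P := fun e => hd₀N (e.ge hd₀P).2
  obtain ⟨g, hg, hgK⟩ := SetLike.exists_of_lt (ConjFunctor.lt_nS hP hKP hKne)
  have hgI : g ∉ normalizer (I : Set G) := fun h => hgK ⟨hg.1, h⟩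
  obtain ⟨i, hi, hiI⟩ : ∃ i, (i ∈ D ∧ i ∈ I) ∧ g * i * g⁻¹ ∉ I := by
    by_contra hcon
    push Not at hcon
    refine hgI (ConjFunctor.cj_eq_iff.mp (eq_of_le_of_card_ge ?_ (by rw [ConjFunctor.cj_card])))
    refine (map_mono hIgen).trans ?_
    rw [MonoidHom.map_closure, closure_le]
    rintro _ ⟨i, hi, rfl⟩
    exact hcon i hi
  have hiK : i ∈ K := ⟨hIP hi.2, le_normalizer hi.2⟩
  have hgiK : g * i * g⁻¹ ∈ K := (mem_normalizer_iff.mp hg.2 i).mp hiK
  exact ⟨_, hD i hi.1 g, hgiK.1, hiI, hgiK.2⟩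

/-- The part of the proof with a faithful group without normal `p`-subgroup. -/
theorem core_main (hp2 : p ≠ 2) {a : (ZMod p)ˣ} (ha : (a : ZMod p) ≠ 1)
    {ρ : G →* Module.End (ZMod p) U} {X N : Submodule (ZMod p) U} {n : ℕ}
    (IH : CoreIH.{u, v} a n) (hn : Nat.card G + Nat.card U + Nat.card X ≤ n)
    (hinj : Function.Injective ρ) (T : Sylow p G)
    (hQX : normalizer (qGen ρ (T : Subgroup G) : Set G) ≤ stab ρ X)
    (hne : stab ρ X ≠ ⊤) (hN : ∀ g : G, ∀ z ∈ N, ρ g z ∈ N) (hNX : ∀ z ∈ N, z ∈ X → z = 0)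
    (hspan : ∀ U' : Submodule (ZMod p) U, (∀ g : G, ∀ z ∈ U', ρ g z ∈ U') → X ≤ U' → U' = ⊤)
    (hcore : ∀ R : Subgroup G, IsPGroup p R → normalizer (R : Set G) = ⊤ → R = ⊥)
    (hQfix : ∀ t ∈ (T : Subgroup G), Quad ρ t → ∀ z ∈ X, ρ t z = z) :
    Out ρ X N (a : ZMod p) := by
  classical
  set G0 := stab ρ X with hG0
  set Q := qGen ρ (T : Subgroup G) with hQ
  have hTG0 : (T : Subgroup G) ≤ G0 := (le_normalizer_qGen ρ _).trans hQX
  have hTsyl : IsSylIn p (T : Subgroup G) G0 :=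
    ConjFunctor.isSylIn_of_le (ConjFunctor.isSylIn_top T) hTG0 le_top
  -- quadratic `p`-elements of `G0` fix `X`
  have hfix : ∀ t ∈ G0, Quad ρ t → IsPGroup p (zpowers t) → ∀ z ∈ X, ρ t z = z := by
    intro t ht htq htp z hz
    obtain ⟨m, hm, hle⟩ := ConjFunctor.exists_conj_le_of_isSylIn hTsyl (zpowers_le.mpr ht) htp
    have h1 := hQfix _ (hle ⟨t, mem_zpowers t, rfl⟩) (htq.conj m) (ρ m z) (hm z hz)
    change ρ (m * t * m⁻¹) (ρ m z) = ρ m z at h1
    rw [← Module.End.mul_apply, ← map_mul, inv_mul_cancel_right, map_mul,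
      Module.End.mul_apply] at h1
    have h2 := congrArg (ρ m⁻¹) h1
    rwa [← Module.End.mul_apply, ← map_mul, inv_mul_cancel, map_one, Module.End.one_apply,
      ← Module.End.mul_apply, ← map_mul, inv_mul_cancel, map_one, Module.End.one_apply] at h2
  have hQp : IsPGroup p Q := T.2.to_le (qGen_le ρ _)
  have hQ0 : Q ≠ ⊥ := fun h => hne (top_le_iff.mp (le_trans (by
    rw [h, normalizer_eq_top]) hQX))
  obtain ⟨x, hxQ, hx1, hxq, hxc⟩ := exists_central_quad_mem hp2 ρ hinj hQp hQ0 (by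
    refine le_antisymm (closure_mono fun t ht => ⟨mem_qGen ht.1 ht.2, ht.2⟩) ?_
    exact (closure_le _).mpr fun t ht => ht.1)
  have hxT : x ∈ (T : Subgroup G) := qGen_le ρ _ hxQ
  have hxG0 : x ∈ G0 := hTG0 hxT
  have hxp : ∀ g : G, IsPGroup p (zpowers (g * x * g⁻¹)) := fun g => by
    have : zpowers (g * x * g⁻¹) = cj g (zpowers x) := by
      rw [ConjFunctor.cj, MonoidHom.map_zpowers]; rfl
    rw [this]
    exact ConjFunctor.cj_isPGroup g (T.2.to_le (zpowers_le.mpr hxT))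
  set D : Set G := {d | ∃ g : G, g * x * g⁻¹ = d} with hDdef
  have hDconj : ∀ d ∈ D, ∀ g : G, g * d * g⁻¹ ∈ D := by
    rintro _ ⟨h, rfl⟩ g
    exact ⟨g * h, by group⟩
  have hxD : x ∈ D := ⟨1, by group⟩
  have hDfix : ∀ d ∈ D, d ∈ G0 → ∀ z ∈ X, ρ d z = z := by
    rintro _ ⟨g, rfl⟩ hd z hz
    exact hfix _ hd (hxq.conj g) (hxp g) z hz
  -- some conjugate moves `X`
  obtain ⟨y, hyD, hy⟩ : ∃ y ∈ D, y ∉ G0 := by
    by_contra hcon
    push Not at hcon
    have hall : ∀ g : G, ∀ z ∈ X, ρ x (ρ g z) = ρ g z := by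
      intro g z hz
      have h1 := hDfix _ ⟨g⁻¹, rfl⟩ (hcon _ ⟨g⁻¹, rfl⟩) z hz
      rw [inv_inv, map_mul, map_mul, Module.End.mul_apply, Module.End.mul_apply] at h1
      have h2 := congrArg (ρ g) h1
      rwa [← Module.End.mul_apply, ← map_mul, mul_inv_cancel, map_one, Module.End.one_apply] at h2
    let U' : Submodule (ZMod p) U :=
      ⨅ g : G, (LinearMap.eqLocus (ρ x) 1).comap (ρ g)
    have hU' : U' = ⊤ := by
      refine hspan U' (fun g z hz => ?_) (fun z hz => ?_)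
      · simp only [U', Submodule.mem_iInf, Submodule.mem_comap] at hz ⊢
        intro h
        rw [← Module.End.mul_apply, ← map_mul]
        exact hz (h * g)
      · simp only [U', Submodule.mem_iInf, Submodule.mem_comap]
        intro g
        show ρ x (ρ g z) = (1 : Module.End (ZMod p) U) (ρ g z)
        exact hall g z hz
    refine hx1 (hinj ?_)
    rw [map_one]
    refine LinearMap.ext fun z => ?_
    have hz : z ∈ U' := hU' ▸ Submodule.mem_top
    simp only [U', Submodule.mem_iInf, Submodule.mem_comap] at hz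
    have := hz 1
    simpa using this
  have hlocal : ∀ R : Subgroup G, IsPGroup p R → R ≠ ⊥ → normalizer (R : Set G) ≠ ⊤ :=
    fun R hR h0 h => h0 (hcore R hR h)
  -- the weak closure
  set W1 := closure {d | d ∈ D ∧ d ∈ (T : Subgroup G)} with hW1
  have hW1T : W1 ≤ (T : Subgroup G) := (closure_le _).mpr fun d hd => hd.2
  by_cases hNW : normalizer (W1 : Set G) ≤ G0
  swap
  · have hW10 : W1 ≠ ⊥ := fun h => hx1 (mem_bot.mp (h ▸ subset_closure ⟨hxD, hxT⟩))
    refine rec_sub IH hn (hlocal W1 (T.2.to_le hW1T) hW10)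
      (ConjFunctor.isSylIn_of_le (ConjFunctor.isSylIn_top T) ?_ le_top)
      (fun h _ hh => hQX hh) hNW hN hNX
    intro t ht
    refine ConjFunctor.cj_eq_iff.mp (eq_of_le_of_card_ge ?_ (by rw [ConjFunctor.cj_card]))
    rw [ConjFunctor.cj, hW1, MonoidHom.map_closure, closure_le]
    rintro _ ⟨d, ⟨hd, hdT⟩, rfl⟩
    exact subset_closure ⟨hDconj d hd t, mul_mem (mul_mem ht hdT) (inv_mem ht)⟩
  -- a maximal intersection
  let Bad : Subgroup G → Prop := fun P => IsPGroup p P ∧ ∃ d ∈ D, d ∈ P ∧ d ∉ G0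
  let Iof : Subgroup G → Subgroup G := fun P => closure {d | d ∈ D ∧ d ∈ P ∧ d ∈ G0}
  haveI : Fintype {P : Subgroup G // Bad P} := Fintype.ofFinite _
  obtain ⟨g₀, hg₀⟩ := hyD
  obtain ⟨⟨P, hPp, hPout⟩, -, hmax⟩ := Finset.exists_max_image
    (Finset.univ : Finset {P : Subgroup G // Bad P}) (fun P => Nat.card (Iof P.1))
    ⟨⟨zpowers y, hg₀ ▸ hxp g₀, y, ⟨g₀, hg₀⟩, mem_zpowers y, hy⟩, Finset.mem_univ _⟩
  set I := Iof P with hI
  have hIP : I ≤ P := (closure_le _).mpr fun d hd => hd.2.1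
  have hIG0 : I ≤ G0 := (closure_le _).mpr fun d hd => hd.2.2
  have hIgen : I ≤ closure {d | d ∈ D ∧ d ∈ I} :=
    closure_mono fun d hd => ⟨hd.1, subset_closure hd⟩
  -- the key claim
  have hcard : ∀ (h : G), (∀ d ∈ D, d ∈ cj h (T : Subgroup G) → d ∈ G0) → h ∈ G0 := by
    intro h hh
    set P'' := closure {d | d ∈ D ∧ d ∈ cj h (T : Subgroup G)} with hP''
    have hP''le : P'' ≤ cj h (T : Subgroup G) := (closure_le _).mpr fun d hd => hd.2
    have hP''G : P'' ≤ G0 := (closure_le _).mpr fun d hd => hh d hd.1 hd.2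
    obtain ⟨m, hm, hle⟩ := ConjFunctor.exists_conj_le_of_isSylIn hTsyl hP''G
      ((ConjFunctor.cj_isPGroup h T.2).to_le hP''le)
    have e : P'' = cj h W1 := by
      rw [hP'', hW1]
      show _ = Subgroup.map _ (closure _)
      rw [MonoidHom.map_closure]
      congr 1
      ext d
      constructor
      · rintro ⟨hd, t, ht, rfl⟩
        refine ⟨t, ⟨?_, ht⟩, rfl⟩
        have := hDconj _ hd h⁻¹
        simpa [mul_assoc] using this
      · rintro ⟨t, ⟨ht, htT⟩, rfl⟩
        exact ⟨hDconj t ht h, mem_map_of_mem _ htT⟩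
    have e2 : cj (m * h) W1 = W1 := by
      rw [ConjFunctor.cj_mul, ← e]
      refine eq_of_le_of_card_ge ?_ (by rw [ConjFunctor.cj_card, e, ConjFunctor.cj_card])
      rw [hP'', ConjFunctor.cj, MonoidHom.map_closure, closure_le]
      rintro _ ⟨d, hd, rfl⟩
      exact subset_closure ⟨hDconj d hd.1 m, hle ⟨d, subset_closure hd, rfl⟩⟩
    have h3 := hNW (ConjFunctor.cj_eq_iff.mp e2)
    simpa using mul_mem (inv_mem hm) h3
  have claim : ∀ P' : Subgroup G, IsPGroup p P' → P' ≤ G0 →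
      (I < closure {d | d ∈ D ∧ d ∈ P'}) → ∀ h : G, cj h P' ≤ G0 → h ∈ G0 := by
    intro P' hP'p hP'G hlt h hh
    obtain ⟨m, hm, hle⟩ := ConjFunctor.exists_conj_le_of_isSylIn hTsyl hP'G hP'p
    have key : h * m⁻¹ ∈ G0 := by
      refine hcard _ fun d hdD hd => ?_
      by_contra hdG
      have hbad : Bad (cj (h * m⁻¹) (T : Subgroup G)) :=
        ⟨ConjFunctor.cj_isPGroup _ T.2, d, hdD, hd, hdG⟩
      have h1 : cj h (closure {d | d ∈ D ∧ d ∈ P'}) ≤ Iof (cj (h * m⁻¹) (T : Subgroup G)) := by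
        rw [ConjFunctor.cj, MonoidHom.map_closure, closure_le]
        rintro _ ⟨e, ⟨heD, heP⟩, rfl⟩
        refine subset_closure ⟨hDconj e heD h, ?_, hh (mem_map_of_mem _ heP)⟩
        refine ⟨m * e * m⁻¹, hle ⟨e, heP, rfl⟩, ?_⟩
        simp [mul_assoc]
      have h2 := card_le_of_le h1
      have h3 : Nat.card I < Nat.card (closure {d | d ∈ D ∧ d ∈ P'} : Subgroup G) :=
        lt_of_le_of_ne (card_le_of_le hlt.le) fun e => hlt.ne (eq_of_le_of_card_ge hlt.le e.ge)
      rw [ConjFunctor.cj_card] at h2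
      have h4 := hmax ⟨_, hbad⟩ (Finset.mem_univ _)
      change Nat.card (Iof (cj (h * m⁻¹) (T : Subgroup G))) ≤ Nat.card I at h4
      omega
    simpa using mul_mem key hm
  by_cases hI0 : I = ⊥
  swap
  · obtain ⟨d, hdP, hd, hdG⟩ := hPout
    obtain ⟨y', hy'D, hy'P, hy'I, hy'N⟩ := exists_gen_normalizing hPp hDconj hIP hIgen
      ⟨d, hdP, hd, fun h => hdG (hIG0 h)⟩
    have hy'G : y' ∉ G0 := fun h => hy'I (subset_closure ⟨hy'D, hy'P, h⟩)
    have hIp : IsPGroup p I := hPp.to_le hIP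
    obtain ⟨m, hm, hle⟩ := ConjFunctor.exists_conj_le_of_isSylIn hTsyl hIG0 hIp
    set T1 := cj m⁻¹ (T : Subgroup G) with hT1
    have hIT1 : I ≤ T1 := by
      rw [← ConjFunctor.cj_inv_cj m I]; exact ConjFunctor.cj_le_cj.mpr hle
    have hT1G : T1 ≤ G0 := by
      rintro _ ⟨t, ht, rfl⟩
      exact mul_mem (mul_mem (inv_mem hm) (hTG0 ht)) (inv_mem (inv_mem hm))
    obtain ⟨w, hwD, hwT, hwI, hwN⟩ := exists_gen_normalizing (ConjFunctor.cj_isPGroup _ T.2)
      hDconj hIT1 hIgen (by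
        by_contra hcon
        push Not at hcon
        have h1 : I = cj m⁻¹ W1 := by
          refine le_antisymm (hIgen.trans ?_) ?_
          · rw [closure_le]
            rintro d ⟨hd, hdI⟩
            obtain ⟨t, ht, e⟩ := hIT1 hdI
            refine ⟨t, subset_closure ⟨?_, ht⟩, e⟩
            have := hDconj _ hd m
            rw [← e] at this
            simpa [mul_assoc] using this
          · rw [ConjFunctor.cj, hW1, MonoidHom.map_closure, closure_le]
            rintro _ ⟨t, ⟨ht, htT⟩, rfl⟩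
            exact hcon _ (hDconj t ht _) (mem_map_of_mem _ htT)
        refine hy'G ?_
        have h2 : cj m⁻¹ G0 = G0 := ConjFunctor.cj_eq_of_mem (inv_mem hm)
        rw [← h2]
        exact cj_le_cj_mem hNW (h1 ▸ hy'N))
    obtain ⟨T2, hT2, hT2ge⟩ := ConjFunctor.exists_isSylIn_ge (p := p)
      (show I ⊔ zpowers w ≤ G0 ⊓ normalizer (I : Set G) from
        sup_le (le_inf hIG0 le_normalizer) (zpowers_le.mpr ⟨hT1G hwT, hwN⟩))
      ((ConjFunctor.cj_isPGroup m⁻¹ T.2).to_le (sup_le hIT1 (zpowers_le.mpr hwT)))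
    have hlt : ∀ P' : Subgroup G, (∀ d ∈ D, d ∈ T2 → d ∈ P') →
        I < closure {d | d ∈ D ∧ d ∈ P'} := by
      intro P' hP'
      refine lt_of_le_of_ne (hIgen.trans (closure_mono fun d hd =>
        ⟨hd.1, hP' d hd.1 (hT2ge (mem_sup_left hd.2))⟩)) fun e => hwI ?_
      rw [e]
      exact subset_closure ⟨hwD, hP' w hwD (hT2ge (mem_sup_right (mem_zpowers w)))⟩
    have hT2G : T2 ≤ G0 := hT2.1.trans inf_le_left
    -- `T2` is Sylow in the normalizer
    have hT2full : IsSylIn p T2 (normalizer (I : Set G)) := by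
      obtain ⟨T3, hT3, hT23⟩ := ConjFunctor.exists_isSylIn_ge (p := p)
        (hT2.1.trans inf_le_right) hT2.2.1
      by_cases he : T2 = T3
      · rwa [he]
      exfalso
      refine he (ConjFunctor.eq_of_nS_eq hT3.2.1 hT23 ?_)
      refine ConjFunctor.eq_of_isSylIn_of_le hT2 (ConjFunctor.le_nS hT23)
        (fun g hg => ⟨claim T2 hT2.2.1 hT2G (hlt T2 fun _ _ h => h) g
          ((ConjFunctor.cj_eq_iff.mpr hg.2).le.trans hT2G), hT3.1 hg.1⟩) hT3.2.1.to_inf_left
    refine rec_sub IH hn (hlocal I hIp hI0) hT2full (fun h _ hh => ?_)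
      (fun hle => hy'G (hle hy'N)) hN hNX
    refine claim (qGen ρ T2) (hT2.2.1.to_le (qGen_le ρ _)) ((qGen_le ρ _).trans hT2G)
      (hlt _ fun d hd hdT => mem_qGen hdT ?_) h
      ((ConjFunctor.cj_eq_iff.mpr hh).le.trans ((qGen_le ρ _).trans hT2G))
    obtain ⟨g, rfl⟩ := hd
    exact hxq.conj g
  · -- incompatible conjugates
    have hclx : ∀ P' : Subgroup G, x ∈ P' → I < closure {d | d ∈ D ∧ d ∈ P'} := fun P' hP' => by
      rw [hI0, bot_lt_iff_ne_bot]
      exact fun h => hx1 (mem_bot.mp (h ▸ subset_closure ⟨hxD, hP'⟩))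
    have hxz : IsPGroup p (zpowers x) := by
      have h1 := hxp 1
      rwa [inv_one, mul_one, one_mul] at h1
    have hfus : ∀ g : G, g * x * g⁻¹ ∈ G0 → g ∈ G0 := fun g hg =>
      claim (zpowers x) hxz (zpowers_le.mpr hxG0) (hclx _ (mem_zpowers x)) g (by
        rw [ConjFunctor.cj, MonoidHom.map_zpowers]; exact zpowers_le.mpr hg)
    have hPG : ∀ P : Subgroup G, IsPGroup p P → x ∈ P → P ≤ G0 := by
      intro P' hP' hxP'
      obtain ⟨g, -, hg⟩ := ConjFunctor.exists_conj_le_of_isSylIn (ConjFunctor.isSylIn_top T)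
        (le_top : P' ≤ ⊤) hP'
      have hgG : g ∈ G0 := hfus g (hTG0 (hg ⟨x, hxP', rfl⟩))
      intro z hz
      have := mul_mem (mul_mem (inv_mem hgG) (hTG0 (hg ⟨z, hz, rfl⟩))) hgG
      simpa [mul_assoc] using this
    by_cases hL : closure ({x, y} : Set G) = ⊤
    · subst hg₀
      exact base_out hp2 ρ a ha hxq hL hN hNX (hfix x hxG0 hxq hxz) hxz hy hPG hfus
    obtain ⟨TL, hTL, hxTL⟩ := ConjFunctor.exists_isSylIn_ge (p := p)
      (zpowers_le.mpr (subset_closure (Set.mem_insert x {y}) : x ∈ closure ({x, y} : Set G))) hxz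
    refine rec_sub IH hn hL hTL (fun h _ hh => hfus h ?_)
      (fun hle => hy (hle (subset_closure (Set.mem_insert_of_mem x rfl)))) hN hNX
    exact hPG TL hTL.2.1 (hxTL (mem_zpowers x)) (qGen_le ρ _ ((mem_normalizer_iff.mp hh x).mp
      (mem_qGen (hxTL (mem_zpowers x)) hxq)))
where
  cj_le_cj_mem {H K : Subgroup G} (h : normalizer (H : Set G) ≤ K) {g z : G}
      (hz : z ∈ normalizer ((cj g H : Subgroup G) : Set G)) : z ∈ cj g K := by
    rw [← ConjFunctor.cj_normalizer] at hz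
    exact ConjFunctor.cj_le_cj.mpr h hz

/-- **The core lemma.** -/
theorem core (hp2 : p ≠ 2) {a : (ZMod p)ˣ} (ha : (a : ZMod p) ≠ 1) :
    ∀ n, CoreIH.{u, v} a n := by
  intro n
  induction n with
  | zero => intro G _ _ U _ _ _ ρ T X N h; exact absurd h (Nat.not_lt_zero _)
  | succ n IH =>
  intro G _ _ U _ _ _ ρ T X N hlt hQX hne hN hNX
  have hn : Nat.card G + Nat.card U + Nat.card X ≤ n := Nat.lt_succ_iff.mp hlt
  by_cases hspan : ∀ U' : Submodule (ZMod p) U, (∀ g : G, ∀ z ∈ U', ρ g z ∈ U') → X ≤ U' → U' = ⊤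
  swap
  · push Not at hspan
    obtain ⟨U', hU', hXU', hU'ne⟩ := hspan
    have hle : qGen ρ (T : Subgroup G) ≤ qGen (subRep ρ U' hU') (T : Subgroup G) :=
      closure_mono fun t ht => ⟨ht.1, ht.2.subRep⟩
    refine Out.of_subRep hXU' (IH G U' (subRep ρ U' hU') T _ _ ?_ (fun h hh => ?_)
      (fun e => hne (top_le_iff.mp fun g _ z hz => (e.ge (mem_top g)) ⟨z, hXU' hz⟩ hz))
      (fun g z hz => hN g _ hz) (fun z hz hz' => Subtype.ext (hNX _ hz hz')))
    · have h1 : Nat.card U' < Nat.card U := by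
        rw [← SetLike.coe_sort_coe, Nat.card_coe_set_eq, ← Set.ncard_univ]
        refine Set.ncard_lt_ncard ?_ (Set.toFinite _)
        rw [Set.ssubset_univ_iff]
        exact fun e => hU'ne (SetLike.coe_injective (e.trans Submodule.top_coe.symm))
      have h2 : Nat.card (X.comap U'.subtype) = Nat.card X :=
        Nat.card_congr (Submodule.comapSubtypeEquivOfLe hXU').toEquiv
      omega
    · have hh' := hQX (mem_normalizer_qGen (qGen_le _ _) hle hh)
      exact fun z hz => hh' _ hz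
  have hX0 : X ≠ ⊥ := fun h => hne (top_le_iff.mp fun g _ z hz => by
    rw [h, Submodule.mem_bot] at hz; rw [hz, map_zero]; exact zero_mem _)
  by_cases hinj : Function.Injective ρ
  swap
  · set C := ρ.ker with hC
    let ρ' : G ⧸ C →* Module.End (ZMod p) U := QuotientGroup.lift C ρ le_rfl
    set q := QuotientGroup.mk' C
    have hq : Function.Surjective q := QuotientGroup.mk'_surjective C
    have hρ : ρ'.comp q = ρ := MonoidHom.ext fun g => rfl
    have hmap : qGen ρ' ((T.mapSurjective hq : Sylow p (G ⧸ C)) : Subgroup (G ⧸ C)) =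
        (qGen ρ (T : Subgroup G)).map q := by
      rw [qGen, qGen, MonoidHom.map_closure, Sylow.coe_mapSurjective]
      congr 1
      ext t
      constructor
      · rintro ⟨⟨s, hs, rfl⟩, hsq⟩
        exact ⟨s, ⟨hs, hsq⟩, rfl⟩
      · rintro ⟨s, ⟨hs, hsq⟩, rfl⟩
        exact ⟨⟨s, hs, rfl⟩, hsq⟩
    have hcard : Nat.card (G ⧸ C) < Nat.card G := by
      have h1 := Subgroup.card_mul_index C
      have h2 : 1 < Nat.card C := by
        haveI : Nontrivial C := (nontrivial_iff_ne_bot C).mpr fun h =>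
          hinj ((MonoidHom.ker_eq_bot_iff ρ).mp h)
        exact Finite.one_lt_card
      rw [← Subgroup.index_eq_card]
      have h3 : 0 < C.index := Nat.pos_of_ne_zero Subgroup.index_ne_zero_of_finite
      nlinarith
    rw [← hρ]
    refine Out.of_hom q hq (IH (G ⧸ C) U ρ' (T.mapSurjective hq) X N (by omega)
      (fun hb hhb => ?_) (fun e => hne (top_le_iff.mp fun g _ => e.ge (mem_top (q g))))
      (fun gb z hz => by obtain ⟨g, rfl⟩ := hq gb; exact hN g z hz) hNX)
    obtain ⟨h, rfl⟩ := hq hb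
    set QC := ((qGen ρ (T : Subgroup G)).map q).comap q with hQC
    have hhQC : h ∈ normalizer (QC : Set G) := by
      rw [hmap] at hhb
      exact le_normalizer_comap q hhb
    have hTQC : (T : Subgroup G) ≤ normalizer (QC : Set G) := fun t ht =>
      le_normalizer_comap q (le_normalizer_map q ⟨t, le_normalizer_qGen ρ _ ht, rfl⟩)
    have hsyl := isSylIn_inf (ConjFunctor.isSylIn_of_le (ConjFunctor.isSylIn_top T) hTQC le_top)
      (le_normalizer (H := QC)) le_rfl
    have hsyl' := ConjFunctor.isSylIn_map hsyl h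
    rw [show cj h QC = QC from ConjFunctor.cj_eq_iff.mpr hhQC] at hsyl'
    obtain ⟨k, hk, hke⟩ := ConjFunctor.isSylIn_conj hsyl hsyl'
    rw [← ConjFunctor.cj_mul] at hke
    have hQT1 : qGen ρ (T : Subgroup G) ≤ (T : Subgroup G) ⊓ QC :=
      le_inf (qGen_le ρ _) (le_comap_map q _)
    have hkh := hQX (mem_normalizer_qGen inf_le_left hQT1 (ConjFunctor.cj_eq_iff.mp hke))
    have hkX : k ∈ stab ρ X := by
      obtain ⟨s, hs, hse⟩ := hk
      have hsX := hQX (le_normalizer hs)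
      intro z hz
      have e : ρ k = ρ s := by
        show ρ' (q k) = ρ' (q s)
        rw [hse]
      rw [e]
      exact hsX z hz
    show ∀ z ∈ X, ρ h z ∈ X
    have := mul_mem (inv_mem hkX) hkh
    rw [inv_mul_cancel_left] at this
    exact this
  -- fixed points of `Q`
  set Q := qGen ρ (T : Subgroup G) with hQ
  have hQp : IsPGroup p Q := T.2.to_le (qGen_le ρ _)
  have hTX : (T : Subgroup G) ≤ stab ρ X := (le_normalizer_qGen ρ _).trans hQX
  let fixed : Subgroup G → Submodule (ZMod p) U := fun R =>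
    X ⊓ ⨅ r : R, LinearMap.eqLocus (ρ r) 1
  have hfixed : ∀ R z, z ∈ fixed R ↔ z ∈ X ∧ ∀ r ∈ R, ρ r z = z := by
    intro R z
    simp only [fixed, Submodule.mem_inf, Submodule.mem_iInf, LinearMap.mem_eqLocus,
      Module.End.one_apply, Subtype.forall]
  have hdesc : ∀ R : Subgroup G, IsPGroup p R → R ≤ (T : Subgroup G) →
      normalizer (Q : Set G) ≤ normalizer (R : Set G) → fixed R ≠ X → Out ρ X N (a : ZMod p) := by
    intro R hRp hRT hQR hne'
    obtain ⟨z, hz, hz0, hzR⟩ := exists_fixed_ne_zero hRp hX0 (hRT.trans hTX)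
    refine descend IH hn T hQX hne hN hNX (lt_of_le_of_ne inf_le_left hne') ?_
      (fun g hg => mem_stab_fixed (hQX hg) (hQR hg) (hfixed R))
    intro h
    have := (hfixed R z).mpr ⟨hz, hzR⟩
    change fixed R = ⊥ at h
    rw [h] at this
    exact hz0 ((Submodule.mem_bot _).mp this)
  by_cases hQfix : fixed Q = X
  swap
  · exact hdesc Q hQp (qGen_le ρ _) le_rfl hQfix
  set R := Cfsg.pCore p G with hR
  have hRT : R ≤ (T : Subgroup G) := Basics.pCore_le_sylow p T
  by_cases hRfix : fixed R = X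
  swap
  · exact hdesc R (Basics.pCore_isPGroup p) hRT (by
      haveI := LocalEvenA.pCore_normal' p G
      rw [normalizer_eq_top (H := R)]; exact le_top) hRfix
  have hR0 : R = ⊥ := by
    rw [eq_bot_iff]
    intro r hr
    haveI := LocalEvenA.pCore_normal' p G
    let U' : Submodule (ZMod p) U := ⨅ s : R, LinearMap.eqLocus (ρ s) 1
    have hU' : U' = ⊤ := by
      refine hspan U' (fun g z hz => ?_) (fun z hz => ?_)
      · simp only [U', Submodule.mem_iInf, LinearMap.mem_eqLocus, Module.End.one_apply,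
          Subtype.forall] at hz ⊢
        intro s hs
        have h1 := hz _ ((inferInstance : R.Normal).conj_mem s hs g⁻¹)
        rw [inv_inv, map_mul, map_mul, Module.End.mul_apply, Module.End.mul_apply] at h1
        have h2 := congrArg (ρ g) h1
        rwa [← Module.End.mul_apply, ← map_mul, mul_inv_cancel, map_one,
          Module.End.one_apply] at h2
      · exact (hRfix.ge hz).2
    refine mem_bot.mpr (hinj ?_)
    rw [map_one]
    refine LinearMap.ext fun z => ?_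
    have hz : z ∈ U' := hU' ▸ Submodule.mem_top
    simp only [U', Submodule.mem_iInf, LinearMap.mem_eqLocus, Module.End.one_apply,
      Subtype.forall] at hz
    simpa using hz r hr
  exact core_main hp2 ha IH hn hinj T hQX hne hN hNX hspan
    (fun R' hR' hnR' => by
      haveI : R'.Normal := normalizer_eq_top_iff.mp hnR'
      exact le_bot_iff.mp (hR0 ▸ Basics.le_pCore hR'))
    (fun t ht htq z hz => ((hfixed Q z).mp (hQfix.ge hz)).2 t (mem_qGen ht htq))

/-- The core lemma for one action. -/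
theorem core_out (hp2 : p ≠ 2) {a : (ZMod p)ˣ} (ha : (a : ZMod p) ≠ 1) : CoreProp a G U :=
  fun ρ T X N => core hp2 ha _ G U ρ T X N (Nat.lt_succ_self _)

end Cfsg.Agent.ZJWeight
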