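import Mathlib
import Cfsg.Prelude.Def_LocalEven
import Cfsg.Agent.Lib.ConjFunctor.Basic
import Cfsg.Agent.Lib.SL2Dickson.QdFacts
import Cfsg.Agent.Lib.Transfer.NatPair

/-!
# Involvement of `F(p)`
-/

set_option autoImplicit false

namespace Cfsg.Agent.ZJWeight

open Subgroup Matrix
open ConjFunctor (cj IsSylIn)
open scoped MatrixGroups

universe u

attribute [-simp] ZMod.inv_coe_unit

variable {p : ℕ} [hp : Fact p.Prime] {G : Type u} [Group G]

/-- `F(p)`. -/
abbrev FGrp (p : ℕ) [Fact p.Prime] := ↥(Cfsg.fOver (ZMod p))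

/-- `F(p)` is a homomorphic image of a subgroup of `H`. -/
def HasF (p : ℕ) [Fact p.Prime] {G : Type u} [Group G] (H : Subgroup G) : Prop :=
  ∃ K : Subgroup G, K ≤ H ∧ ∃ f : K →* FGrp p, Function.Surjective f

theorem HasF.mono {H H' : Subgroup G} (h : HasF p H) (hle : H ≤ H') : HasF p H' := by
  obtain ⟨K, hK, hf⟩ := h
  exact ⟨K, hK.trans hle, hf⟩

theorem HasF.map {G' : Type*} [Group G'] {H : Subgroup G} (h : HasF p H) (j : G →* G')
    (hj : Function.Injective j) : HasF p (H.map j) := by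
  obtain ⟨K, hK, f, hf⟩ := h
  exact ⟨K.map j, map_mono hK, f.comp (K.equivMapOfInjective j hj).symm.toMonoidHom,
    hf.comp (K.equivMapOfInjective j hj).symm.surjective⟩

theorem HasF.comap {G' : Type*} [Group G'] {H : Subgroup G'} (h : HasF p H) (j : G →* G')
    (hj : H ≤ j.range) : HasF p (H.comap j) := by
  obtain ⟨K, hK, f, hf⟩ := h
  refine ⟨K.comap j, Subgroup.comap_mono hK, f.comp (j.subgroupComap K), hf.comp ?_⟩
  rintro ⟨k, hk⟩
  obtain ⟨g, rfl⟩ := hj (hK hk)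
  exact ⟨⟨g, hk⟩, rfl⟩

theorem HasF.involves {H : Subgroup G} (h : HasF p H) : Cfsg.Involves (FGrp p) ↥H := by
  obtain ⟨K, hK, f, hf⟩ := h
  obtain ⟨L, hL, he⟩ := Transfer.exists_section_of_surjective (K := K.subgroupOf H)
    (f.comp (subgroupOfEquivOfLe hK).toMonoidHom) (hf.comp (subgroupOfEquivOfLe hK).surjective)
  exact ⟨_, L, hL, he⟩

/-! ### Homomorphisms from graphs -/

theorem exists_hom_of_graph {F : Type*} [Group F] {A B : Subgroup G} (fA : A →* F) (fB : B →* F)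
    (hB : B ≤ normalizer (A : Set G))
    (hagree : ∀ (g : G) (ha : g ∈ A) (hb : g ∈ B), fA ⟨g, ha⟩ = fB ⟨g, hb⟩)
    (heq : ∀ (b : B) (a : A), fA ⟨(b : G) * a * (b : G)⁻¹,
      (mem_normalizer_iff.mp (hB b.2) a).mp a.2⟩ = fB b * fA a * (fB b)⁻¹) :
    ∃ f : (A ⊔ B : Subgroup G) →* F, (∀ a : A, f ⟨a, mem_sup_left a.2⟩ = fA a) ∧
      ∀ b : B, f ⟨b, mem_sup_right b.2⟩ = fB b := by
  set gA := A.subtype.prod fA with hgA
  set gB := B.subtype.prod fB with hgB
  set R := gA.range ⊔ gB.range with hR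
  have hnorm : gB.range ≤ normalizer (gA.range : Set (G × F)) := by
    rintro _ ⟨b, rfl⟩
    rw [mem_normalizer_iff]
    intro z
    constructor
    · rintro ⟨a, rfl⟩
      exact ⟨⟨(b : G) * a * (b : G)⁻¹, (mem_normalizer_iff.mp (hB b.2) a).mp a.2⟩,
        Prod.ext rfl (heq b a)⟩
    · rintro ⟨a, ha⟩
      refine ⟨⟨((b⁻¹ : B) : G) * a * ((b⁻¹ : B) : G)⁻¹,
        (mem_normalizer_iff.mp (hB (b⁻¹).2) a).mp a.2⟩, ?_⟩
      have h1 : gA ⟨((b⁻¹ : B) : G) * a * ((b⁻¹ : B) : G)⁻¹,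
          (mem_normalizer_iff.mp (hB (b⁻¹).2) a).mp a.2⟩ = gB b⁻¹ * gA a * (gB b⁻¹)⁻¹ :=
        Prod.ext rfl (heq b⁻¹ a)
      rw [h1, ha, map_inv]
      group
  have hdec : ∀ z ∈ R, ∃ (a : A) (b : B), z = gA a * gB b := by
    intro z hz
    rw [hR, ← SetLike.mem_coe, coe_mul_of_right_le_normalizer_left _ _ hnorm] at hz
    obtain ⟨_, ⟨a, rfl⟩, _, ⟨b, rfl⟩, rfl⟩ := hz
    exact ⟨a, b, rfl⟩
  let pr : R →* (A ⊔ B : Subgroup G) :=
    ((MonoidHom.fst G F).comp R.subtype).codRestrict _ fun z => by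
      obtain ⟨a, b, e⟩ := hdec z z.2
      show (z : G × F).1 ∈ A ⊔ B
      rw [e]
      exact mul_mem (mem_sup_left a.2) (mem_sup_right b.2)
  have hinj : Function.Injective pr := by
    rw [injective_iff_map_eq_one]
    intro z hz
    obtain ⟨a, b, e⟩ := hdec z z.2
    have h1 : (z : G × F).1 = 1 := congrArg Subtype.val hz
    refine Subtype.ext (Prod.ext h1 ?_)
    rw [e] at h1 ⊢
    have hab : (a : G) * (b : G) = 1 := h1
    have hbA : (b : G) ∈ A := by
      rw [eq_inv_of_mul_eq_one_right hab]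
      exact inv_mem a.2
    show fA a * fB b = 1
    rw [← hagree (b : G) hbA b.2, ← map_mul]
    exact (congrArg fA (Subtype.ext hab)).trans (map_one fA)
  have hsurj : Function.Surjective pr := by
    rintro ⟨g, hg⟩
    rw [← SetLike.mem_coe, coe_mul_of_right_le_normalizer_left _ _ hB] at hg
    obtain ⟨a, ha, b, hb, rfl⟩ := hg
    exact ⟨⟨gA ⟨a, ha⟩ * gB ⟨b, hb⟩,
      mul_mem (mem_sup_left ⟨_, rfl⟩) (mem_sup_right ⟨_, rfl⟩)⟩, rfl⟩
  let e := MulEquiv.ofBijective pr ⟨hinj, hsurj⟩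
  refine ⟨((MonoidHom.snd G F).comp R.subtype).comp e.symm.toMonoidHom, fun a => ?_, fun b => ?_⟩
  · have : e.symm ⟨a, mem_sup_left a.2⟩ = ⟨gA a, mem_sup_left ⟨a, rfl⟩⟩ :=
      e.symm_apply_eq.mpr rfl
    show ((e.symm ⟨a, _⟩ : R) : G × F).2 = _
    rw [this]
    rfl
  · have : e.symm ⟨b, mem_sup_right b.2⟩ = ⟨gB b, mem_sup_right ⟨b, rfl⟩⟩ :=
      e.symm_apply_eq.mpr rfl
    show ((e.symm ⟨b, _⟩ : R) : G × F).2 = _
    rw [this]
    rfl

/-! ### The structure of `F(p)` -/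

theorem fGrp_entries (M : FGrp p) :
    M.1.1 1 0 = 0 ∧ M.1.1 2 0 = 0 ∧ M.1.1 2 1 = 0 ∧ M.1.1 2 2 = 1 := by
  obtain ⟨M, hM⟩ := M
  show M.1 1 0 = 0 ∧ M.1 2 0 = 0 ∧ M.1 2 1 = 0 ∧ M.1 2 2 = 1
  induction hM using Subgroup.closure_induction with
  | mem z hz => exact hz
  | one => simp
  | mul a b _ _ ha hb =>
    obtain ⟨a1, a2, a3, a4⟩ := ha
    obtain ⟨b1, b2, b3, b4⟩ := hb
    simp [Matrix.SpecialLinearGroup.coe_mul, Matrix.mul_apply, Fin.sum_univ_three,
      a1, a2, a3, a4, b1, b2, b3, b4]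
  | inv a _ ha =>
    obtain ⟨a1, a2, a3, a4⟩ := ha
    have hd := a.2
    rw [det_fin_three] at hd
    simp only [a1, a2, a3, a4] at hd
    have hdd : a.1 0 0 * a.1 1 1 = 1 := by linear_combination hd
    simp [Matrix.SpecialLinearGroup.coe_inv, Matrix.adjugate_fin_three, a1, a2, a3, a4, hdd]

theorem fGrp_det (M : FGrp p) : M.1.1 0 0 * M.1.1 1 1 = 1 := by
  obtain ⟨a1, a2, a3, a4⟩ := fGrp_entries M
  have hd := M.1.2
  rw [det_fin_three] at hd
  simp only [a1, a2, a3, a4] at hd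
  linear_combination hd

/-- The character `a` of `(a b c; 0 a⁻¹ d; 0 0 1)`. -/
def fChar (p : ℕ) [Fact p.Prime] : FGrp p →* (ZMod p)ˣ where
  toFun M := Units.mkOfMulEqOne _ _ (fGrp_det M)
  map_one' := Units.ext (by simp)
  map_mul' M N := Units.ext (by
    simp [Matrix.mul_apply, Fin.sum_univ_three, (fGrp_entries N).1, (fGrp_entries N).2.1])

theorem fChar_val (M : FGrp p) : ((fChar p M : (ZMod p)ˣ) : ZMod p) = M.1.1 0 0 := rfl

/-- An element of `F(p)` from its entries. -/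
def fMk (v : Fin 2 → ZMod p) (q : SL(2, ZMod p)) (hq : q.1 1 0 = 0) : FGrp p :=
  ⟨SL2Dickson.block v q, subset_closure (by simp [hq])⟩

/-- The torus element. -/
def fTorus (b : (ZMod p)ˣ) : FGrp p :=
  fMk 0 ⟨!![(b : ZMod p), 0; 0, (b : ZMod p)⁻¹], by
    rw [det_fin_two_of, mul_inv_cancel₀ b.ne_zero, mul_zero, sub_zero]⟩ (by simp)

theorem fChar_fTorus (b : (ZMod p)ˣ) : fChar p (fTorus b) = b :=
  Units.ext (by rw [fChar_val]; rfl)

theorem fChar_ker_isPGroup (hp2 : p ≠ 2) : IsPGroup p (fChar p).ker := by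
  rintro ⟨M, hM⟩
  refine ⟨1, Subtype.ext (Subtype.ext (Subtype.ext ?_))⟩
  obtain ⟨a1, a2, a3, a4⟩ := fGrp_entries M
  have h00 : M.1.1 0 0 = 1 := by
    rw [← fChar_val, MonoidHom.mem_ker.mp hM]; rfl
  have h11 : M.1.1 1 1 = 1 := by
    have := fGrp_det M
    rwa [h00, one_mul] at this
  rw [pow_one]
  show ((M ^ p : FGrp p).1).1 = 1
  rw [SubgroupClass.coe_pow, Matrix.SpecialLinearGroup.coe_pow]
  set N := M.1.1 - 1 with hN
  have hN3 : N * N * N = 0 := by
    ext i j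
    fin_cases i <;> fin_cases j <;>
      simp [hN, Matrix.mul_apply, Fin.sum_univ_three, a1, a2, a3, a4, h00, h11]
  have hp3 : 3 ≤ p := by
    have := hp.out.two_le
    omega
  haveI : CharP (Matrix (Fin 3) (Fin 3) (ZMod p)) p := Matrix.charP p
  rw [show M.1.1 = N + 1 by rw [hN]; abel, add_pow_char_of_commute (p := p) (h := Commute.one_right N),
    one_pow, show N ^ p = 0 from pow_eq_zero_of_le hp3 (by rw [pow_succ, pow_two]; exact hN3),
    zero_add]

/-- Only unipotent elements centralize the unipotent part. -/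
theorem fChar_eq_one_of_centralizes (M : FGrp p)
    (h : ∀ N ∈ (fChar p).ker, N * M = M * N) : fChar p M = 1 := by
  set q : SL(2, ZMod p) := 1
  set N := fMk ![(0 : ZMod p), 1] q (by simp [q]) with hN
  have hker : N ∈ (fChar p).ker := MonoidHom.mem_ker.mpr (Units.ext (by
    rw [fChar_val]; simp [hN, fMk, q]))
  have e := congrFun (congrFun (congrArg (fun z : FGrp p => z.1.1) (h N hker)) 1) 2
  obtain ⟨a1, a2, a3, a4⟩ := fGrp_entries M
  simp [hN, fMk, q, Matrix.mul_apply, Fin.sum_univ_three, a4, a1] at e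
  have hd := fGrp_det M
  apply Units.ext
  rw [fChar_val, Units.val_one]
  have h11 : M.1.1 1 1 = 1 := by linear_combination -e
  rwa [h11, mul_one] at hd

variable [Finite G]

/-- A configuration: a `p`-group and a normalizing element. -/
theorem HasF.exists_config (hp2 : p ≠ 2) {H : Subgroup G} (h : HasF p H) :
    ∃ (P : Subgroup G) (n : G), P ≤ H ∧ n ∈ H ∧ IsPGroup p P ∧ n ∈ normalizer (P : Set G) ∧
      ∃ f : (P ⊔ zpowers n : Subgroup G) →* FGrp p, Function.Surjective f ∧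
        ∀ M ∈ (fChar p).ker, ∃ z : P, f (inclusion le_sup_left z) = M := by
  obtain ⟨a, ha⟩ := IsCyclic.exists_generator (α := (ZMod p)ˣ)
  obtain ⟨K, hK, f, hf⟩ := h
  obtain ⟨S⟩ : Nonempty (Sylow p K) := inferInstance
  set A := ((fChar p).comp f).ker with hA
  have hSA : (S : Subgroup K) ≤ A := by
    intro s hs
    rw [hA, MonoidHom.mem_ker]
    obtain ⟨k, hk⟩ := S.2 ⟨s, hs⟩
    have h1 : (fChar p (f s)) ^ p ^ k = 1 := by
      rw [← map_pow, ← map_pow]
      exact (congrArg (fun z : S => fChar p (f z)) hk).trans (by simp)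
    have h2 : orderOf (fChar p (f s)) ∣ p - 1 := by
      rw [← ZMod.card_units p, ← Nat.card_eq_fintype_card]
      exact orderOf_dvd_natCard _
    refine orderOf_eq_one_iff.mp (Nat.eq_one_of_dvd_coprimes ?_ h2 (orderOf_dvd_of_pow_eq_one h1))
    refine Nat.Coprime.pow_right k ?_
    rw [Nat.coprime_comm, hp.out.coprime_iff_not_dvd]
    intro hd
    have := Nat.le_of_dvd (by have := hp.out.two_le; omega) hd
    have := hp.out.two_le
    omega
  have hfS : (S : Subgroup K).map f = (fChar p).ker := by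
    have hle : (S : Subgroup K).map f ≤ (fChar p).ker := by
      rintro _ ⟨s, hs, rfl⟩
      exact hSA hs
    let S' : Sylow p (FGrp p) := S.mapSurjective hf
    haveI : ((fChar p).ker).Normal := MonoidHom.normal_ker _
    refine le_antisymm hle ?_
    have hS' : (S' : Subgroup (FGrp p)) = (S : Subgroup K).map f := Sylow.coe_mapSurjective hf S
    exact hS' ▸ (S'.3 (fChar_ker_isPGroup hp2) (hS'.le.trans hle)).le
  set SA := S.subtype hSA
  have hfrat := Sylow.normalizer_sup_eq_top SA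
  rw [show (SA : Subgroup A).map A.subtype = (S : Subgroup K) by
    rw [Sylow.coe_subtype, subgroupOf_map_subtype, inf_eq_left.mpr hSA]] at hfrat
  have hn : ∃ n ∈ normalizer ((S : Subgroup K) : Set K), fChar p (f n) = a := by
    have hsurj : Function.Surjective ((fChar p).comp f) := by
      obtain ⟨k, hk⟩ := hf (fTorus a)
      intro b
      obtain ⟨j, rfl⟩ := mem_zpowers_iff.mp (ha b)
      refine ⟨k ^ j, ?_⟩
      rw [map_zpow, MonoidHom.comp_apply, hk, fChar_fTorus]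
    obtain ⟨k, hk⟩ := hsurj a
    have : k ∈ normalizer ((S : Subgroup K) : Set K) ⊔ A := by rw [hfrat]; trivial
    obtain ⟨n, hn, z, hz, rfl⟩ := mem_sup_of_normal_right.mp this
    refine ⟨n, hn, ?_⟩
    rw [map_mul, MonoidHom.mem_ker.mp hz, mul_one] at hk
    exact hk
  obtain ⟨n, hnS, hna⟩ := hn
  refine ⟨(S : Subgroup K).map K.subtype, n, (map_subtype_le _).trans hK, hK n.2, S.2.map _,
    le_normalizer_map K.subtype ⟨n, hnS, rfl⟩, ?_⟩
  have hle : (S : Subgroup K).map K.subtype ⊔ zpowers (n : G) ≤ K :=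
    sup_le (map_subtype_le _) (zpowers_le.mpr n.2)
  refine ⟨f.comp (inclusion hle), fun M => ?_, fun M hM => ?_⟩
  swap
  · rw [← hfS] at hM
    obtain ⟨s, hs, rfl⟩ := hM
    exact ⟨⟨s, s, hs, rfl⟩, rfl⟩
  obtain ⟨j, hj⟩ := mem_zpowers_iff.mp (ha (fChar p M))
  have hker : (f (n ^ j))⁻¹ * M ∈ (fChar p).ker := by
    rw [MonoidHom.mem_ker, map_mul, map_inv, map_zpow, map_zpow, hna, hj, inv_mul_cancel]
  rw [← hfS] at hker
  obtain ⟨s, hs, hse⟩ := hker
  refine ⟨⟨((n ^ j : K) : G) * (s : G),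
    mul_mem (mem_sup_right (by rw [SubgroupClass.coe_zpow]; exact zpow_mem (mem_zpowers _) j))
      (mem_sup_left ⟨s, hs, rfl⟩)⟩, ?_⟩
  show f (n ^ j * s) = M
  rw [map_mul, hse, mul_inv_cancel_left]

/-- Realising the configuration inside `H` puts `F(p)` into `H`. -/
theorem hasF_of_agree (hp2 : p ≠ 2) {H P : Subgroup G} {n h : G} (hPH : P ≤ H) (hh : h ∈ H)
    (hP : IsPGroup p P) (hn : n ∈ normalizer (P : Set G))
    (f : (P ⊔ zpowers n : Subgroup G) →* FGrp p) (hf : Function.Surjective f)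
    (hfull : ∀ M ∈ (fChar p).ker, ∃ z : P, f (inclusion le_sup_left z) = M)
    (hag : ∀ z ∈ P, h * z * h⁻¹ = n * z * n⁻¹) : HasF p H := by
  obtain ⟨a, ha⟩ := IsCyclic.exists_generator (α := (ZMod p)ˣ)
  have hpm1 : Nat.card (ZMod p)ˣ = p - 1 := by rw [Nat.card_eq_fintype_card, ZMod.card_units]
  have hcop : (p - 1).Coprime p := by
    rw [Nat.coprime_comm, hp.out.coprime_iff_not_dvd]
    intro hd
    have := Nat.le_of_dvd (by have := hp.out.two_le; omega) hd
    have := hp.out.two_le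
    omega
  set ι : P →* (P ⊔ zpowers n : Subgroup G) := inclusion le_sup_left
  set nn : (P ⊔ zpowers n : Subgroup G) := ⟨n, mem_sup_right (mem_zpowers n)⟩
  -- the image of `P` is the unipotent part
  have hPker : ∀ z : P, f (ι z) ∈ (fChar p).ker := by
    intro z
    obtain ⟨k, hk⟩ := hP z
    rw [MonoidHom.mem_ker]
    refine orderOf_eq_one_iff.mp (Nat.eq_one_of_dvd_coprimes (Nat.Coprime.pow_right k hcop)
      (hpm1 ▸ orderOf_dvd_natCard _) (orderOf_dvd_of_pow_eq_one (n := p ^ k) ?_))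
    rw [← map_pow, ← map_pow, ← map_pow, hk, map_one, map_one, map_one]
  have hdec : ∀ w : (P ⊔ zpowers n : Subgroup G), ∃ (z : P) (j : ℤ), w = ι z * nn ^ j := by
    rintro ⟨w, hw⟩
    rw [← SetLike.mem_coe, coe_mul_of_right_le_normalizer_left _ _ (zpowers_le.mpr hn)] at hw
    obtain ⟨z, hz, _, ⟨j, rfl⟩, rfl⟩ := hw
    exact ⟨⟨z, hz⟩, j, Subtype.ext (by simp [ι, nn])⟩
  have hgen : ∀ b : (ZMod p)ˣ, ∃ j : ℤ, fChar p (f nn) ^ j = b := by
    intro b
    obtain ⟨w, hw⟩ := hf (fTorus b)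
    obtain ⟨z, j, rfl⟩ := hdec w
    refine ⟨j, ?_⟩
    rw [← map_zpow, ← map_zpow]
    have e : fChar p (f (ι z * nn ^ j)) = fChar p (f (nn ^ j)) := by
      rw [map_mul, map_mul, MonoidHom.mem_ker.mp (hPker z), one_mul]
    rw [← e, hw, fChar_fTorus]
  -- coprime powers
  obtain ⟨α, m, hm, hN⟩ := Nat.exists_eq_pow_mul_and_not_dvd
    (Nat.lcm_ne_zero (orderOf_pos h).ne' (orderOf_pos n).ne') p hp.out.ne_one
  have hco : (p ^ α).Coprime m := Nat.Coprime.pow_left α (hp.out.coprime_iff_not_dvd.mpr hm)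
  obtain ⟨k, hk0, hk1⟩ := Nat.chineseRemainder hco 0 1
  have hkdvd : Nat.lcm (orderOf h) (orderOf n) ∣ k * m := by
    rw [hN]
    exact Nat.mul_dvd_mul_right (Nat.modEq_zero_iff_dvd.mp hk0) m
  have hagk : ∀ (i : ℕ), ∀ z ∈ P, h ^ i * z * (h ^ i)⁻¹ = n ^ i * z * (n ^ i)⁻¹ := by
    intro i
    induction i with
    | zero => intro z _; simp
    | succ i ih =>
      intro z hz
      have h2 : n ^ i * z * (n ^ i)⁻¹ ∈ P :=
        (mem_normalizer_iff.mp (pow_mem hn i) z).mp hz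
      calc h ^ (i + 1) * z * (h ^ (i + 1))⁻¹ = h * (h ^ i * z * (h ^ i)⁻¹) * h⁻¹ := by
            rw [pow_succ']; group
        _ = n * (n ^ i * z * (n ^ i)⁻¹) * n⁻¹ := by rw [ih z hz, hag _ h2]
        _ = _ := by rw [pow_succ']; group
  set h' := h ^ k with hh'
  set t := f (nn ^ k) with ht
  have hh'm : h' ^ m = 1 := by
    rw [hh', ← pow_mul]
    exact orderOf_dvd_iff_pow_eq_one.mp ((Nat.dvd_lcm_left _ _).trans hkdvd)
  have hh'o : (orderOf h').Coprime p :=
    Nat.Coprime.coprime_dvd_left (orderOf_dvd_of_pow_eq_one hh'm)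
      (Nat.coprime_comm.mp (hp.out.coprime_iff_not_dvd.mpr hm))
  have htchar : fChar p t = fChar p (f nn) := by
    rw [ht, map_pow, map_pow]
    have hdm : p - 1 ∣ m := by
      have h1 : orderOf (fChar p (f nn)) = p - 1 := by
        rw [← hpm1]
        exact orderOf_eq_card_of_forall_mem_zpowers fun b => mem_zpowers_iff.mpr (hgen b)
      have h2 : p - 1 ∣ p ^ α * m := by
        rw [← hN, ← h1]
        refine ((orderOf_map_dvd _ _).trans ((orderOf_map_dvd f nn).trans ?_))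
        rw [← Subgroup.orderOf_coe]
        exact Nat.dvd_lcm_right _ _
      exact (Nat.Coprime.pow_right α hcop).dvd_of_dvd_mul_left h2
    have hmod : k ≡ 1 [MOD p - 1] := Nat.ModEq.of_dvd hdm hk1
    conv_rhs => rw [← pow_one (fChar p (f nn))]
    rw [pow_eq_pow_iff_modEq]
    exact hmod.of_dvd (hpm1 ▸ orderOf_dvd_natCard _)
  have htdvd : orderOf t ∣ orderOf h' := by
    rw [orderOf_dvd_iff_pow_eq_one]
    set o := orderOf h'
    have hc : ∀ N ∈ (fChar p).ker, N * t ^ o = t ^ o * N := by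
      intro N hN'
      obtain ⟨w, rfl⟩ := hf N
      obtain ⟨z, j, rfl⟩ := hdec w
      have hj : fChar p (f nn) ^ j = 1 := by
        rw [MonoidHom.mem_ker, map_mul, map_mul, MonoidHom.mem_ker.mp (hPker z), one_mul,
          map_zpow, map_zpow] at hN'
        exact hN'
      have hcz : (nn ^ k) ^ o * ι z * ((nn ^ k) ^ o)⁻¹ = ι z := by
        refine Subtype.ext ?_
        have h3 := hagk (k * o) z z.2
        rw [pow_mul, pow_mul, show h' ^ o = 1 from pow_orderOf_eq_one h'] at h3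
        simp [ι, nn] at h3 ⊢
        exact h3.symm
      rw [map_mul, map_zpow, ← map_pow]
      have e1 : f (ι z) * f ((nn ^ k) ^ o) = f ((nn ^ k) ^ o) * f (ι z) := by
        rw [← map_mul, ← map_mul]
        refine congrArg f ?_
        rw [mul_inv_eq_iff_eq_mul] at hcz
        exact hcz.symm
      have e2 : f nn ^ j * f ((nn ^ k) ^ o) = f ((nn ^ k) ^ o) * f nn ^ j := by
        rw [map_pow, map_pow]
        exact ((((Commute.refl (f nn)).zpow_left j).pow_right k).pow_right o).eq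
      rw [mul_assoc, e2, ← mul_assoc, e1, mul_assoc]
    have h1 := fChar_eq_one_of_centralizes _ hc
    obtain ⟨r, hr⟩ := fChar_ker_isPGroup hp2 ⟨t ^ o, MonoidHom.mem_ker.mpr h1⟩
    have hr' : (t ^ o) ^ p ^ r = 1 := congrArg Subtype.val hr
    have hm' : (t ^ o) ^ m = 1 := by
      rw [← pow_mul, mul_comm o m, pow_mul, ht, ← map_pow, ← pow_mul,
        show nn ^ (k * m) = 1 from orderOf_dvd_iff_pow_eq_one.mp (by
          rw [← Subgroup.orderOf_coe]; exact (Nat.dvd_lcm_right _ _).trans hkdvd),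
        map_one, one_pow]
    refine orderOf_eq_one_iff.mp (Nat.eq_one_of_dvd_coprimes
      (Nat.Coprime.pow_left r (hp.out.coprime_iff_not_dvd.mpr hm))
      (orderOf_dvd_of_pow_eq_one hr') (orderOf_dvd_of_pow_eq_one hm'))
  let fB : zpowers h' →* FGrp p :=
    monoidHomOfForallMemZpowers (g := ⟨h', mem_zpowers h'⟩) (g' := t)
      (fun z => by
        obtain ⟨_, j, rfl⟩ := z
        exact ⟨j, Subtype.ext (by simp)⟩)
      (htdvd.trans (Subgroup.orderOf_coe (⟨h', mem_zpowers h'⟩ : zpowers h')).dvd)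
  have hfB : ∀ j : ℤ, fB ⟨h' ^ j, zpow_mem (mem_zpowers h') j⟩ = t ^ j := fun j => by
    have : (⟨h' ^ j, zpow_mem (mem_zpowers h') j⟩ : zpowers h') = ⟨h', mem_zpowers h'⟩ ^ j :=
      Subtype.ext (by simp)
    rw [this, map_zpow, monoidHomOfForallMemZpowers_apply_gen]
  have hh'N : h' ∈ normalizer (P : Set G) := by
    refine ConjFunctor.cj_eq_iff.mp (eq_of_le_of_card_ge ?_ (by rw [ConjFunctor.cj_card]))
    rintro _ ⟨z, hz, rfl⟩
    show h ^ k * z * (h ^ k)⁻¹ ∈ P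
    rw [hagk k z hz]
    exact (mem_normalizer_iff.mp (pow_mem hn k) z).mp hz
  have hnk : ∀ z ∈ P, h' * z * h'⁻¹ = n ^ k * z * (n ^ k)⁻¹ := hagk k
  have hzag : ∀ (j : ℤ), ∀ z ∈ P, h' ^ j * z * (h' ^ j)⁻¹ = (n ^ k) ^ j * z * ((n ^ k) ^ j)⁻¹ := by
    intro j
    induction j using Int.induction_on with
    | zero => intro z _; simp
    | succ i ih =>
      intro z hz
      rw [add_comm, _root_.zpow_add, _root_.zpow_one, _root_.zpow_add, _root_.zpow_one]
      calc h' * h' ^ (i : ℤ) * z * (h' * h' ^ (i : ℤ))⁻¹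
          = h' * (h' ^ (i : ℤ) * z * (h' ^ (i : ℤ))⁻¹) * h'⁻¹ := by group
        _ = n ^ k * ((n ^ k) ^ (i : ℤ) * z * ((n ^ k) ^ (i : ℤ))⁻¹) * (n ^ k)⁻¹ := by
          rw [ih z hz]; exact hnk _ ((mem_normalizer_iff.mp (zpow_mem (pow_mem hn k) _) z).mp hz)
        _ = _ := by group
    | pred i ih =>
      intro z hz
      set w := (n ^ k)⁻¹ * z * (n ^ k)⁻¹⁻¹ with hw
      have hwP : w ∈ P := (mem_normalizer_iff.mp (inv_mem (pow_mem hn k)) z).mp hz
      have hwz : h'⁻¹ * z * h'⁻¹⁻¹ = w := by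
        have h1 := hnk w hwP
        rw [hw] at h1 ⊢
        calc h'⁻¹ * z * h'⁻¹⁻¹ =
            h'⁻¹ * (n ^ k * ((n ^ k)⁻¹ * z * (n ^ k)⁻¹⁻¹) * (n ^ k)⁻¹) * h'⁻¹⁻¹ := by group
          _ = _ := by rw [← h1]; group
      rw [sub_eq_add_neg, _root_.zpow_add, _root_.zpow_neg_one, _root_.zpow_add,
        _root_.zpow_neg_one]
      calc h' ^ (-(i : ℤ)) * h'⁻¹ * z * (h' ^ (-(i : ℤ)) * h'⁻¹)⁻¹
          = h' ^ (-(i : ℤ)) * (h'⁻¹ * z * h'⁻¹⁻¹) * (h' ^ (-(i : ℤ)))⁻¹ := by group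
        _ = _ := by rw [hwz, ih w hwP, hw]; group
  obtain ⟨f', hfA', hfB'⟩ := exists_hom_of_graph (f.comp ι) fB (zpowers_le.mpr hh'N)
    (fun g hgP hgh => by
      have hg1 : g = 1 := by
        obtain ⟨r, hr⟩ := hP ⟨g, hgP⟩
        refine orderOf_eq_one_iff.mp (Nat.eq_one_of_dvd_coprimes
          (Nat.Coprime.pow_right r hh'o) ?_ (orderOf_dvd_of_pow_eq_one (congrArg Subtype.val hr)))
        exact orderOf_dvd_of_mem_zpowers hgh
      subst hg1
      exact (map_one (f.comp ι)).trans (map_one fB).symm)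
    (fun b z => by
      obtain ⟨_, j, rfl⟩ := b
      rw [hfB j]
      show f (ι _) = _ * f (ι z) * _
      rw [ht, ← map_zpow, ← map_inv, ← map_mul, ← map_mul]
      refine congrArg f (Subtype.ext ?_)
      show h' ^ j * (z : G) * (h' ^ j)⁻¹ = _
      rw [hzag j z z.2]
      simp [ι, nn])
  refine ⟨_, sup_le hPH (zpowers_le.mpr (pow_mem hh k)), f', fun M => ?_⟩
  obtain ⟨j, hj⟩ := hgen (fChar p M)
  obtain ⟨w, hw⟩ := hf (M * (t ^ j)⁻¹)
  obtain ⟨z, i, rfl⟩ := hdec w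
  have hi : fChar p (f nn) ^ i = 1 := by
    have h1 := congrArg (fChar p) hw
    rw [map_mul, map_mul, MonoidHom.mem_ker.mp (hPker z), one_mul, map_zpow, map_zpow, map_mul,
      map_inv, map_zpow, htchar, hj, mul_inv_cancel] at h1
    exact h1
  have hker : ∃ z' : P, f (ι z') = f (ι z * nn ^ i) := by
    have hmem : f (ι z * nn ^ i) ∈ (fChar p).ker := by
      rw [MonoidHom.mem_ker, map_mul, map_mul, MonoidHom.mem_ker.mp (hPker z), one_mul, map_zpow,
        map_zpow, hi]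
    exact hfull _ hmem
  obtain ⟨z', hz'⟩ := hker
  refine ⟨⟨(z' : G), mem_sup_left z'.2⟩ * ⟨h' ^ j, mem_sup_right (zpow_mem (mem_zpowers h') j)⟩, ?_⟩
  rw [map_mul, hfA' z']
  rw [show f' ⟨h' ^ j, mem_sup_right (zpow_mem (mem_zpowers h') j)⟩ = t ^ j from
    (hfB' ⟨h' ^ j, zpow_mem (mem_zpowers h') j⟩).trans (hfB j)]
  show f (ι z') * t ^ j = M
  rw [hz', hw, inv_mul_cancel_right]

end Cfsg.Agent.ZJWeight
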