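import Cfsg.Agent.Lib.ZJWeight.Local

/-!
# A quadratic element outside `O_p(L)` for a bad local subgroup of largest Sylow order
-/

set_option autoImplicit false

namespace Cfsg.Agent.ZJWeight

open Subgroup
open ConjFunctor (cj IsSylIn nS)
open Transfer (ZJAb JAb)
open scoped Pointwise commutatorElement

universe u

variable {p : ℕ} [hp : Fact p.Prime] {G : Type u} [Group G] [Finite G]

/-- The full Sylow case: replacement. -/
theorem quad_exists_full (hp2 : p ≠ 2) (S : Sylow p G) {L : Subgroup G}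
    (hS : IsSylIn p (S : Subgroup G) L) {K : Subgroup G} (hKZ : K ≤ ZJAb 0 (S : Subgroup G))
    {X B : Subgroup G} (hXZ : X ≤ ZJAb 0 (S : Subgroup G))
    (hB : B = closure {b | ∃ l ∈ L, ∃ x ∈ X, l * x * l⁻¹ = b}) (hBQ : B ≤ opIn p L)
    (hBB : ∀ a ∈ B, ∀ b ∈ B, ⁅a, b⁆ ∈ K)
    (hmv : ∃ l ∈ L, ∃ x ∈ X, l * x * l⁻¹ ∉ ZJAb 0 (S : Subgroup G))
    (hmvQ : ∃ l ∈ L, ∃ z ∈ ZJAb 0 (S : Subgroup G) ⊓ opIn p L,
      l * z * l⁻¹ ∉ ZJAb 0 (S : Subgroup G)) :
    ∃ v ∈ (S : Subgroup G), v ∉ opIn p L ∧ ∀ b ∈ B, Commute v (v * b * v⁻¹ * b⁻¹) := by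
  set Z := ZJAb 0 (S : Subgroup G) with hZ
  set Q := opIn p L with hQ
  set J := JAb 0 (S : Subgroup G) with hJ
  have hQS : Q ≤ (S : Subgroup G) := opIn_le_syl hS
  have hBS : B ≤ (S : Subgroup G) := hBQ.trans hQS
  have hJQ : ¬ J ≤ Q := by
    intro hle
    obtain ⟨l, hl, z, hz, hne⟩ := hmvQ
    apply hne
    have e : ZJAb 0 Q = Z := by
      rw [hZ, ZJAb, ZJAb, Transfer.JAb_eq_of_le hQS hle]
    have h1 := Transfer.normalizer_le_normalizer_ZJAb (e := 0) Q (le_normalizer_opIn L hl)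
    rw [e] at h1
    exact (mem_normalizer_iff.mp h1 z).mp hz.1
  set SS := (S : Subgroup G)
  set BS := B.subgroupOf SS with hBSdef
  haveI : BS.Normal := (normal_subgroupOf_iff_le_normalizer hBS).mpr (by
    intro s hs
    refine ConjFunctor.cj_eq_iff.mp (eq_of_le_of_card_ge ?_ (by rw [ConjFunctor.cj_card]))
    rw [ConjFunctor.cj, hB, MonoidHom.map_closure, closure_le]
    rintro _ ⟨_, ⟨l, hl, x, hx, rfl⟩, rfl⟩
    exact subset_closure ⟨s * l, L.mul_mem (hS.1 hs) hl, x, hx, by simp [mul_assoc]⟩)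
  have htop : (⊤ : Subgroup SS).map SS.subtype = SS := by
    rw [← MonoidHom.range_eq_map, range_subtype]
  have hZA : ∀ {A : Subgroup G}, Transfer.IsMaxAbIn 0 SS A → Z ≤ A := fun {A} hA z hz =>
    Transfer.mem_of_commute_maxAb hA (Transfer.ZJAb_le _ hz) (pow_zero z)
      fun a ha => hz.2 a (Transfer.le_JAb hA ha)
  have hBcent : ∀ {A : Subgroup G}, Transfer.IsMaxAbIn 0 SS A → A ≤ Q → B ≤ A := by
    intro A hA hAQ
    rw [hB, closure_le]
    rintro _ ⟨l, hl, x, hx, rfl⟩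
    refine Transfer.mem_of_commute_maxAb hA (hBS (hB ▸ subset_closure ⟨l, hl, x, hx, rfl⟩))
      (pow_zero _) fun a ha => ?_
    have hA' : Transfer.IsMaxAbIn 0 SS (cj l⁻¹ A) := by
      have hle : cj l⁻¹ A ≤ SS := by
        refine le_trans ?_ hQS
        rintro _ ⟨t, ht, rfl⟩
        exact (mem_normalizer_iff.mp (le_normalizer_opIn L (inv_mem hl)) t).mp (hAQ ht)
      refine ⟨hle, Transfer.AbExp.map hA.2.1 _, fun C hC hCe => ?_⟩
      rw [ConjFunctor.cj_card]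
      exact hA.2.2 C hC hCe
    have h1 : Commute (l⁻¹ * a * l) x := by
      have ha' : l⁻¹ * a * l ∈ cj l⁻¹ A := ⟨a, ha, by simp⟩
      exact (hXZ hx).2 _ (Transfer.le_JAb hA' ha')
    have h2 := h1.map (MulAut.conj l).toMonoidHom
    have e1 : l * (l⁻¹ * a * l) * l⁻¹ = a := by group
    simp only [MulEquiv.coe_toMonoidHom, MulAut.conj_apply, e1] at h2
    exact h2
  have hex : ∃ U, Transfer.IsMaxAbIn 0 SS U ∧ ¬ B ≤ U := by
    by_contra hcon
    push Not at hcon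
    obtain ⟨l, hl, x, hx, hne⟩ := hmv
    apply hne
    have hb : l * x * l⁻¹ ∈ B := hB ▸ subset_closure ⟨l, hl, x, hx, rfl⟩
    obtain ⟨U₀, hU₀⟩ := Transfer.exists_isMaxAbIn (e := 0) SS
    refine ⟨Transfer.le_JAb hU₀ (hcon U₀ hU₀ hb), ?_⟩
    intro y hy
    have : JAb 0 SS ≤ centralizer ({l * x * l⁻¹} : Set G) := sSup_le fun U hU u hu z hz => by
      rw [Set.mem_singleton_iff.mp hz]
      exact (Transfer.AbExp.commute hU.2.1 (hcon U hU hb) hu).eq
    exact ((this hy) _ rfl).symm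
  obtain ⟨U, hU, hUB⟩ := hex
  have hUt : Transfer.IsMaxAbIn 0 (⊤ : Subgroup SS) (U.subgroupOf SS) := by
    refine Transfer.isMaxAbIn_of_map le_top SS.subtype (subtype_injective _).injOn ?_
    rw [htop, map_subgroupOf_eq_of_le hU.1]
    exact hU
  have hBU : ⁅BS, BS⁆ ≤ U.subgroupOf SS := by
    rw [commutator_le]
    intro a ha b hb
    rw [mem_subgroupOf]
    have := hZA hU (hKZ (hBB a ha b hb))
    simpa [commutatorElement_def] using this
  obtain ⟨A', hA', -, hA'n, hA'N⟩ := Transfer.exists_normalized_maxAb (p := p) S.2 (e := 0) ⊤ BS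
    (fun h => absurd h hp2) (Or.inl (Or.inl rfl))
    ⟨_, hUt, hBU, fun h => hUB fun b hb =>
      h (show (⟨b, hBS hb⟩ : SS) ∈ BS from hb)⟩
  set A := A'.map SS.subtype with hA
  have hAmax : Transfer.IsMaxAbIn 0 SS A := by
    have := Transfer.isMaxAbIn_map hA' SS.subtype (subtype_injective _).injOn
    rwa [htop] at this
  have hAQ : ¬ A ≤ Q := by
    intro hle
    refine hA'n fun b hb => ?_
    obtain ⟨a, ha, e⟩ := hBcent hAmax hle (show (b : G) ∈ B from hb)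
    exact (Subtype.ext e : a = b) ▸ ha
  obtain ⟨v, hvA, hvQ⟩ := SetLike.not_le_iff_exists.mp hAQ
  refine ⟨v, hAmax.1 hvA, hvQ, fun b hb => ?_⟩
  refine Transfer.AbExp.commute hAmax.2.1 hvA ?_
  have h1 : b * v⁻¹ * b⁻¹ ∈ A := by
    obtain ⟨a, ha, e⟩ := inv_mem hvA
    refine ⟨_, (mem_normalizer_iff.mp (hA'N (show (⟨b, hBS hb⟩ : SS) ∈ BS from hb)) a).mp ha, ?_⟩
    rw [← e]; rfl
  have : v * b * v⁻¹ * b⁻¹ = v * (b * v⁻¹ * b⁻¹) := by group
  rw [this]
  exact mul_mem hvA h1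

theorem mem_LAL_inv {A L : Subgroup G} {k : ℕ} {w : G}
    (hw : w ∈ ((A : Set G) * (L : Set G)) ^ k) :
    ∃ l ∈ L, ∃ w' ∈ ((A : Set G) * (L : Set G)) ^ k, w⁻¹ = l * w' := by
  have h1 : ∀ (k : ℕ) (w : G), w ∈ ((A : Set G) * (L : Set G)) ^ k →
      w⁻¹ ∈ ((L : Set G) * (A : Set G)) ^ k := by
    intro k
    induction k with
    | zero => intro w hw; rw [pow_zero, Set.mem_one] at hw ⊢; rw [hw, inv_one]
    | succ k ih =>
      intro w hw
      rw [pow_succ'] at hw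
      obtain ⟨_, ⟨a, ha, l, hl, rfl⟩, w₁, hw₁, rfl⟩ := hw
      rw [pow_succ]
      exact ⟨w₁⁻¹, ih w₁ hw₁, l⁻¹ * a⁻¹, ⟨l⁻¹, inv_mem hl, a⁻¹, inv_mem ha, rfl⟩, by group⟩
  have h2 : ∀ k : ℕ, ((L : Set G) * (A : Set G)) ^ k * (L : Set G) =
      (L : Set G) * ((A : Set G) * (L : Set G)) ^ k := by
    intro k
    induction k with
    | zero => simp
    | succ k ih =>
      rw [pow_succ, pow_succ, mul_assoc, mul_assoc (L : Set G) (A : Set G), ← mul_assoc _ (L : Set G),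
        ih, mul_assoc]
  have h3 : w⁻¹ ∈ ((L : Set G) * (A : Set G)) ^ k * (L : Set G) :=
    ⟨w⁻¹, h1 k w hw, 1, L.one_mem, mul_one _⟩
  rw [h2] at h3
  obtain ⟨l, hl, w', hw', e⟩ := h3
  exact ⟨l, hl, w', hw', e.symm⟩

/-- The smaller Sylow case: a critical word. -/
theorem quad_exists_small (S : Sylow p G) {L P : Subgroup G} (hP : IsSylIn p P L)
    (hPS : P ≤ (S : Subgroup G)) (hne : P ≠ (S : Subgroup G))
    (hmax : ∀ L' P' : Subgroup G, Bad p (S : Subgroup G) L' P' → Nat.card P' ≤ Nat.card P)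
    {K B X : Subgroup G} [K.Normal] (hQK : pCore p G ≤ opIn p L)
    (hXZ : X ≤ ZJAb 0 (S : Subgroup G))
    (hB : B = closure {b | ∃ l ∈ L, ∃ x ∈ X, l * x * l⁻¹ = b}) (hBQ : B ≤ opIn p L)
    (hBB : ∀ a ∈ B, ∀ b ∈ B, ⁅a, b⁆ ∈ K)
    (hmv : ∃ l ∈ L, ∃ x ∈ X, l * x * l⁻¹ ∉ ZJAb 0 (S : Subgroup G)) :
    ∃ v ∈ P, v ∉ opIn p L ∧ (∀ b ∈ B, ⁅v, v * b * v⁻¹ * b⁻¹⁆ ∈ K) ∧ ¬ B ≤ pCore p G := by
  classical
  set Q := opIn p L with hQ
  set SS := (S : Subgroup G)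
  have hQP : Q ≤ P := opIn_le_syl hP
  have hLB : ∀ l ∈ L, ∀ b ∈ B, l * b * l⁻¹ ∈ B := by
    intro l hl b hb
    have h : cj l B ≤ B := by
      rw [ConjFunctor.cj, hB, MonoidHom.map_closure, closure_le]
      rintro _ ⟨_, ⟨l', hl', x, hx, rfl⟩, rfl⟩
      exact subset_closure ⟨l * l', L.mul_mem hl hl', x, hx, by simp [mul_assoc]⟩
    exact h ⟨b, hb, rfl⟩
  have hLQ : ∀ l ∈ L, ∀ q ∈ Q, l * q * l⁻¹ ∈ Q := fun l hl q hq =>
    (mem_normalizer_iff.mp (le_normalizer_opIn L hl) q).mp hq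
  set A := nS SS P with hA
  let WW : ℕ → Set G := fun k => ((A : Set G) * (L : Set G)) ^ k
  by_cases hall : ∀ k, ∀ w ∈ WW k, ∀ b ∈ B, w * b * w⁻¹ ∈ Q
  · exfalso
    set M := L ⊔ A with hM
    -- every conjugate stays in `Q`
    have hAmem : ∀ a ∈ A, ∀ g, (∃ k, ∃ l ∈ L, ∃ w ∈ WW k, g = l * w) →
        ∃ k, ∃ l ∈ L, ∃ w ∈ WW k, a * g = l * w := by
      rintro a ha _ ⟨k, l, hl, w, hw, rfl⟩
      refine ⟨k + 1, 1, one_mem _, a * l * w, ?_, by group⟩
      show a * l * w ∈ ((A : Set G) * (L : Set G)) ^ (k + 1)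
      rw [pow_succ']
      exact ⟨a * l, ⟨a, ha, l, hl, rfl⟩, w, hw, rfl⟩
    have hLmem : ∀ a ∈ L, ∀ g, (∃ k, ∃ l ∈ L, ∃ w ∈ WW k, g = l * w) →
        ∃ k, ∃ l ∈ L, ∃ w ∈ WW k, a * g = l * w := by
      rintro a ha _ ⟨k, l, hl, w, hw, rfl⟩
      exact ⟨k, a * l, mul_mem ha hl, w, hw, by group⟩
    have hMdec : ∀ g ∈ M, ∃ k, ∃ l ∈ L, ∃ w ∈ WW k, g = l * w := by
      intro g hg
      rw [hM, ← closure_eq L, ← closure_eq A, ← Subgroup.closure_union] at hg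
      induction hg using Subgroup.closure_induction_left with
      | one => exact ⟨0, 1, one_mem _, 1, by simp [WW], by simp⟩
      | mul_left a ha g _ ih =>
        rcases ha with ha | ha
        · exact hLmem a ha g ih
        · exact hAmem a ha g ih
      | inv_mul_cancel a ha g _ ih =>
        rcases ha with ha | ha
        · exact hLmem _ (inv_mem ha) g ih
        · exact hAmem _ (inv_mem ha) g ih
    set PiB := closure {b | ∃ g ∈ M, ∃ x ∈ B, g * x * g⁻¹ = b} with hPi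
    have hPiQ : PiB ≤ Q := by
      rw [hPi, closure_le]
      rintro _ ⟨g, hg, x, hx, rfl⟩
      obtain ⟨k, l, hl, w, hw, rfl⟩ := hMdec g hg
      have := hLQ l hl _ (hall k w hw x hx)
      simpa [mul_assoc] using this
    have hPin : M ≤ normalizer (PiB : Set G) := by
      intro g hg
      refine ConjFunctor.cj_eq_iff.mp (eq_of_le_of_card_ge ?_ (by rw [ConjFunctor.cj_card]))
      rw [ConjFunctor.cj, hPi, MonoidHom.map_closure, closure_le]
      rintro _ ⟨_, ⟨g', hg', x, hx, rfl⟩, rfl⟩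
      exact subset_closure ⟨g * g', mul_mem hg hg', x, hx, by simp [mul_assoc]⟩
    have hBPi : B ≤ PiB := fun b hb => subset_closure ⟨1, one_mem _, b, hb, by simp⟩
    have hPiM : PiB ≤ M := hPiQ.trans ((opIn_le L).trans le_sup_left)
    have hPiop : PiB ≤ opIn p M :=
      le_opIn hPiM hPin ((opIn_isPGroup L).to_le hPiQ)
    obtain ⟨PM, hPM, hAPM⟩ := ConjFunctor.exists_isSylIn_ge (p := p)
      (le_sup_right : A ≤ M) S.2.to_inf_left
    obtain ⟨x, -, hx⟩ := ConjFunctor.exists_conj_le_of_isSylIn (ConjFunctor.isSylIn_top S)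
      (le_top : PM ≤ ⊤) hPM.2.1
    have hPA : P < A := ConjFunctor.lt_nS S.2 hPS hne
    have hcA : Nat.card P < Nat.card A :=
      lt_of_le_of_ne (card_le_of_le hPA.le) fun e => hPA.ne (eq_of_le_of_card_ge hPA.le e.ge)
    obtain ⟨h, hh, hag⟩ := real_of_no_bad S hmax A x inf_le_left
      ((ConjFunctor.cj_le_cj.mpr hAPM).trans hx) hcA
    obtain ⟨l, hl, y, hy, hly⟩ := hmv
    have hlyB : l * y * l⁻¹ ∈ B := hB ▸ subset_closure ⟨l, hl, y, hy, rfl⟩
    have hyB : y ∈ B := hB ▸ subset_closure ⟨1, one_mem _, y, hy, by simp⟩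
    have hBA : B ≤ A := (hBQ.trans hQP).trans hPA.le
    have hbad : Bad p SS (cj x M) (cj x PM) := by
      refine ⟨hx, ConjFunctor.isSylIn_map hPM x, x * l * x⁻¹, ⟨l, mem_sup_left hl, rfl⟩,
        x * y * x⁻¹, ⟨?_, ?_⟩, ?_⟩
      · rw [← hag y (hBA hyB)]
        exact (mem_normalizer_iff.mp hh y).mp (hXZ hy)
      · refine le_opIn (ConjFunctor.cj_le_cj.mpr hPiM) ?_ (ConjFunctor.cj_isPGroup x
          ((opIn_isPGroup L).to_le hPiQ)) ⟨y, hBPi hyB, rfl⟩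
        rw [← ConjFunctor.cj_normalizer]
        exact ConjFunctor.cj_le_cj.mpr hPin
      · intro hcon
        apply hly
        have e : x * l * x⁻¹ * (x * y * x⁻¹) * (x * l * x⁻¹)⁻¹ = x * (l * y * l⁻¹) * x⁻¹ := by
          group
        rw [e, ← hag _ (hBA hlyB)] at hcon
        exact (mem_normalizer_iff.mp hh _).mpr hcon
    have h1 := hmax _ _ hbad
    have h2 := card_le_of_le hAPM
    rw [ConjFunctor.cj_card] at h1
    omega
  push Not at hall
  set k := Nat.find hall with hk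
  obtain ⟨w, hw, b₀, hb₀, hout⟩ := Nat.find_spec hall
  have hk1 : ∃ j, k = j + 1 := by
    refine ⟨k - 1, ?_⟩
    rcases Nat.eq_zero_or_pos k with h0 | h0
    · exfalso
      rw [← hk, h0] at hw
      simp [WW] at hw
      subst hw
      exact hout (by simpa using hBQ hb₀)
    · omega
  obtain ⟨j, hj⟩ := hk1
  have hsmall : ∀ w' ∈ WW j, ∀ b ∈ B, w' * b * w'⁻¹ ∈ Q := by
    intro w' hw' b hb
    by_contra hcon
    exact Nat.find_min hall (show j < Nat.find hall by omega) ⟨w', hw', b, hb, hcon⟩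
  -- the shape of the image of `B`
  have hin : ∀ u ∈ WW k, ∀ b ∈ B, u * b * u⁻¹ ∈ P := by
    intro u hu b hb
    rw [hj] at hu
    change u ∈ ((A : Set G) * (L : Set G)) ^ (j + 1) at hu
    rw [pow_succ'] at hu
    obtain ⟨_, ⟨a, ha, l, hl, rfl⟩, u₁, hu₁, rfl⟩ := hu
    have h1 := hQP (hLQ l hl _ (hsmall u₁ hu₁ b hb))
    have h2 := (mem_normalizer_iff.mp ha.2 _).mp h1
    simpa [mul_assoc] using h2
  obtain ⟨l₀, hl₀, w', hw', hwinv⟩ := mem_LAL_inv hw
  set g := w * l₀ with hg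
  have hginv : g⁻¹ = w' := by rw [hg, mul_inv_rev, hwinv, inv_mul_cancel_left]
  set v := w * b₀ * w⁻¹ with hv
  have hvB : g⁻¹ * v * g ∈ B := by
    have := hLB l₀⁻¹ (inv_mem hl₀) b₀ hb₀
    simpa [hg, hv, mul_assoc] using this
  refine ⟨v, hin w hw b₀ hb₀, hout, fun b hb => ?_, fun hle => hout (hQK ?_)⟩
  · -- quadratic
    set b' := g⁻¹ * b * g with hb'
    have hb'P : b' ∈ P := by
      have := hin w' hw' b hb
      rw [← hginv] at this
      simpa [hb'] using this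
    set u := g⁻¹ * v * g with hu
    have h1 : u * b' * u⁻¹ * b'⁻¹ ∈ B := by
      have h2 : b' * u⁻¹ * b'⁻¹ ∈ B := hLB b' (hP.1 hb'P) _ (inv_mem hvB)
      have e : u * b' * u⁻¹ * b'⁻¹ = u * (b' * u⁻¹ * b'⁻¹) := by group
      rw [e]
      exact mul_mem hvB h2
    have h3 := (inferInstance : K.Normal).conj_mem _ (hBB u hvB _ h1) g
    convert h3 using 1
    simp only [hu, hb', commutatorElement_def]
    group
  · haveI := LocalEvenA.pCore_normal' p G
    exact (inferInstance : (pCore p G).Normal).conj_mem _ (hle hb₀) w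

end Cfsg.Agent.ZJWeight
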