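import Cfsg.Agent.Lib.ZJWeight.FData
import Cfsg.Agent.Lib.ZJWeight.Transfer

/-!
# The conjugation action on an elementary abelian subgroup
-/

set_option autoImplicit false

namespace Cfsg.Agent.ZJWeight

open Subgroup
open scoped IsMulCommutative

universe u

variable {p : ℕ} [hp : Fact p.Prime] {G' : Type u} [Group G'] {L : Type u} [Group L]
  {W : Subgroup G'} [IsMulCommutative W] [Module (ZMod p) (Additive W)]

/-- The action of `L` on `W`. -/
def conjRep (j : L →* G') (hj : ∀ l, j l ∈ normalizer (W : Set G')) :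
    L →* Module.End (ZMod p) (Additive W) where
  toFun l :=
    let f : Additive W →+ Additive W := AddMonoidHom.mk'
      (fun a => Additive.ofMul (⟨j l * (Additive.toMul a : W).1 * (j l)⁻¹,
        (mem_normalizer_iff.mp (hj l) _).mp (Additive.toMul a : W).2⟩ : W))
      (fun a b => Additive.toMul.injective (Subtype.ext (by
        show j l * ((Additive.toMul a : W).1 * (Additive.toMul b : W).1) * (j l)⁻¹ =
          j l * (Additive.toMul a : W).1 * (j l)⁻¹ * (j l * (Additive.toMul b : W).1 * (j l)⁻¹)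
        group)))
    { toFun := f
      map_add' := map_add f
      map_smul' := fun c a => ZMod.map_smul f c a }
  map_one' := LinearMap.ext fun a => Additive.toMul.injective (Subtype.ext (by
    show j 1 * (Additive.toMul a : W).1 * (j 1)⁻¹ = (Additive.toMul a : W).1
    simp))
  map_mul' g h := LinearMap.ext fun a => Additive.toMul.injective (Subtype.ext (by
    show j (g * h) * (Additive.toMul a : W).1 * (j (g * h))⁻¹ =
      j g * (j h * (Additive.toMul a : W).1 * (j h)⁻¹) * (j g)⁻¹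
    rw [map_mul]
    group))

theorem conjRep_apply (j : L →* G') (hj : ∀ l, j l ∈ normalizer (W : Set G')) (l : L) (w : W) :
    ((Additive.toMul (conjRep (p := p) j hj l (Additive.ofMul w)) : W) : G') =
      j l * w * (j l)⁻¹ := rfl

theorem quad_conjRep (j : L →* G') (hj : ∀ l, j l ∈ normalizer (W : Set G')) {x : L}
    (hq : ∀ w ∈ W, Commute (j x) (j x * w * (j x)⁻¹ * w⁻¹)) :
    Quad (conjRep (p := p) j hj) x := by
  apply LinearMap.ext
  intro a
  have h1 := (hq _ (Additive.toMul a).2).eq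
  apply Additive.toMul.injective
  apply Subtype.ext
  show j x * (j x * (Additive.toMul a : W).1 * (j x)⁻¹ / (Additive.toMul a : W).1) * (j x)⁻¹ /
    (j x * (Additive.toMul a : W).1 * (j x)⁻¹ / (Additive.toMul a : W).1) = 1
  simp only [div_eq_mul_inv]
  rw [h1]
  group

theorem ofMul_toMul_smul (r : ZMod p) (w : W) :
    ((Additive.toMul (r • Additive.ofMul w) : W) : G') = (w : G') ^ r.val := by
  rw [show r • Additive.ofMul w = r.val • Additive.ofMul w by
    rw [← Nat.cast_smul_eq_nsmul (ZMod p), ZMod.natCast_zmod_val]]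
  rfl

/-- The subspace of a subgroup. -/
def subMod (X : Subgroup G') : Submodule (ZMod p) (Additive W) :=
  AddSubgroup.toZModSubmodule p (Subgroup.toAddSubgroup (X.subgroupOf W))

theorem mem_subMod {X : Subgroup G'} {a : Additive W} :
    a ∈ subMod (p := p) X ↔ ((Additive.toMul a : W) : G') ∈ X := Iff.rfl

/-- The subgroup of a subspace. -/
def modSub (M : Submodule (ZMod p) (Additive W)) : Subgroup G' :=
  (AddSubgroup.toSubgroup' M.toAddSubgroup).map W.subtype

theorem mem_modSub {M : Submodule (ZMod p) (Additive W)} {g : G'} :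
    g ∈ modSub M ↔ ∃ h : g ∈ W, Additive.ofMul (⟨g, h⟩ : W) ∈ M := by
  constructor
  · rintro ⟨w, hw, rfl⟩
    exact ⟨w.2, hw⟩
  · rintro ⟨h, hm⟩
    exact ⟨⟨g, h⟩, hm, rfl⟩

variable {G'' : Type u} [Group G''] [Finite G''] [Finite L]

/-- `F(p)` in an image from the outcome of the core lemma. -/
theorem hasF_of_out [Finite G'] (hp2 : p ≠ 2) (j : L →* G')
    (hj : ∀ l, j l ∈ normalizer (W : Set G')) (r : G' →* G'') (hWp : IsPGroup p W)
    {X N : Submodule (ZMod p) (Additive W)} (hN : ∀ w : W, r w = 1 → Additive.ofMul w ∈ N)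
    {a : (ZMod p)ˣ} (ha : ∀ u : (ZMod p)ˣ, u ∈ zpowers a)
    (ho : Out (conjRep (p := p) j hj) X N (a : ZMod p)) {H : Subgroup G''}
    (hWH : ∀ w ∈ W, r w ∈ H) (hXH : ∀ l ∈ stab (conjRep (p := p) j hj) X, r (j l) ∈ H) :
    HasF p H := by
  obtain ⟨x, n, hx, hn, -, Wo, φ, b, hs, hW, hWN⟩ := ho
  set ρ := conjRep (p := p) j hj
  set W₀ := modSub Wo with hW₀
  set Wb := W₀.map r with hWb
  have hW₀W : W₀ ≤ W := fun g hg => (mem_modSub.mp hg).1
  let φ₀ : W₀ →* Multiplicative (Fin 2 → ZMod p) := MonoidHom.mk'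
    (fun g => Multiplicative.ofAdd (φ (Additive.ofMul (inclusion hW₀W g))))
    (fun g h => by rw [map_mul, ofMul_mul, map_add, ofAdd_add])
  let rW : W₀ →* Wb := r.subgroupMap W₀
  have hrW : Function.Surjective rW := r.subgroupMap_surjective W₀
  have hker : rW.ker ≤ φ₀.ker := by
    intro g hg
    have h1 : r (g : G') = 1 := congrArg Subtype.val (MonoidHom.mem_ker.mp hg)
    obtain ⟨hgW, hgo⟩ := mem_modSub.mp g.2
    rw [MonoidHom.mem_ker]
    show Multiplicative.ofAdd (φ (Additive.ofMul (⟨(g : G'), hgW⟩ : W))) = 1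
    rw [hWN _ hgo (hN ⟨g, hgW⟩ h1)]
    rfl
  let φb : Wb →* Multiplicative (Fin 2 → ZMod p) := rW.liftOfSurjective hrW ⟨φ₀, hker⟩
  have hφb : ∀ g : W₀, φb (rW g) = φ₀ g := fun g =>
    MonoidHom.liftOfRightInverse_comp_apply _ _ _ ⟨φ₀, hker⟩ g
  have hφ : Function.Surjective φb := by
    intro v
    obtain ⟨w, hw, hwv⟩ := hs v.toAdd
    refine ⟨rW ⟨((Additive.toMul w : W) : G'), mem_modSub.mpr ⟨(Additive.toMul w : W).2, hw⟩⟩, ?_⟩
    rw [hφb]
    show Multiplicative.ofAdd (φ _) = v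
    rw [show Additive.ofMul (inclusion hW₀W ⟨((Additive.toMul w : W) : G'),
      mem_modSub.mpr ⟨(Additive.toMul w : W).2, hw⟩⟩) = w from rfl, hwv]
    rfl
  have hnorm : ∀ z : L, (∀ w ∈ Wo, ρ z w ∈ Wo) →
      r (j z) ∈ normalizer (Wb : Set G'') := by
    intro z hz
    refine le_normalizer_map r ⟨j z, ?_, rfl⟩
    refine ConjFunctor.cj_eq_iff.mp (eq_of_le_of_card_ge ?_ (by rw [ConjFunctor.cj_card]))
    rintro _ ⟨g, hg, rfl⟩
    obtain ⟨hgW, hgo⟩ := mem_modSub.mp hg
    exact mem_modSub.mpr ⟨(mem_normalizer_iff.mp (hj z) g).mp hgW, hz _ hgo⟩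
  have hxW := hnorm x fun w hw => (hW w hw).1
  have hnW := hnorm n fun w hw => (hW w hw).2.1
  have key : ∀ z : L, ∀ hzn : r (j z) ∈ normalizer (Wb : Set G''), ∀ (g : G') (hg : g ∈ W₀)
      (hzg : j z * g * (j z)⁻¹ ∈ W₀),
      φb ⟨r (j z) * ((rW ⟨g, hg⟩ : Wb) : G'') * (r (j z))⁻¹,
        (mem_normalizer_iff.mp hzn _).mp (rW ⟨g, hg⟩).2⟩ =
      Multiplicative.ofAdd (φ (ρ z (Additive.ofMul (⟨g, hW₀W hg⟩ : W)))) := by
    intro z hzn g hg hzg
    have e : (⟨r (j z) * ((rW ⟨g, hg⟩ : Wb) : G'') * (r (j z))⁻¹,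
        (mem_normalizer_iff.mp hzn _).mp (rW ⟨g, hg⟩).2⟩ : Wb) = rW ⟨_, hzg⟩ :=
      Subtype.ext (by
        show r (j z) * r g * (r (j z))⁻¹ = r (j z * g * (j z)⁻¹)
        rw [map_mul, map_mul, map_inv])
    rw [e, hφb]
    rfl
  have hfin := hasF_of_data (Wb := Wb) (x := r (j x)) (n := r (j n)) hp2
    ((hWp.to_le hW₀W).map r) a ha b φb hφ hxW hnW
    (fun w => by
      obtain ⟨⟨g, hg⟩, rfl⟩ := hrW w
      obtain ⟨hgW, hgo⟩ := mem_modSub.mp hg
      obtain ⟨h1, -, h3, -⟩ := hW _ hgo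
      rw [key x hxW g hg (mem_modSub.mpr ⟨_, h1⟩), hφb]
      exact h3)
    (fun w => by
      obtain ⟨⟨g, hg⟩, rfl⟩ := hrW w
      obtain ⟨hgW, hgo⟩ := mem_modSub.mp hg
      obtain ⟨-, h2, -, h4⟩ := hW _ hgo
      rw [key n hnW g hg (mem_modSub.mpr ⟨_, h2⟩), hφb]
      exact h4)
  refine hfin.mono (sup_le ?_ ((closure_le _).mpr ?_))
  · rintro _ ⟨g, hg, rfl⟩
    exact hWH g (hW₀W hg)
  · rintro z (rfl | rfl)
    · exact hXH x hx
    · exact hXH n hn

end Cfsg.Agent.ZJWeight
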