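import Cfsg.Agent.Lib.ZJWeight.Local

/-!
# Elements of `Z(J(S))` with full automizer
-/

set_option autoImplicit false

namespace Cfsg.Agent.ZJWeight

open Subgroup
open ConjFunctor (cj IsSylIn nS)
open Transfer (ZJAb JAb)

universe u

variable {p : ℕ} [hp : Fact p.Prime] {G : Type u} [Group G] [Finite G]

/-- An element of order `p` of `Z(J(S))` sent to its `α`-th power in `N(Z(J(S)))`. -/
def Weight (p : ℕ) (S : Subgroup G) (α : ℕ) : Prop :=
  ∃ c ∈ ZJAb 0 S, c ≠ 1 ∧ c ^ p = 1 ∧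
    ∃ h ∈ normalizer (ZJAb 0 S : Set G), h * c * h⁻¹ = c ^ α

theorem JAb_le_centralizer {S : Subgroup G} {c : G} (hc : c ∈ ZJAb 0 S) :
    JAb 0 S ≤ centralizer ({c} : Set G) := fun x hx y hy => by
  rw [Set.mem_singleton_iff.mp hy]
  exact (hc.2 x hx).symm

theorem JAb_eq_of_le_conj {S T : Subgroup G} {g : G} (hT : T ≤ cj g S) (hJ : JAb 0 S ≤ T) :
    JAb 0 T = JAb 0 S := by
  have hJle : JAb 0 S ≤ cj g S := hJ.trans hT
  have e : JAb 0 (cj g S) = cj g (JAb 0 S) :=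
    (Transfer.map_JAb S (MulAut.conj g).toMonoidHom (MulAut.conj g).injective.injOn).symm
  obtain ⟨A0, hA0⟩ := Transfer.exists_isMaxAbIn (e := 0) S
  have hA0' : Transfer.IsMaxAbIn 0 (cj g S) A0 := by
    have h2 := Transfer.isMaxAbIn_map hA0 (MulAut.conj g).toMonoidHom
      (MulAut.conj g).injective.injOn
    refine ⟨(Transfer.le_JAb hA0).trans hJle, hA0.2.1, fun C hC hCe => ?_⟩
    have := h2.2.2 C hC hCe
    rwa [card_map_of_injective (MulAut.conj g).injective] at this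
  have h3 : JAb 0 S ≤ JAb 0 (cj g S) := by
    refine sSup_le fun A hA => Transfer.le_JAb ⟨(Transfer.le_JAb hA).trans hJle, hA.2.1, ?_⟩
    intro C hC hCe
    exact (hA0'.2.2 C hC hCe).trans (hA.2.2 A0 hA0.1 hA0.2.1)
  have h4 : JAb 0 (cj g S) = JAb 0 S := (eq_of_le_of_card_ge h3 (by
    rw [e, ConjFunctor.cj_card])).symm
  rw [Transfer.JAb_eq_of_le hT (h4.le.trans hJ), h4]

/-- **Fusion of the weight**: a fusion `c ↦ c ^ α` is realised in `N(Z(J(S)))`. -/
theorem weight_of_conj (S : Sylow p G) {c g : G} {α : ℕ} (hc : c ∈ ZJAb 0 (S : Subgroup G))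
    (hc1 : c ≠ 1) (hcp : c ^ p = 1) (hα : ¬ p ∣ α) (hg : g * c * g⁻¹ = c ^ α) :
    Weight p (S : Subgroup G) α := by
  set C := centralizer ({c} : Set G) with hC
  set J := JAb 0 (S : Subgroup G) with hJ
  obtain ⟨T, hT, hJT⟩ := ConjFunctor.exists_isSylIn_ge (p := p) (JAb_le_centralizer hc)
    (S.2.to_le (Transfer.JAb_le _))
  obtain ⟨k₀, -, hk₀⟩ := ConjFunctor.exists_conj_le_of_isSylIn (ConjFunctor.isSylIn_top S)
    (le_top : T ≤ ⊤) hT.2.1
  have hJTeq : JAb 0 T = J := by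
    refine JAb_eq_of_le_conj (g := k₀⁻¹) ?_ hJT
    rw [← ConjFunctor.cj_inv_cj k₀ T]
    exact ConjFunctor.cj_le_cj.mpr hk₀
  -- `g` normalizes the centralizer
  obtain ⟨β, hβ⟩ : ∃ β : ℕ, (c ^ α) ^ β = c := by
    obtain ⟨β, hβ⟩ := exists_pow_eq_self_of_coprime (G := G) (x := c) (n := α) (by
      rw [orderOf_eq_prime hcp hc1]
      exact (Nat.coprime_comm.mp (hp.out.coprime_iff_not_dvd.mpr hα)))
    exact ⟨β, hβ⟩
  have hgC : cj g C = C := by
    refine eq_of_le_of_card_ge ?_ (by rw [ConjFunctor.cj_card])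
    rintro _ ⟨x, hx, rfl⟩
    intro y hy
    rw [Set.mem_singleton_iff.mp hy, ← hβ]
    have h1 : Commute (g * x * g⁻¹) (c ^ α) := by
      rw [← hg]
      have h2 : Commute x c := (hx c rfl).symm
      exact h2.map (MulAut.conj g).toMonoidHom
    exact (h1.pow_right β).eq.symm
  obtain ⟨l, hl, hle⟩ := ConjFunctor.isSylIn_conj hT (hgC ▸ ConjFunctor.isSylIn_map hT g)
  rw [← ConjFunctor.cj_mul] at hle
  refine ⟨c, hc, hc1, hcp, l * g, ?_, ?_⟩
  · have h1 := Transfer.normalizer_le_normalizer_JAb (e := 0) T (ConjFunctor.cj_eq_iff.mp hle)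
    rw [hJTeq] at h1
    refine inf_normalizer_le_normalizer_inf (G := G) (H := J) (K := centralizer (J : Set G))
      ⟨h1, Transfer.normalizer_le_normalizer_centralizer' J h1⟩
  · calc l * g * c * (l * g)⁻¹ = l * (g * c * g⁻¹) * l⁻¹ := by group
      _ = l * c ^ α * l⁻¹ := by rw [hg]
      _ = (l * c * l⁻¹) ^ α := conj_pow.symm
      _ = c ^ α := by rw [← hl c rfl, mul_inv_cancel_right]

/-- **Lifting an eigenvector.** -/
theorem exists_eigen {K : Subgroup G} {S : Subgroup G} (hK : K ≤ ZJAb 0 S)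
    (hS : IsPGroup p S) {n z : G} {α : ℕ} (hnK : n ∈ normalizer (K : Set G))
    (hz : z ∈ ZJAb 0 S) (hzK : z ∉ K) (hcong : (z ^ α)⁻¹ * (n * z * n⁻¹) ∈ K) :
    ∃ c ∈ ZJAb 0 S, c ≠ 1 ∧ c ^ p = 1 ∧ n * c * n⁻¹ = c ^ α := by
  set Z := ZJAb 0 S
  set A := K ⊔ zpowers z with hA
  have hAZ : A ≤ Z := sup_le hK (zpowers_le.mpr hz)
  have hcomm : ∀ {s t : G}, s ∈ Z → t ∈ Z → Commute s t := fun hs ht =>
    Transfer.ZJAb_commute hs ht
  have hmem : ∀ t ∈ A, (t ^ α)⁻¹ * (n * t * n⁻¹) ∈ K ∧ n * t * n⁻¹ ∈ Z := by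
    intro t ht
    rw [hA, ← closure_eq K, Subgroup.zpowers_eq_closure, ← Subgroup.closure_union] at ht
    induction ht using Subgroup.closure_induction with
    | mem t ht =>
      rcases ht with ht | ht
      · exact ⟨mul_mem (inv_mem (pow_mem ht α)) ((mem_normalizer_iff.mp hnK t).mp ht),
          hK ((mem_normalizer_iff.mp hnK t).mp ht)⟩
      · rw [Set.mem_singleton_iff.mp ht]
        refine ⟨hcong, ?_⟩
        have := mul_mem (pow_mem hz α) (hK hcong)
        rwa [mul_inv_cancel_left] at this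
    | one => simp
    | mul s t hs ht is it =>
      have hsA : s ∈ A := by
        rw [hA, ← closure_eq K, Subgroup.zpowers_eq_closure, ← Subgroup.closure_union]
        exact hs
      have htA : t ∈ A := by
        rw [hA, ← closure_eq K, Subgroup.zpowers_eq_closure, ← Subgroup.closure_union]
        exact ht
      have e : n * (s * t) * n⁻¹ = (n * s * n⁻¹) * (n * t * n⁻¹) := by group
      refine ⟨?_, e ▸ mul_mem is.2 it.2⟩
      rw [e, (hcomm (hAZ hsA) (hAZ htA)).mul_pow]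
      have e2 : (s ^ α * t ^ α)⁻¹ * ((n * s * n⁻¹) * (n * t * n⁻¹)) =
          ((s ^ α)⁻¹ * (n * s * n⁻¹)) * ((t ^ α)⁻¹ * (n * t * n⁻¹)) := by
        have h1 : Commute ((t ^ α)⁻¹) ((s ^ α)⁻¹ * (n * s * n⁻¹)) :=
          hcomm (inv_mem (pow_mem (hAZ htA) α)) (mul_mem (inv_mem (pow_mem (hAZ hsA) α)) is.2)
        calc (s ^ α * t ^ α)⁻¹ * ((n * s * n⁻¹) * (n * t * n⁻¹))
            = ((t ^ α)⁻¹ * ((s ^ α)⁻¹ * (n * s * n⁻¹))) * (n * t * n⁻¹) := by group
          _ = _ := by rw [h1.eq, mul_assoc]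
      rw [e2]
      exact mul_mem is.1 it.1
    | inv t ht it =>
      have htA : t ∈ A := by
        rw [hA, ← closure_eq K, Subgroup.zpowers_eq_closure, ← Subgroup.closure_union]
        exact ht
      have e : n * t⁻¹ * n⁻¹ = (n * t * n⁻¹)⁻¹ := by group
      refine ⟨?_, e ▸ inv_mem it.2⟩
      rw [e, inv_pow, inv_inv]
      have e2 : t ^ α * (n * t * n⁻¹)⁻¹ = ((t ^ α)⁻¹ * (n * t * n⁻¹))⁻¹ := by
        rw [(hcomm (inv_mem (pow_mem (hAZ htA) α)) it.2).eq]
        group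
      rw [e2]
      exact inv_mem it.1
  -- the endomorphism has a kernel
  let ψ : A → K := fun t => ⟨((t : G) ^ α)⁻¹ * (n * t * n⁻¹), (hmem t t.2).1⟩
  have hlt : Nat.card K < Nat.card A := by
    refine lt_of_le_of_ne (card_le_of_le le_sup_left) fun e => hzK ?_
    rw [eq_of_le_of_card_ge le_sup_left e.ge]
    exact mem_sup_right (mem_zpowers z)
  obtain ⟨s, t, hst, hne⟩ : ∃ s t : A, ψ s = ψ t ∧ s ≠ t := by
    by_contra hcon
    push Not at hcon
    exact absurd (Nat.card_le_card_of_injective ψ fun s t e => hcon s t e) (not_le.mpr hlt)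
  set d := (s : G) * (t : G)⁻¹ with hd
  have hdA : d ∈ A := mul_mem s.2 (inv_mem t.2)
  have hd1 : d ≠ 1 := fun h => hne (Subtype.ext (mul_inv_eq_one.mp h))
  have hdeig : n * d * n⁻¹ = d ^ α := by
    have h1 : ((s : G) ^ α)⁻¹ * (n * s * n⁻¹) = ((t : G) ^ α)⁻¹ * (n * t * n⁻¹) :=
      congrArg Subtype.val hst
    have hs' : n * (s : G) * n⁻¹ = (s : G) ^ α * (((t : G) ^ α)⁻¹ * (n * t * n⁻¹)) := by
      rw [← h1, mul_inv_cancel_left]
    calc n * d * n⁻¹ = (n * (s : G) * n⁻¹) * (n * (t : G) * n⁻¹)⁻¹ := by rw [hd]; group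
      _ = (s : G) ^ α * ((t : G) ^ α)⁻¹ := by rw [hs']; group
      _ = d ^ α := by rw [hd, ((hcomm (hAZ s.2) (hAZ t.2)).inv_right).mul_pow, inv_pow]
  obtain ⟨k, hk⟩ := (IsPGroup.iff_orderOf.mp hS) ⟨d, Transfer.ZJAb_le _ (hAZ hdA)⟩
  rw [Subgroup.orderOf_mk] at hk
  obtain ⟨k, rfl⟩ : ∃ j, k = j + 1 := ⟨k - 1, by
    rcases k with _ | k
    · exact absurd (orderOf_eq_one_iff.mp (hk.trans (pow_zero p))) hd1
    · rfl⟩
  refine ⟨d ^ p ^ k, pow_mem (hAZ hdA) _, fun h => ?_, ?_, ?_⟩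
  · have h2 := Nat.le_of_dvd (pow_pos hp.out.pos k) (orderOf_dvd_of_pow_eq_one h)
    rw [hk] at h2
    exact absurd h2 (not_le.mpr (Nat.pow_lt_pow_right hp.out.one_lt (Nat.lt_succ_self k)))
  · rw [← pow_mul, ← pow_succ, ← hk, pow_orderOf_eq_one]
  · rw [← conj_pow, hdeig, ← pow_mul, ← pow_mul, mul_comm]

/-- **The index.** -/
theorem relIndex_of_weight {c : G} {H : Subgroup G} (hcp : c ^ p = 1) (hc1 : c ≠ 1) {α : ℕ}
    (hα : ∀ u : (ZMod p)ˣ, ∃ i : ℕ, (u : ZMod p) = (α : ZMod p) ^ i)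
    (h : ∃ k ∈ H, k * c * k⁻¹ = c ^ α) :
    (H ⊓ centralizer ((zpowers c : Subgroup G) : Set G)).relIndex
      (H ⊓ normalizer ((zpowers c : Subgroup G) : Set G)) = p - 1 := by
  classical
  have hord : orderOf c = p := orderOf_eq_prime hcp hc1
  set N := H ⊓ normalizer ((zpowers c : Subgroup G) : Set G) with hN
  have hex : ∀ g : N, ∃ j : ZMod p, (g : G) * c * (g : G)⁻¹ = c ^ j.val := by
    intro g
    obtain ⟨j, hj⟩ := mem_zpowers_iff.mp ((mem_normalizer_iff.mp g.2.2 c).mp (mem_zpowers c))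
    refine ⟨(j : ZMod p), ?_⟩
    rw [← hj, ← _root_.zpow_natCast, zpow_eq_zpow_iff_modEq, hord, ← ZMod.intCast_eq_intCast_iff,
      Int.cast_natCast, ZMod.natCast_zmod_val]
  choose e he using hex
  have hcpow : ∀ u v : ZMod p, c ^ u.val = c ^ v.val → u = v := fun u v h => by
    rw [pow_eq_pow_iff_modEq, hord, ← ZMod.natCast_eq_natCast_iff, ZMod.natCast_zmod_val,
      ZMod.natCast_zmod_val] at h
    exact h
  have hcast : ∀ i : ℕ, c ^ i = c ^ (i : ZMod p).val := fun i => by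
    rw [pow_eq_pow_iff_modEq, hord, ← ZMod.natCast_eq_natCast_iff, ZMod.natCast_zmod_val]
  have hmul : ∀ g k : N, e (g * k) = e g * e k := fun g k => by
    apply hcpow
    rw [← he]
    calc ((g * k : N) : G) * c * ((g * k : N) : G)⁻¹ =
        (g : G) * ((k : G) * c * (k : G)⁻¹) * (g : G)⁻¹ := by
          rw [Subgroup.coe_mul]; group
      _ = ((g : G) * c * (g : G)⁻¹) ^ (e k).val := by rw [he k, conj_pow]
      _ = c ^ ((e g).val * (e k).val) := by rw [he g, ← pow_mul]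
      _ = _ := by rw [hcast, Nat.cast_mul, ZMod.natCast_zmod_val, ZMod.natCast_zmod_val]
  have hone : e 1 = 1 := by
    apply hcpow
    rw [← he, ZMod.val_one]
    simp
  let f : N →* (ZMod p)ˣ := MonoidHom.mk' (fun g => Units.mkOfMulEqOne (e g) (e g⁻¹)
    (by rw [← hmul, mul_inv_cancel, hone])) fun g k => Units.ext (hmul g k)
  have hker : f.ker = (H ⊓ centralizer ((zpowers c : Subgroup G) : Set G)).subgroupOf N := by
    ext g
    rw [MonoidHom.mem_ker, mem_subgroupOf]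
    constructor
    · intro hg
      refine ⟨g.2.1, fun y hy => ?_⟩
      obtain ⟨j, rfl⟩ := mem_zpowers_iff.mp hy
      have he1 : e g = 1 := congrArg Units.val hg
      have h1 : (g : G) * c * (g : G)⁻¹ = c := by
        rw [he g, he1, ZMod.val_one, pow_one]
      exact ((show Commute c (g : G) from (mul_inv_eq_iff_eq_mul.mp h1).symm).zpow_left j).eq
    · intro hg
      apply Units.ext
      show e g = 1
      apply hcpow
      rw [← he, ZMod.val_one, pow_one, ← hg.2 c (mem_zpowers c), mul_inv_cancel_right]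
  have hsurj : Function.Surjective f := by
    obtain ⟨k, hk, hkc⟩ := h
    have hkN : k ∈ normalizer ((zpowers c : Subgroup G) : Set G) := by
      refine ConjFunctor.cj_eq_iff.mp (eq_of_le_of_card_ge ?_ (by rw [ConjFunctor.cj_card]))
      rw [ConjFunctor.cj, MonoidHom.map_zpowers, zpowers_le]
      show k * c * k⁻¹ ∈ zpowers c
      rw [hkc]
      exact npow_mem_zpowers c α
    have hek : e ⟨k, hk, hkN⟩ = (α : ZMod p) := by
      apply hcpow
      rw [← he, ← hcast]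
      exact hkc
    intro u
    obtain ⟨i, hi⟩ := hα u
    refine ⟨(⟨k, hk, hkN⟩ : N) ^ i, Units.ext ?_⟩
    rw [hi, map_pow, Units.val_pow_eq_pow_val, ← hek]
    rfl
  rw [relIndex, ← hker, Subgroup.index_ker, MonoidHom.range_eq_top_of_surjective f hsurj,
    Subgroup.card_top, Nat.card_eq_fintype_card, ZMod.card_units]

end Cfsg.Agent.ZJWeight
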