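import Cfsg.Agent.Lib.ZJWeight.Climb
import Cfsg.Agent.Lib.ZJWeight.Weight
import Cfsg.Agent.Lib.ZJWeight.Quadratic
import Cfsg.Agent.Lib.ZJWeight.Rep
import Cfsg.Agent.Lib.LocalEvenA.Large

/-!
# Failure of control by `Z(J(S))`: the weight and `F(p)`
-/

set_option autoImplicit false

namespace Cfsg.Agent.ZJWeight

open Subgroup
open ConjFunctor (cj IsSylIn nS)
open Transfer (ZJAb JAb)
open scoped IsMulCommutative commutatorElement

universe u

variable {p : ℕ} [hp : Fact p.Prime] {G : Type u} [Group G] [Finite G]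

/-- The conclusion for one group. -/
def Concl (a : (ZMod p)ˣ) (S : Subgroup G) : Prop :=
  Weight p S (a : ZMod p).val ∧ HasF p (normalizer (ZJAb 0 S : Set G))

/-- The induction hypothesis. -/
def FailIH (a : (ZMod p)ˣ) (n : ℕ) : Prop :=
  ∀ (G : Type u) [Group G] [Finite G], Nat.card G < n →
    ∀ S : Sylow p G, ¬ Ctrl (S : Subgroup G) → Concl a (S : Subgroup G)

/-- Control carries `F(p)` into the normalizer. -/
theorem phi_of_ih (hp2 : p ≠ 2) (a : (ZMod p)ˣ)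
    (h : ∀ S : Sylow p G, ¬ Ctrl (S : Subgroup G) → Concl a (S : Subgroup G)) : Phi p G := by
  intro S hF
  by_cases hc : Ctrl (S : Subgroup G)
  swap
  · exact (h S hc).2
  obtain ⟨P, n, -, -, hPp, hn, f, hf, hfull⟩ := hF.exists_config hp2
  obtain ⟨g, -, hg⟩ := ConjFunctor.exists_conj_le_of_isSylIn (ConjFunctor.isSylIn_top S)
    (le_top : P ≤ ⊤) hPp
  have hn' : g * n * g⁻¹ ∈ normalizer ((cj g P : Subgroup G) : Set G) := by
    rw [← ConjFunctor.cj_normalizer]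
    exact ⟨n, hn, rfl⟩
  obtain ⟨k, hk, hke⟩ := hc (cj g P) (g * n * g⁻¹) hg
    ((ConjFunctor.cj_eq_iff.mpr hn').le.trans hg)
  set N := normalizer (ZJAb 0 (S : Subgroup G) : Set G)
  have hPN : P ≤ cj g⁻¹ N := by
    rw [← ConjFunctor.cj_inv_cj g P]
    exact ConjFunctor.cj_le_cj.mpr
      (hg.trans (le_normalizer.trans (Transfer.normalizer_le_normalizer_ZJAb _)))
  have h0 : HasF p (cj g⁻¹ N) :=
    hasF_of_agree hp2 (h := g⁻¹ * k * g) hPN
      (ConjFunctor.mem_cj.mpr (by simpa [mul_assoc] using hk)) hPp hn f hf hfull fun z hz => by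
        have e := hke (g * z * g⁻¹) ⟨z, hz, rfl⟩
        calc g⁻¹ * k * g * z * (g⁻¹ * k * g)⁻¹ = g⁻¹ * (k * (g * z * g⁻¹) * k⁻¹) * g := by group
          _ = n * z * n⁻¹ := by rw [e]; group
  have h1 := h0.conj g
  rwa [← ConjFunctor.cj_mul, mul_inv_cancel, ConjFunctor.cj_one] at h1

theorem phi_proper (hp2 : p ≠ 2) {a : (ZMod p)ˣ} (IH : FailIH.{u} a (Nat.card G)) {M : Subgroup G}
    (hM : M ≠ ⊤) : Phi p M := by
  refine phi_of_ih hp2 a (IH M ?_)
  exact lt_of_le_of_ne (card_le_card_group M) fun e =>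
    hM (eq_top_of_card_eq M e)

/-- A bad pair with largest `P`, then smallest `L`. -/
structure Pick (p : ℕ) (S L P : Subgroup G) : Prop where
  bad : Bad p S L P
  max : ∀ L' P' : Subgroup G, Bad p S L' P' → Nat.card P' ≤ Nat.card P
  min : ∀ L' : Subgroup G, P ≤ L' → L' ≤ L → L' ≠ L →
    ∀ l ∈ L', ∀ z ∈ ZJAb 0 S ⊓ opIn p L, l * z * l⁻¹ ∈ ZJAb 0 S ⊓ opIn p L

theorem exists_pick {S L₀ P₀ : Subgroup G} (h : Bad p S L₀ P₀) :
    ∃ L P : Subgroup G, Pick p S L P := by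
  classical
  haveI : Fintype {x : Subgroup G × Subgroup G // Bad p S x.1 x.2} := Fintype.ofFinite _
  obtain ⟨⟨⟨L, P⟩, hb⟩, -, hm⟩ := Finset.exists_max_image
    (Finset.univ : Finset {x : Subgroup G × Subgroup G // Bad p S x.1 x.2})
    (fun x => Nat.card x.1.2 * (Nat.card G + 1) + (Nat.card G - Nat.card x.1.1))
    ⟨⟨⟨L₀, P₀⟩, h⟩, Finset.mem_univ _⟩
  refine ⟨L, P, hb, fun L' P' hb' => ?_, fun L' hPL' hL'L hne l hl z hz => ?_⟩
  · by_contra hlt
    have h1 := hm ⟨(L', P'), hb'⟩ (Finset.mem_univ _)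
    have h2 := Nat.mul_le_mul_right (Nat.card G + 1) (Nat.succ_le_of_lt (not_le.mp hlt))
    simp only [Nat.succ_eq_add_one, add_mul, one_mul] at h1 h2
    omega
  · have hLQ := le_normalizer_opIn (p := p) L
    refine ⟨?_, (mem_normalizer_iff.mp (hLQ (hL'L hl)) z).mp hz.2⟩
    by_contra hcon
    have hb' : Bad p S L' P := by
      refine ⟨hb.1, ConjFunctor.isSylIn_of_le hb.2.1 hPL' hL'L, l, hl, z, ⟨hz.1, ?_⟩, hcon⟩
      exact le_opIn ((opIn_le_syl hb.2.1).trans hPL') (hL'L.trans hLQ)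
        (opIn_isPGroup (p := p) L) hz.2
    have h1 := hm ⟨(L', P), hb'⟩ (Finset.mem_univ _)
    simp only at h1
    have h2 : Nat.card L' < Nat.card L :=
      lt_of_le_of_ne (card_le_of_le hL'L) fun e => hne (eq_of_le_of_card_ge hL'L e.ge)
    have h3 := card_le_card_group L
    omega

theorem Pick.pCore_le (S : Sylow p G) {L P : Subgroup G} (hk : Pick p (S : Subgroup G) L P) :
    Cfsg.pCore p G ≤ opIn p L := by
  obtain ⟨hPS, hPL, l, hl, z, hz, hne⟩ := hk.bad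
  haveI := LocalEvenA.pCore_normal' p G
  set C := Cfsg.pCore p G with hC
  have hCS : C ≤ (S : Subgroup G) := Basics.pCore_le_sylow p S
  have hQP := opIn_le_syl hPL
  have hCn : ∀ g : G, cj g C = C := fun g =>
    ConjFunctor.cj_eq_iff.mpr (by rw [normalizer_eq_top (H := C)]; trivial)
  have hsyl : IsSylIn p (P ⊔ C) (L ⊔ C) := by
    refine ⟨sup_le_sup_right hPL.1 _, S.2.to_le (sup_le hPS hCS), fun hd => hPL.2.2 ?_⟩
    have e := relIndex_map_map (QuotientGroup.mk' C) P L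
    rw [← relIndex_comap, comap_map_eq, QuotientGroup.ker_mk'] at e
    rw [← e] at hd
    exact hd.trans (relIndex_dvd_of_le_left _ le_sup_left)
  have hn : L ⊔ C ≤ normalizer ((opIn p L ⊔ C : Subgroup G) : Set G) := by
    refine sup_le (fun x hx => ConjFunctor.cj_eq_iff.mp ?_) (le_sup_right.trans le_normalizer)
    rw [ConjFunctor.cj, Subgroup.map_sup]
    exact congrArg₂ _ (ConjFunctor.cj_eq_iff.mpr (le_normalizer_opIn L hx)) (hCn x)
  have hbad : Bad p (S : Subgroup G) (L ⊔ C) (P ⊔ C) :=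
    ⟨sup_le hPS hCS, hsyl, l, mem_sup_left hl, z, ⟨hz.1,
      le_opIn (sup_le_sup_right (opIn_le L) _) hn
        (S.2.to_le (sup_le (hQP.trans hPS) hCS)) (mem_sup_left hz.2)⟩, hne⟩
  have hCP : C ≤ P := by
    rw [eq_of_le_of_card_ge (le_sup_left : P ≤ P ⊔ C) (hk.max _ _ hbad)]
    exact le_sup_right
  exact le_opIn (hCP.trans hPL.1) (by rw [normalizer_eq_top (H := C)]; exact le_top)
    (Basics.pCore_isPGroup p)

/-- The largest subgroup of `U` normalized by `L`. -/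
def coreIn (L U : Subgroup G) : Subgroup G where
  carrier := {z | ∀ l ∈ L, l * z * l⁻¹ ∈ U} ∩ U
  one_mem' := ⟨fun l _ => by simp, one_mem U⟩
  mul_mem' := fun {x y} hx hy => ⟨fun l hl => by
    have e : l * (x * y) * l⁻¹ = (l * x * l⁻¹) * (l * y * l⁻¹) := by group
    rw [e]; exact mul_mem (hx.1 l hl) (hy.1 l hl), mul_mem hx.2 hy.2⟩
  inv_mem' := fun {x} hx => ⟨fun l hl => by
    have e : l * x⁻¹ * l⁻¹ = (l * x * l⁻¹)⁻¹ := by group
    rw [e]; exact inv_mem (hx.1 l hl), inv_mem hx.2⟩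

omit [Finite G] in
theorem coreIn_le (L U : Subgroup G) : coreIn L U ≤ U := fun _ h => h.2

theorem le_normalizer_coreIn (L U : Subgroup G) : L ≤ normalizer (coreIn L U : Set G) := by
  intro m hm
  refine ConjFunctor.cj_eq_iff.mp (eq_of_le_of_card_ge ?_ (by rw [ConjFunctor.cj_card]))
  rintro _ ⟨z, hz, rfl⟩
  refine ⟨fun l hl => ?_, hz.1 m hm⟩
  have := hz.1 (l * m) (mul_mem hl hm)
  show l * (m * z * m⁻¹) * l⁻¹ ∈ U
  convert this using 1
  group

/-- The local case. -/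
theorem step_local (S : Sylow p G) {a : (ZMod p)ˣ} (IH : FailIH.{u} a (Nat.card G))
    {L P : Subgroup G} (hb : Bad p (S : Subgroup G) L P) {M : Subgroup G} (hM : M ≠ ⊤)
    (hLM : L ≤ M) (hJM : JAb 0 (S : Subgroup G) ≤ M) : Concl a (S : Subgroup G) := by
  obtain ⟨hPS, hPL, l, hl, z, hz, hne⟩ := hb
  set Z := ZJAb 0 (S : Subgroup G) with hZ
  obtain ⟨T, hT, hle⟩ := ConjFunctor.exists_isSylIn_ge (p := p)
    (inf_le_right : (S : Subgroup G) ⊓ M ≤ M) S.2.to_inf_left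
  obtain ⟨g, -, hg⟩ := ConjFunctor.exists_conj_le_of_isSylIn (ConjFunctor.isSylIn_top S)
    (le_top : T ≤ ⊤) hT.2.1
  have hJT : JAb 0 T = JAb 0 (S : Subgroup G) := by
    refine JAb_eq_of_le_conj (g := g⁻¹) ?_ ((le_inf (Transfer.JAb_le _) hJM).trans hle)
    rw [← ConjFunctor.cj_inv_cj g T]
    exact ConjFunctor.cj_le_cj.mpr hg
  let TM : Sylow p M := (hT.2.1.comap_subtype (K := M)).toSylow hT.2.2
  have hTM : (TM : Subgroup M).map M.subtype = T := by
    show (T.comap M.subtype).map M.subtype = T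
    rw [map_comap_eq, range_subtype, inf_eq_right.mpr hT.1]
  have hZT : (ZJAb 0 (TM : Subgroup M)).map M.subtype = Z := by
    rw [Transfer.map_ZJAb _ _ M.subtype_injective.injOn, hTM, hZ, ZJAb, ZJAb, hJT]
  have hnc : ¬ Ctrl (TM : Subgroup M) := by
    intro hc
    have hQ : (opIn p L).subgroupOf M ≤ (TM : Subgroup M) := by
      have h1 : opIn p L ≤ T :=
        (le_inf ((opIn_le_syl hPL).trans hPS) ((opIn_le L).trans hLM)).trans hle
      exact Subgroup.comap_mono h1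
    obtain ⟨k, hk, hke⟩ := hc ((opIn p L).subgroupOf M) ⟨l, hLM hl⟩ hQ (by
      rintro _ ⟨t, ht, rfl⟩
      exact hQ ((mem_normalizer_iff.mp (le_normalizer_opIn L hl) (t : G)).mp ht))
    have hk' : (k : G) ∈ normalizer (Z : Set G) := by
      have := le_normalizer_map M.subtype (mem_map_of_mem _ hk)
      rwa [hZT] at this
    apply hne
    have e := congrArg Subtype.val (hke ⟨z, hLM (opIn_le L hz.2)⟩ hz.2)
    simp only [Subgroup.coe_mul, InvMemClass.coe_inv] at e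
    rw [← e]
    exact (mem_normalizer_iff.mp hk' z).mp hz.1
  obtain ⟨⟨c, hc, hc1, hcp, k, hk, hke⟩, hF⟩ := IH M (lt_of_le_of_ne (card_le_card_group M)
    fun e => hM (eq_top_of_card_eq M e)) TM hnc
  have hmap : ∀ k ∈ normalizer (ZJAb 0 (TM : Subgroup M) : Set M),
      (k : G) ∈ normalizer (Z : Set G) := fun k hk => by
    have := le_normalizer_map M.subtype (mem_map_of_mem _ hk)
    rwa [hZT] at this
  refine ⟨⟨c, hZT.le (mem_map_of_mem M.subtype hc), fun e => hc1 (Subtype.ext e), ?_, k, hmap k hk,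
    ?_⟩, (hF.map M.subtype M.subtype_injective).mono ?_⟩
  · simpa using congrArg Subtype.val hcp
  · simpa using congrArg Subtype.val hke
  · rintro _ ⟨k, hk, rfl⟩
    exact hmap k hk

theorem exists_pow_of_units {a : (ZMod p)ˣ} (ha : ∀ u : (ZMod p)ˣ, u ∈ zpowers a) (u : (ZMod p)ˣ) :
    ∃ i : ℕ, (u : ZMod p) = (((a : ZMod p).val : ℕ) : ZMod p) ^ i := by
  obtain ⟨i, hi⟩ := (Submonoid.mem_powers_iff _ _).mp (mem_powers_iff_mem_zpowers.mpr (ha u))
  exact ⟨i, by rw [ZMod.natCast_zmod_val, ← hi, Units.val_pow_eq_pow_val]⟩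

omit [Finite G] in
theorem gen_ne_one (hp2 : p ≠ 2) {a : (ZMod p)ˣ} (ha : ∀ u : (ZMod p)ˣ, u ∈ zpowers a) :
    (a : ZMod p) ≠ 1 := by
  intro h
  haveI : Subsingleton (ZMod p)ˣ := ⟨fun u v => by
    have hu : ∀ w : (ZMod p)ˣ, w = 1 := fun w => by
      obtain ⟨i, rfl⟩ := mem_zpowers_iff.mp (ha w)
      rw [Units.val_eq_one.mp h, one_zpow]
    rw [hu u, hu v]⟩
  have h1 : Fintype.card (ZMod p)ˣ ≤ 1 := Fintype.card_le_one_iff_subsingleton.mpr inferInstance
  rw [ZMod.card_units] at h1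
  have := hp.out.two_le
  omega

omit [Finite G] in
theorem val_not_dvd (a : (ZMod p)ˣ) : ¬ p ∣ (a : ZMod p).val := fun h => a.ne_zero (by
  rw [← ZMod.natCast_zmod_val (a : ZMod p)]
  exact (ZMod.natCast_eq_zero_iff _ _).mpr h)

omit [Finite G] in
theorem ker_le_of {K X : Subgroup G} [K.Normal] (hKX : K ≤ X) {g : G}
    (h : QuotientGroup.mk' K g ∈ X.map (QuotientGroup.mk' K)) : g ∈ X := by
  have := Subgroup.mem_comap.mpr h
  rwa [comap_map_eq_self (by rwa [QuotientGroup.ker_mk'])] at this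

/-- The normal case. -/
theorem step_normal (hp2 : p ≠ 2) (S : Sylow p G) {a : (ZMod p)ˣ}
    (ha : ∀ u : (ZMod p)ˣ, u ∈ zpowers a) (IH : FailIH.{u} a (Nat.card G))
    {L P : Subgroup G} (hk : Pick p (S : Subgroup G) L P) {K : Subgroup G} [hKn : K.Normal]
    (hKdef : K = coreIn L (ZJAb 0 (S : Subgroup G) ⊓ opIn p L)) :
    Concl a (S : Subgroup G) := by
  have hQGQ := hk.pCore_le S
  obtain ⟨hPS, hPL, hmvQ⟩ := hk.bad
  set Z := ZJAb 0 (S : Subgroup G) with hZ
  set Q := opIn p L with hQ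
  set QG := Cfsg.pCore p G with hQG
  haveI : QG.Normal := LocalEvenA.pCore_normal' p G
  have hQP : Q ≤ P := opIn_le_syl hPL
  have hLQ : ∀ l ∈ L, ∀ q ∈ Q, l * q * l⁻¹ ∈ Q := fun l hl q hq =>
    (mem_normalizer_iff.mp (le_normalizer_opIn L hl) q).mp hq
  have hKZ : K ≤ Z := hKdef ▸ (coreIn_le _ _).trans inf_le_left
  have hKQ : K ≤ Q := hKdef ▸ (coreIn_le _ _).trans inf_le_right
  have hKQG : K ≤ QG := Basics.le_pCore ((opIn_isPGroup (p := p) L).to_le hKQ)
  set qK := QuotientGroup.mk' K with hqK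
  have hq1 : ∀ g : G, qK g = 1 ↔ g ∈ K := fun g => QuotientGroup.eq_one_iff g
  set Qb := Q.map qK with hQb
  let Xh : Subgroup G :=
    { carrier := {z | z ∈ Z ⊓ Q ∧ qK z ∈ centralizer (Qb : Set (G ⧸ K)) ∧ qK z ^ p = 1}
      one_mem' := ⟨one_mem _, by simp, by simp⟩
      mul_mem' := fun {x y} hx hy => ⟨mul_mem hx.1 hy.1, by
        rw [map_mul]; exact mul_mem hx.2.1 hy.2.1, by
        rw [map_mul, ((Transfer.ZJAb_commute hx.1.1 hy.1.1).map qK).mul_pow, hx.2.2, hy.2.2,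
          mul_one]⟩
      inv_mem' := fun {x} hx => ⟨inv_mem hx.1, by rw [map_inv]; exact inv_mem hx.2.1, by
        rw [map_inv, inv_pow, hx.2.2, inv_one]⟩ }
  have hXhmem : ∀ {z : G}, z ∈ Xh ↔
      z ∈ Z ⊓ Q ∧ qK z ∈ centralizer (Qb : Set (G ⧸ K)) ∧ qK z ^ p = 1 := Iff.rfl
  have hXhZQ : Xh ≤ Z ⊓ Q := fun z hz => hz.1
  have hKXh : K ≤ Xh := fun z hz => hXhmem.mpr ⟨⟨hKZ hz, hKQ hz⟩, by
    rw [(hq1 z).mpr hz]; exact one_mem _, by rw [(hq1 z).mpr hz, one_pow]⟩
  have hcoreK : ∀ {z : G}, z ∈ Z ⊓ Q → (∀ l ∈ L, l * z * l⁻¹ ∈ Z) → z ∈ K := by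
    intro z hz h
    rw [hKdef]
    exact ⟨fun l hl => ⟨h l hl, hLQ l hl z hz.2⟩, hz⟩
  -- a fixed point of order `p` of `Q` on `(Z ∩ Q)/K`
  obtain ⟨z₁, hz₁, hz₁K⟩ : ∃ z ∈ Xh, z ∉ K := by
    set Zb := (Z ⊓ Q).map qK with hZb
    have hY1 : Zb ≠ ⊥ := by
      intro h
      obtain ⟨l, hl, z, hz, hne⟩ := hmvQ
      have hzK : z ∈ K := (hq1 z).mp (mem_bot.mp (h ▸ mem_map_of_mem qK hz))
      exact hne (hKZ (hKn.conj_mem z hzK l))
    have hn : Qb ≤ normalizer (Zb : Set (G ⧸ K)) := by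
      refine (map_mono ?_).trans (le_normalizer_map qK)
      refine (le_inf ?_ le_normalizer).trans inf_normalizer_le_normalizer_inf
      exact ((hQP.trans hPS).trans le_normalizer).trans
        (Transfer.normalizer_le_normalizer_ZJAb _)
    have hQp : IsPGroup p Qb := (opIn_isPGroup (p := p) L).map qK
    have hYp : IsPGroup p Zb := ((opIn_isPGroup (p := p) L).to_le inf_le_right).map qK
    have hne := LocalEvenA.inf_centralizer_ne_bot hQp hYp hY1 hn
    set F := Zb ⊓ centralizer (Qb : Set (G ⧸ K))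
    obtain ⟨k, hk1⟩ := (hYp.to_le (inf_le_left : F ≤ Zb)).exists_card_eq
    have hdvd : p ∣ Nat.card F := by
      rcases k with _ | k
      · exact absurd (eq_bot_of_card_eq _ (hk1.trans (pow_zero p))) hne
      · exact ⟨p ^ k, by rw [hk1, pow_succ, mul_comm]⟩
    obtain ⟨x, hx⟩ := exists_prime_orderOf_dvd_card' p hdvd
    obtain ⟨z, hz, hze⟩ := x.2.1
    refine ⟨z, hXhmem.mpr ⟨hz, ?_, ?_⟩, fun hzK => ?_⟩
    · rw [hze]; exact x.2.2
    · rw [hze, ← Subgroup.coe_pow, ← hx, pow_orderOf_eq_one]; rfl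
    · have h1 : x = 1 := Subtype.ext (hze.symm.trans ((hq1 z).mpr hzK))
      rw [h1, orderOf_one] at hx
      exact hp.out.one_lt.ne hx
  have hXhmv : ∃ l ∈ L, ∃ x ∈ Xh, l * x * l⁻¹ ∉ Z := by
    by_contra hcon
    push Not at hcon
    exact hz₁K (hcoreK (hXhZQ hz₁) fun l hl => hcon l hl z₁ hz₁)
  obtain ⟨X, hXdef, hXmv, hXQG⟩ : ∃ X : Subgroup G, (X = Xh ∨ X = Xh ⊓ QG) ∧
      (∃ l ∈ L, ∃ x ∈ X, l * x * l⁻¹ ∉ Z) ∧
      (X ≤ QG ∨ ∀ x ∈ X, x ∈ QG → x ∈ K) := by
    by_cases h : ∃ l ∈ L, ∃ x ∈ Xh ⊓ QG, l * x * l⁻¹ ∉ Z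
    · exact ⟨_, Or.inr rfl, h, Or.inl inf_le_right⟩
    · push Not at h
      exact ⟨_, Or.inl rfl, hXhmv, Or.inr fun x hx hxQ =>
        hcoreK (hXhZQ hx) fun l hl => h l hl x ⟨hx, hxQ⟩⟩
  have hXXh : X ≤ Xh := by
    rcases hXdef with e | e <;> rw [e]
    exact inf_le_left
  have hKX : K ≤ X := by
    rcases hXdef with e | e <;> rw [e]
    · exact hKXh
    · exact le_inf hKXh hKQG
  have hXZ : X ≤ Z := (hXXh.trans hXhZQ).trans inf_le_left
  have hXQ : X ≤ Q := (hXXh.trans hXhZQ).trans inf_le_right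
  set B := closure {b | ∃ l ∈ L, ∃ x ∈ X, l * x * l⁻¹ = b} with hB
  have hXB : X ≤ B := fun x hx => subset_closure ⟨1, one_mem _, x, hx, by simp⟩
  have hBQ : B ≤ Q := by
    rw [hB, closure_le]
    rintro _ ⟨l, hl, x, hx, rfl⟩
    exact hLQ l hl x (hXQ hx)
  have hLB : ∀ l ∈ L, ∀ b ∈ B, l * b * l⁻¹ ∈ B := by
    intro l hl b hb
    have h : cj l B ≤ B := by
      rw [ConjFunctor.cj, hB, MonoidHom.map_closure, closure_le]
      rintro _ ⟨_, ⟨l', hl', x, hx, rfl⟩, rfl⟩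
      exact subset_closure ⟨l * l', L.mul_mem hl hl', x, hx, by simp [mul_assoc]⟩
    exact h ⟨b, hb, rfl⟩
  set W := B.map qK with hWdef
  have hWQb : W ≤ Qb := map_mono hBQ
  have hWC : W ≤ centralizer (Qb : Set (G ⧸ K)) := by
    rw [hWdef, hB, MonoidHom.map_closure, closure_le]
    rintro _ ⟨_, ⟨l, hl, x, hx, rfl⟩, rfl⟩
    intro y hy
    obtain ⟨q, hq, rfl⟩ := hy
    have h1 : qK (l⁻¹ * q * l) ∈ Qb :=
      mem_map_of_mem qK (by simpa using hLQ l⁻¹ (inv_mem hl) q hq)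
    have h2 : Commute (qK (l⁻¹ * q * l)) (qK x) := (hXhmem.mp (hXXh hx)).2.1 _ h1
    have h3 := h2.map (MulAut.conj (qK l)).toMonoidHom
    simpa [mul_assoc, map_mul, map_inv] using h3.eq
  have hWpow : ∀ w ∈ W, w ^ p = 1 := by
    intro w hw
    obtain ⟨b, hb, rfl⟩ := hw
    suffices h : qK b ∈ Qb ∧ qK b ^ p = 1 ∧ qK b ∈ centralizer (Qb : Set (G ⧸ K)) from h.2.1
    rw [hB] at hb
    induction hb using Subgroup.closure_induction with
    | mem b hb =>
      refine ⟨mem_map_of_mem qK (hBQ (subset_closure hb)), ?_,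
        hWC (mem_map_of_mem qK (subset_closure hb))⟩
      obtain ⟨l, hl, x, hx, rfl⟩ := hb
      rw [map_mul, map_mul, map_inv, conj_pow, (hXhmem.mp (hXXh hx)).2.2, mul_one,
        mul_inv_cancel]
    | one => simp
    | mul x y _ _ ix iy =>
      rw [map_mul]
      refine ⟨mul_mem ix.1 iy.1, ?_, mul_mem ix.2.2 iy.2.2⟩
      rw [(show Commute (qK x) (qK y) from iy.2.2 _ ix.1).mul_pow, ix.2.1, iy.2.1, mul_one]
    | inv x _ ix =>
      rw [map_inv]
      exact ⟨inv_mem ix.1, by rw [inv_pow, ix.2.1, inv_one], inv_mem ix.2.2⟩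
  have hBB : ∀ x ∈ B, ∀ y ∈ B, ⁅x, y⁆ ∈ K := fun x hx y hy => (hq1 _).mp (by
    rw [map_commutatorElement]
    exact commutatorElement_eq_one_iff_commute.mpr
      (hWC (mem_map_of_mem qK hy) _ (hWQb (mem_map_of_mem qK hx))))
  -- a quadratic element
  obtain ⟨v, hvP, hvQ, hvquad, hsmallQG⟩ : ∃ v ∈ P, v ∉ Q ∧
      (∀ b ∈ B, Commute (qK v) (qK (v * b * v⁻¹ * b⁻¹))) ∧
      (B ≤ QG → P = (S : Subgroup G)) := by
    by_cases hPe : P = (S : Subgroup G)
    · obtain ⟨v, hv, hvQ, h⟩ := quad_exists_full hp2 S (hPe ▸ hPL) hKZ hXZ hB hBQ hBB hXmv hmvQ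
      exact ⟨v, hPe ▸ hv, hvQ, fun b hb => (h b hb).map qK, fun _ => hPe⟩
    · obtain ⟨v, hv, hvQ, h, hnB⟩ :=
        quad_exists_small S hPL hPS hPe hk.max hQGQ hXZ hB hBQ hBB hXmv
      refine ⟨v, hv, hvQ, fun b hb => ?_, fun h' => absurd h' hnB⟩
      rw [← commutatorElement_eq_one_iff_commute, ← map_commutatorElement]
      exact (hq1 _).mpr (h b hb)
  -- the module
  haveI : IsMulCommutative W :=
    ⟨⟨fun x y => Subtype.ext (hWC y.2 _ (hWQb x.2))⟩⟩
  haveI : Module (ZMod p) (Additive W) := AddCommGroup.zmodModule fun x => by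
    apply Additive.toMul.injective
    apply Subtype.ext
    exact hWpow _ (Additive.toMul x : W).2
  set j : L →* G ⧸ K := qK.comp L.subtype with hjdef
  have hj : ∀ l, j l ∈ normalizer (W : Set (G ⧸ K)) := fun l => by
    refine le_normalizer_map qK ⟨l, ?_, rfl⟩
    refine ConjFunctor.cj_eq_iff.mp (eq_of_le_of_card_ge ?_ (by rw [ConjFunctor.cj_card]))
    rintro _ ⟨b, hb, rfl⟩
    exact hLB l l.2 b hb
  set ρ := conjRep (p := p) j hj with hρ
  set Xm : Submodule (ZMod p) (Additive W) := subMod (X.map qK) with hXm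
  let T : Sylow p L := (hPL.2.1.comap_subtype (K := L)).toSylow hPL.2.2
  have hstab : ∀ l : L, l ∈ stab ρ Xm ↔ ∀ x ∈ X, (l : G) * x * (l : G)⁻¹ ∈ X := by
    intro l
    constructor
    · intro h x hx
      have h1 := h (Additive.ofMul (⟨qK x, mem_map_of_mem qK (hXB hx)⟩ : W))
        (mem_subMod.mpr (mem_map_of_mem qK hx))
      rw [hXm, mem_subMod, hρ, conjRep_apply] at h1
      refine ker_le_of hKX ?_
      show qK ((l : G) * x * (l : G)⁻¹) ∈ X.map qK
      rw [map_mul, map_mul, map_inv]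
      exact h1
    · intro h z hz
      obtain ⟨x, hx, hxe⟩ := mem_subMod.mp hz
      rw [hXm, mem_subMod]
      refine ⟨(l : G) * x * (l : G)⁻¹, h x hx, ?_⟩
      show _ = j l * ((Additive.toMul z : W) : G ⧸ K) * (j l)⁻¹
      rw [← hxe]
      simp [hjdef]
  have hvquad' : Quad ρ ⟨v, hPL.1 hvP⟩ := quad_conjRep j hj fun w hw => by
    obtain ⟨b, hb, rfl⟩ := hw
    simpa [hjdef, map_mul, map_inv] using hvquad b hb
  set NL := (normalizer (qGen ρ (T : Subgroup L) : Set L)).map L.subtype with hNL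
  have hPNL : P ≤ NL := fun x hx =>
    ⟨⟨x, hPL.1 hx⟩, le_normalizer_qGen ρ (T : Subgroup L) hx, rfl⟩
  have hNLne : NL ≠ L := by
    intro e
    apply hvQ
    refine le_opIn (R := (qGen ρ (T : Subgroup L)).map L.subtype) (map_subtype_le _) ?_
      ((T.2.to_le (qGen_le ρ _)).map _) ⟨⟨v, hPL.1 hvP⟩, mem_qGen hvP hvquad', rfl⟩
    conv_lhs => rw [← e]
    exact le_normalizer_map L.subtype
  have hQX : normalizer (qGen ρ (T : Subgroup L) : Set L) ≤ stab ρ Xm := by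
    intro l hl
    rw [hstab]
    intro x hx
    have h1 := hk.min NL hPNL (map_subtype_le _) hNLne (l : G) ⟨l, hl, rfl⟩ x
      (hXhZQ (hXXh hx))
    obtain ⟨-, h2, h3⟩ := hXhmem.mp (hXXh hx)
    have h4 : (l : G) * x * (l : G)⁻¹ ∈ Xh := by
      refine hXhmem.mpr ⟨h1, fun y hy => ?_, ?_⟩
      · obtain ⟨q, hq, rfl⟩ := hy
        have h5 : qK ((l : G)⁻¹ * q * (l : G)) ∈ Qb :=
          mem_map_of_mem qK (by simpa using hLQ (l : G)⁻¹ (inv_mem l.2) q hq)
        have h6 := (show Commute _ _ from h2 _ h5).map (MulAut.conj (qK (l : G))).toMonoidHom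
        simpa [mul_assoc, map_mul, map_inv] using h6.eq
      · rw [map_mul, map_mul, map_inv, conj_pow, h3, mul_one, mul_inv_cancel]
    rcases hXdef with e | e
    · rw [e]; exact h4
    · rw [e] at hx ⊢
      exact ⟨h4, (inferInstance : QG.Normal).conj_mem x hx.2 _⟩
  have hne : stab ρ Xm ≠ ⊤ := by
    intro e
    obtain ⟨l, hl, x, hx, hn⟩ := hXmv
    exact hn (hXZ ((hstab ⟨l, hl⟩).mp (e ▸ mem_top _) x hx))
  have hweight : ∀ N, Out ρ Xm N (a : ZMod p) → Weight p (S : Subgroup G) (a : ZMod p).val := by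
    intro N ho
    obtain ⟨-, n, -, -, ⟨c, hc, hc0, hnc⟩, -⟩ := ho
    obtain ⟨z, hz, hze⟩ := mem_subMod.mp hc
    have hzK : z ∉ K := fun h => hc0 (Additive.toMul.injective (Subtype.ext (by
      show ((Additive.toMul c : W) : G ⧸ K) = 1
      rw [← hze]
      exact (hq1 z).mpr h)))
    have hn' : qK ((n : G) * z * (n : G)⁻¹) = qK (z ^ (a : ZMod p).val) := by
      have h1 : ((Additive.toMul (ρ n c) : W) : G ⧸ K) =
          ((Additive.toMul ((a : ZMod p) • c) : W) : G ⧸ K) := by rw [hnc]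
      rw [show c = Additive.ofMul (Additive.toMul c : W) from rfl, hρ, conjRep_apply,
        ofMul_toMul_smul] at h1
      rw [← hze] at h1
      simpa [hjdef, map_mul, map_inv, map_pow] using h1
    obtain ⟨c', hc', hc1, hcp, hconj⟩ := exists_eigen (α := (a : ZMod p).val) hKZ S.2
      (by rw [normalizer_eq_top (H := K)]; trivial) (hXZ hz) hzK
      ((hq1 _).mp (by rw [map_mul, map_inv, hn', inv_mul_cancel]))
    exact weight_of_conj S hc' hc1 hcp (val_not_dvd a) hconj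
  have hWp : IsPGroup p W := ((opIn_isPGroup (p := p) L).to_le hBQ).map qK
  have hphi : ∀ M : Subgroup G, M ≠ ⊤ → Phi p M := fun M hM => phi_proper hp2 IH hM
  have hcore := core_out (G := L) (U := Additive W) hp2 (gen_ne_one hp2 ha) ρ T Xm
  by_cases hBQG : B ≤ QG
  · -- inside `O_p(G)`: a local subgroup containing `S`
    have hPe := hsmallQG hBQG
    have ho := hcore ⊥ hQX hne (fun g z hz => by rw [(Submodule.mem_bot _).mp hz, map_zero]; exact zero_mem _)
      fun z hz _ => (Submodule.mem_bot _).mp hz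
    refine ⟨hweight _ ho, ?_⟩
    set L0 := (stab ρ Xm).map L.subtype with hL0
    have hSL0 : (S : Subgroup G) ≤ L0 := fun x hx => by
      have hxP : x ∈ P := by rw [hPe]; exact hx
      exact ⟨⟨x, hPL.1 hxP⟩, hQX (le_normalizer_qGen ρ (T : Subgroup L) hxP), rfl⟩
    have hBL0 : B ≤ L0 := fun b hb => hSL0 (hPS (hQP (hBQ hb)))
    have hL0ne : L0 ≠ ⊤ := by
      intro e
      obtain ⟨l, hl, x, hx, hn⟩ := hXmv
      obtain ⟨l', hl', rfl⟩ : l ∈ L0 := e ▸ mem_top l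
      exact hn (hXZ ((hstab l').mp hl' x hx))
    have hF : HasF p (L0.map qK) :=
      hasF_of_out hp2 j hj (MonoidHom.id _) hWp (fun w hw => by
        rw [show w = 1 from Subtype.ext hw]
        exact zero_mem _) ha ho (fun w hw => map_mono hBL0 hw)
        (fun l hl => mem_map_of_mem qK ⟨l, hl, rfl⟩)
    have hF0 := hF.comap qK (by
      rw [MonoidHom.range_eq_top_of_surjective qK (QuotientGroup.mk'_surjective K)]; exact le_top)
    rw [comap_map_eq_self (by rw [QuotientGroup.ker_mk']; exact (hKX.trans hXB).trans hBL0)] at hF0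
    exact (phi_sub (hphi _ hL0ne)
      (ConjFunctor.isSylIn_of_le (ConjFunctor.isSylIn_top S) hSL0 le_top) hF0).mono inf_le_right
  · -- outside `O_p(G)`
    set Nm : Submodule (ZMod p) (Additive W) := subMod ((B ⊓ QG).map qK) with hNm
    have hXK : ∀ x ∈ X, x ∈ QG → x ∈ K := hXQG.resolve_left fun h => hBQG (by
      rw [hB, closure_le]
      rintro _ ⟨l, hl, x, hx, rfl⟩
      exact (inferInstance : QG.Normal).conj_mem x (h hx) l)
    have ho := hcore Nm hQX hne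
      (fun l z hz => by
        obtain ⟨b, hb, hbe⟩ := mem_subMod.mp hz
        rw [hNm, mem_subMod]
        refine ⟨(l : G) * b * (l : G)⁻¹, ⟨hLB l l.2 b hb.1,
          (inferInstance : QG.Normal).conj_mem b hb.2 _⟩, ?_⟩
        show _ = j l * ((Additive.toMul z : W) : G ⧸ K) * (j l)⁻¹
        rw [← hbe]
        simp [hjdef])
      (fun z hz hz' => by
        obtain ⟨b, hb, hbe⟩ := mem_subMod.mp hz
        obtain ⟨x, hx, hxe⟩ := mem_subMod.mp hz'
        have hbx : x⁻¹ * b ∈ QG := hKQG ((hq1 _).mp (by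
          rw [map_mul, map_inv, hxe, hbe, inv_mul_cancel]))
        have hxQG : x ∈ QG := by
          have h : b * (x⁻¹ * b)⁻¹ ∈ QG := QG.mul_mem hb.2 (QG.inv_mem hbx)
          rwa [mul_inv_rev, inv_inv, mul_inv_cancel_left] at h
        apply Additive.toMul.injective
        apply Subtype.ext
        show ((Additive.toMul z : W) : G ⧸ K) = 1
        rw [← hxe]
        exact (hq1 x).mpr (hXK x hx hxQG))
    refine ⟨hweight _ ho, ?_⟩
    let r : G ⧸ K →* G ⧸ QG := QuotientGroup.map K QG (MonoidHom.id G) hKQG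
    have hF : HasF p (⊤ : Subgroup (G ⧸ QG)) :=
      hasF_of_out hp2 j hj r hWp (fun w hw => by
        obtain ⟨b, hb, hbe⟩ := w.2
        rw [hNm, mem_subMod]
        refine ⟨b, ⟨hb, (QuotientGroup.eq_one_iff b).mp ?_⟩, hbe⟩
        rw [← hbe] at hw
        exact hw) ha ho (fun _ _ => mem_top _) (fun _ _ => mem_top _)
    by_cases hQG1 : QG = ⊥
    · have hq : Function.Surjective (QuotientGroup.mk' QG) := QuotientGroup.mk'_surjective QG
      have hG : HasF p (⊤ : Subgroup G) :=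
        (hF.comap (QuotientGroup.mk' QG)
          (by rw [MonoidHom.range_eq_top_of_surjective _ hq])).mono le_top
      obtain ⟨U, hU, hUp, hUF⟩ := exists_normalizer_hasF hp2 hG
      refine climb hphi S (fun R hR hn => le_bot_iff.mp ?_) U hU hUp hUF
      rw [← hQG1]
      exact ConjFunctor.le_pCore_of_normalizer hR hn
    · refine hasF_of_quotient hp2 hphi (phi_of_ih hp2 a (IH (G ⧸ QG) ?_)) S hF
      rw [Subgroup.card_eq_card_quotient_mul_card_subgroup QG]
      exact lt_mul_of_one_lt_right Nat.card_pos (Finite.one_lt_card_iff_nontrivial.mpr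
        ((Subgroup.nontrivial_iff_ne_bot QG).mpr hQG1))

/-- **Failure of control by `Z(J(S))`.** -/
theorem failure (hp2 : p ≠ 2) {a : (ZMod p)ˣ} (ha : ∀ u : (ZMod p)ˣ, u ∈ zpowers a)
    (S : Sylow p G) (hS : ¬ Ctrl (S : Subgroup G)) : Concl a (S : Subgroup G) := by
  suffices main : ∀ (n : ℕ) (G : Type u) [Group G] [Finite G], Nat.card G = n →
      ∀ S : Sylow p G, ¬ Ctrl (S : Subgroup G) → Concl a (S : Subgroup G) from main _ G rfl S hS
  intro n
  induction n using Nat.strong_induction_on with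
  | _ n ih =>
  intro G _ _ hn S hS
  subst hn
  have IH : FailIH.{u} a (Nat.card G) := fun H _ _ hH => ih _ hH H rfl
  obtain ⟨L₀, P₀, hb⟩ : ∃ L P : Subgroup G, Bad p (S : Subgroup G) L P := by
    by_contra h
    push Not at h
    exact hS (ctrl_of_no_bad S h)
  obtain ⟨L, P, hk⟩ := exists_pick hb
  set K := coreIn L (ZJAb 0 (S : Subgroup G) ⊓ opIn p L) with hK
  by_cases hn : normalizer (K : Set G) = ⊤
  · haveI : K.Normal := normalizer_eq_top_iff.mp hn
    exact step_normal hp2 S ha IH hk hK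
  · refine step_local S IH hk.bad hn (le_normalizer_coreIn _ _) ?_
    intro x hx
    have hc : ∀ z ∈ K, x * z * x⁻¹ = z := fun z hz => by
      rw [((coreIn_le _ _ hz).1.2 x hx), mul_inv_cancel_right]
    refine ConjFunctor.cj_eq_iff.mp (eq_of_le_of_card_ge ?_ (by rw [ConjFunctor.cj_card]))
    rintro _ ⟨z, hz, rfl⟩
    show x * z * x⁻¹ ∈ K
    rwa [hc z hz]

end Cfsg.Agent.ZJWeight
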