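import Cfsg.Agent.Lib.Transfer.MaxAbelian
import Cfsg.Agent.Lib.Basics.Cores
import Cfsg.Agent.Lib.ConjFunctor.Basic
import Cfsg.Agent.Lib.ZJWeight.Core
import Cfsg.Agent.Lib.ConjFunctor.FusionStep

/-!
# Realising maps by `N(Z(J(S)))` when there is no bad local subgroup
-/

set_option autoImplicit false

namespace Cfsg.Agent.ZJWeight

open Subgroup
open ConjFunctor (cj IsSylIn IsFN nS)
open Transfer (ZJAb JAb)

universe u

variable {p : ℕ} [hp : Fact p.Prime] {G : Type u} [Group G] [Finite G]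

/-- `O_p(L)` as a subgroup of the ambient group. -/
def opIn (p : ℕ) (L : Subgroup G) : Subgroup G := (Cfsg.pCore p L).map L.subtype

omit [Finite G] hp in
theorem opIn_le (L : Subgroup G) : opIn p L ≤ L := map_subtype_le _

theorem opIn_isPGroup (L : Subgroup G) : IsPGroup p (opIn p L) :=
  (Basics.pCore_isPGroup p).map _

theorem le_normalizer_opIn (L : Subgroup G) : L ≤ normalizer (opIn p L : Set G) := by
  haveI := LocalEvenA.pCore_normal' p L
  intro l hl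
  refine le_normalizer_map L.subtype ⟨⟨l, hl⟩, ?_, rfl⟩
  rw [normalizer_eq_top (H := Cfsg.pCore p L)]
  trivial

theorem le_opIn {L R : Subgroup G} (hRL : R ≤ L) (hn : L ≤ normalizer (R : Set G))
    (hR : IsPGroup p R) : R ≤ opIn p L := by
  haveI : (R.subgroupOf L).Normal := (normal_subgroupOf_iff_le_normalizer hRL).mpr hn
  have h1 : R.subgroupOf L ≤ Cfsg.pCore p L :=
    Basics.le_pCore (hR.of_equiv (subgroupOfEquivOfLe hRL).symm)
  rw [← map_subgroupOf_eq_of_le hRL]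
  exact map_mono h1

theorem opIn_le_syl {L P : Subgroup G} (hP : IsSylIn p P L) : opIn p L ≤ P := by
  obtain ⟨l, hl, hle⟩ :=
    ConjFunctor.exists_conj_le_of_isSylIn hP (opIn_le L) (opIn_isPGroup (p := p) L)
  rwa [ConjFunctor.cj_eq_iff.mpr (le_normalizer_opIn L hl)] at hle

/-- The map of `T` induced by `g` is realised in `N(Z(J(S)))`. -/
def Real (S T : Subgroup G) (g : G) : Prop :=
  ∃ h ∈ normalizer (ZJAb 0 S : Set G), ∀ t ∈ T, h * t * h⁻¹ = g * t * g⁻¹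

/-- `Z(J(S))` controls the fusion in `S`. -/
def Ctrl (S : Subgroup G) : Prop :=
  ∀ (T : Subgroup G) (g : G), T ≤ S → cj g T ≤ S → Real S T g

/-- A local subgroup moving `Z(J(S)) ∩ O_p`. -/
def Bad (p : ℕ) (S L P : Subgroup G) : Prop :=
  P ≤ S ∧ IsSylIn p P L ∧ ∃ l ∈ L, ∃ z ∈ ZJAb 0 S ⊓ opIn p L, l * z * l⁻¹ ∉ ZJAb 0 S

omit [Finite G] in
theorem Real.mono {S T T' : Subgroup G} {g : G} (h : Real S T g) (hT : T' ≤ T) : Real S T' g := by
  obtain ⟨k, hk, he⟩ := h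
  exact ⟨k, hk, fun t ht => he t (hT ht)⟩

/-- **No large bad subgroup, so large maps are realised.** -/
theorem real_of_no_bad (S : Sylow p G) {n0 : ℕ}
    (hbad : ∀ L P : Subgroup G, Bad p (S : Subgroup G) L P → Nat.card P ≤ n0) :
    ∀ (T : Subgroup G) (g : G), T ≤ (S : Subgroup G) → cj g T ≤ (S : Subgroup G) →
      n0 < Nat.card T → Real (S : Subgroup G) T g := by
  intro T
  induction hk : Nat.card (S : Subgroup G) - Nat.card T using Nat.strong_induction_on generalizing T with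
  | _ k ih =>
  intro g hT hg hn
  subst hk
  set Z := ZJAb 0 (S : Subgroup G) with hZ
  have hNS : normalizer ((S : Subgroup G) : Set G) ≤ normalizer (Z : Set G) :=
    Transfer.normalizer_le_normalizer_ZJAb _
  by_cases hTS : T = (S : Subgroup G)
  · subst hTS
    refine ⟨g, hNS (ConjFunctor.cj_eq_iff.mp ?_), fun t _ => rfl⟩
    exact eq_of_le_of_card_ge hg (by rw [ConjFunctor.cj_card])
  have hbig : ∀ T' : Subgroup G, Nat.card T < Nat.card T' → T' ≤ (S : Subgroup G) →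
      ∀ g' : G, cj g' T' ≤ (S : Subgroup G) → Real (S : Subgroup G) T' g' := by
    intro T' hlt hT' g' hg'
    have h2 := card_le_of_le hT'
    exact ih _ (by omega) T' rfl g' hT' hg' (hn.trans hlt)
  obtain ⟨a, ha⟩ := ConjFunctor.exists_isFN S hT
  set U := cj a T with hU
  have hUcard : Nat.card U = Nat.card T := ConjFunctor.cj_card a T
  have hTlt : T < nS (S : Subgroup G) T := ConjFunctor.lt_nS S.2 hT hTS
  have hgT : cj g T ≠ (S : Subgroup G) := fun e => hTS (eq_of_le_of_card_ge hT (by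
    rw [← e, ConjFunctor.cj_card]))
  have hlt' : ∀ {V : Subgroup G}, V ≤ (S : Subgroup G) → V ≠ (S : Subgroup G) →
      Nat.card V < Nat.card (nS (S : Subgroup G) V : Subgroup G) := fun hV hne =>
    lt_of_le_of_ne (card_le_of_le (ConjFunctor.le_nS hV)) fun e =>
      (ConjFunctor.lt_nS S.2 hV hne).ne (eq_of_le_of_card_ge (ConjFunctor.le_nS hV) e.ge)
  -- the moves onto `U`
  obtain ⟨m₁, hm₁, e₁, n₁⟩ := ConjFunctor.exists_conj_nS S.2 ha a rfl
  obtain ⟨m₂, hm₂, e₂, n₂⟩ := ConjFunctor.exists_conj_nS S.2 ha (a * g⁻¹)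
    (T := cj g T) (by rw [← ConjFunctor.cj_mul, inv_mul_cancel_right])
  obtain ⟨h₁, hh₁, r₁⟩ := hbig _ (hlt' hT hTS) inf_le_left (m₁ * a) (n₁.trans inf_le_left)
  obtain ⟨h₂, hh₂, r₂⟩ := hbig _ (by
      have := hlt' hg hgT
      rwa [ConjFunctor.cj_card] at this)
    inf_le_left (m₂ * (a * g⁻¹)) (n₂.trans inf_le_left)
  set n := m₂ * m₁⁻¹ with hndef
  have hnU : n ∈ normalizer (U : Set G) := mul_mem hm₂ (inv_mem hm₁)
  -- the automorphism of `U`
  suffices hmid : Real (S : Subgroup G) U n by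
    obtain ⟨h₀, hh₀, r₀⟩ := hmid
    refine ⟨h₂⁻¹ * h₀ * h₁, mul_mem (mul_mem (inv_mem hh₂) hh₀) hh₁, fun t ht => ?_⟩
    have hs : m₁ * a * t * (m₁ * a)⁻¹ ∈ U := e₁ ▸ ⟨t, ht, rfl⟩
    have h4 := r₂ (g * t * g⁻¹) (ConjFunctor.le_nS hg ⟨t, ht, rfl⟩)
    calc h₂⁻¹ * h₀ * h₁ * t * (h₂⁻¹ * h₀ * h₁)⁻¹
        = h₂⁻¹ * (h₀ * (h₁ * t * h₁⁻¹) * h₀⁻¹) * h₂ := by group
      _ = h₂⁻¹ * (n * (m₁ * a * t * (m₁ * a)⁻¹) * n⁻¹) * h₂ := by
          rw [r₁ t (ConjFunctor.le_nS hT ht), r₀ _ hs]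
      _ = h₂⁻¹ * (m₂ * (a * g⁻¹) * (g * t * g⁻¹) * (m₂ * (a * g⁻¹))⁻¹) * h₂ := by
          rw [hndef]; group
      _ = g * t * g⁻¹ := by rw [← h4]; group
  have hUS : U ≤ (S : Subgroup G) := ha.1
  have hsyl := ha.sylIn S.2
  set N := normalizer (U : Set G) with hN
  -- a normalized bigger subgroup
  have hext : ∀ (U' : Subgroup G) (n' : G), U < U' → U' ≤ (S : Subgroup G) →
      n' ∈ normalizer (U' : Set G) → (∀ u ∈ U, n' * u * n'⁻¹ = n * u * n⁻¹) →
      Real (S : Subgroup G) U n := by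
    intro U' n' hlt hU' hn' hag
    have hc : Nat.card T < Nat.card U' := by
      rw [← hUcard]
      exact lt_of_le_of_ne (card_le_of_le hlt.le) fun e => hlt.ne (eq_of_le_of_card_ge hlt.le e.ge)
    obtain ⟨h₀, hh₀, r₀⟩ := hbig U' hc hU' n'
      ((ConjFunctor.cj_eq_iff.mpr hn').le.trans hU')
    exact ⟨h₀, hh₀, fun u hu => (r₀ u (hlt.le hu)).trans (hag u hu)⟩
  -- Frattini with a normal subgroup acting on `U` through `S`
  have hfrat : ∀ D : Subgroup G, D ≤ N → N ≤ normalizer (D : Set G) →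
      (∀ d ∈ D, ∃ c ∈ centralizer (U : Set G), ∃ s ∈ (nS (S : Subgroup G) U ⊓ D : Subgroup G),
        d = c * s) →
      ¬ (nS (S : Subgroup G) U ⊓ D ≤ U) → Real (S : Subgroup G) U n := by
    intro D hDN hND hfac hne
    have hs := isSylIn_inf hsyl hDN hND
    have hs' := ConjFunctor.isSylIn_map hs n
    rw [show cj n D = D from ConjFunctor.cj_eq_iff.mpr (hND hnU)] at hs'
    obtain ⟨d, hd, hde⟩ := ConjFunctor.isSylIn_conj hs hs'
    rw [← ConjFunctor.cj_mul] at hde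
    obtain ⟨c, hc, s, hs, hdc⟩ := hfac _ (inv_mem hd)
    set R := nS (S : Subgroup G) U ⊓ D
    refine hext (U ⊔ R) (s * (d * n)) (left_lt_sup.mpr hne)
      (sup_le hUS (inf_le_left.trans inf_le_left)) ?_ ?_
    · refine mul_mem (le_normalizer (mem_sup_right hs)) (ConjFunctor.cj_eq_iff.mp ?_)
      rw [ConjFunctor.cj, Subgroup.map_sup]
      refine congrArg₂ _ ?_ hde
      exact ConjFunctor.cj_eq_iff.mpr (mul_mem (hDN hd) hnU)
    · intro u hu
      have hn2 : n * u * n⁻¹ ∈ U := (mem_normalizer_iff.mp hnU u).mp hu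
      have e : s * (d * n) = c⁻¹ * n := by
        have : s = c⁻¹ * d⁻¹ := by rw [hdc]; group
        rw [this]; group
      rw [e]
      calc c⁻¹ * n * u * (c⁻¹ * n)⁻¹ = c⁻¹ * ((n * u * n⁻¹) * c) := by group
        _ = c⁻¹ * (c * (n * u * n⁻¹)) := by rw [hc _ hn2]
        _ = _ := by group
  set C := centralizer (U : Set G) ⊓ N with hC
  have hCN : N ≤ normalizer (C : Set G) := by
    refine (le_inf (Transfer.normalizer_le_normalizer_centralizer' U) ?_).trans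
      inf_normalizer_le_normalizer_inf
    exact le_normalizer
  by_cases hcentric : nS (S : Subgroup G) U ⊓ C ≤ U
  swap
  · exact hfrat C inf_le_right hCN
      (fun d hd => ⟨d, hd.1, 1, one_mem _, (mul_one d).symm⟩) hcentric
  by_cases hop : opIn p N ≤ U
  swap
  · refine hext (U ⊔ opIn p N) n (left_lt_sup.mpr hop)
      (sup_le hUS ((opIn_le_syl hsyl).trans inf_le_left)) ?_ fun u _ => rfl
    refine ConjFunctor.cj_eq_iff.mp ?_
    rw [ConjFunctor.cj, Subgroup.map_sup]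
    exact congrArg₂ _ (ConjFunctor.cj_eq_iff.mpr hnU)
      (ConjFunctor.cj_eq_iff.mpr (le_normalizer_opIn N hnU))
  have hUop : opIn p N = U :=
    le_antisymm hop (le_opIn le_normalizer le_rfl (S.2.to_le hUS))
  have hnotbad : ∀ l ∈ N, ∀ z ∈ Z ⊓ U, l * z * l⁻¹ ∈ Z := by
    intro l hl z hz
    by_contra h
    have := hbad N (nS (S : Subgroup G) U) ⟨inf_le_left, hsyl, l, hl, z, by rwa [hUop], h⟩
    have := card_le_of_le (ConjFunctor.le_nS hUS)
    omega
  by_cases hZU : Z ≤ U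
  · refine ⟨n, ?_, fun u _ => rfl⟩
    refine ConjFunctor.cj_eq_iff.mp (eq_of_le_of_card_ge ?_ (by rw [ConjFunctor.cj_card]))
    rintro _ ⟨z, hz, rfl⟩
    exact hnotbad n hnU z ⟨hz, hZU hz⟩
  -- the stabiliser of `1 < Z ∩ U < U`
  set Z0 := Z ⊓ U with hZ0
  have hNZ0 : ∀ d ∈ N, cj d Z0 = Z0 := fun d hd => by
    refine eq_of_le_of_card_ge ?_ (by rw [ConjFunctor.cj_card])
    rintro _ ⟨z, hz, rfl⟩
    exact ⟨hnotbad d hd z hz, (mem_normalizer_iff.mp hd z).mp hz.2⟩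
  let D : Subgroup G :=
    { carrier := {d | d ∈ N ∧ (∀ z ∈ Z0, d * z * d⁻¹ = z) ∧ ∀ u ∈ U, d * u * d⁻¹ * u⁻¹ ∈ Z0}
      one_mem' := ⟨one_mem _, fun z _ => by simp, fun u _ => by simp⟩
      mul_mem' := by
        rintro d e ⟨hd, hdz, hdu⟩ ⟨he, hez, heu⟩
        refine ⟨mul_mem hd he, fun z hz => ?_, fun u hu => ?_⟩
        · calc d * e * z * (d * e)⁻¹ = d * (e * z * e⁻¹) * d⁻¹ := by group
            _ = z := by rw [hez z hz, hdz z hz]
        · have h1 := heu u hu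
          have h2 := hdz _ h1
          have h3 : d * e * u * (d * e)⁻¹ * u⁻¹ =
              d * (e * u * e⁻¹ * u⁻¹) * d⁻¹ * (d * u * d⁻¹ * u⁻¹) := by group
          rw [h3, h2]
          exact mul_mem h1 (hdu u hu)
      inv_mem' := by
        rintro d ⟨hd, hdz, hdu⟩
        have hz' : ∀ z ∈ Z0, d⁻¹ * z * d⁻¹⁻¹ = z := fun z hz => by
          conv_lhs => rw [← hdz z hz]
          group
        refine ⟨inv_mem hd, hz', fun u hu => ?_⟩
        have h1 := hdu u hu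
        have h2 := hz' _ h1
        have h3 : d⁻¹ * u * d⁻¹⁻¹ * u⁻¹ = (d⁻¹ * (d * u * d⁻¹ * u⁻¹) * d⁻¹⁻¹)⁻¹ := by group
        rw [h3, h2]
        exact inv_mem h1 }
  have hND : N ≤ normalizer (D : Set G) := by
    intro x hx
    refine ConjFunctor.cj_eq_iff.mp (eq_of_le_of_card_ge ?_ (by rw [ConjFunctor.cj_card]))
    rintro _ ⟨d, ⟨hd, hdz, hdu⟩, rfl⟩
    refine ⟨mul_mem (mul_mem hx hd) (inv_mem hx), fun z hz => ?_, fun u hu => ?_⟩
    · have hz' : x⁻¹ * z * x ∈ Z0 := ConjFunctor.mem_cj.mp ((hNZ0 x hx).symm ▸ hz)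
      show x * d * x⁻¹ * z * (x * d * x⁻¹)⁻¹ = z
      calc x * d * x⁻¹ * z * (x * d * x⁻¹)⁻¹ = x * (d * (x⁻¹ * z * x) * d⁻¹) * x⁻¹ := by group
        _ = z := by rw [hdz _ hz']; group
    · have hu' : x⁻¹ * u * x ∈ U := (mem_normalizer_iff''.mp hx u).mp hu
      have h1 : x * (d * (x⁻¹ * u * x) * d⁻¹ * (x⁻¹ * u * x)⁻¹) * x⁻¹ ∈ Z0 :=
        (hNZ0 x hx).le ⟨_, hdu _ hu', rfl⟩
      show x * d * x⁻¹ * u * (x * d * x⁻¹)⁻¹ * u⁻¹ ∈ Z0
      convert h1 using 1
      group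
  have hDN : D ≤ N := fun d hd => hd.1
  have hZn : ∀ s ∈ (S : Subgroup G), ∀ z ∈ Z, s * z * s⁻¹ ∈ Z := fun s hs z hz =>
    (mem_normalizer_iff.mp (hNS (le_normalizer hs)) z).mp hz
  refine hfrat D hDN hND ?_ ?_
  · -- `D` acts through a `p`-group
    set R := nS (S : Subgroup G) U ⊓ D with hR
    have hRs : IsSylIn p R D := isSylIn_inf hsyl hDN hND
    set C' := centralizer (U : Set G) ⊓ D
    have hC'n : D ≤ normalizer (C' : Set G) :=
      (le_inf ((hDN).trans (Transfer.normalizer_le_normalizer_centralizer' U)) le_normalizer).trans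
        inf_normalizer_le_normalizer_inf
    intro d hd
    -- the `p'`-part of `d` centralizes `U`
    have hEsup : D ≤ C' ⊔ R := by
      refine ConjFunctor.le_sup_of_coprime_le inf_le_right hRs fun y hy hyp => ⟨?_, hy⟩
      intro u hu
      have h1 : u⁻¹ * (y * u * y⁻¹) ∈ Z0 := by
        have h2 := hy.2.2 u hu
        have h3 : u⁻¹ * (y * u * y⁻¹) = u⁻¹ * (y * u * y⁻¹ * u⁻¹) * u := by group
        rw [h3]
        exact ⟨by
          simpa using hZn u⁻¹ ((S : Subgroup G).inv_mem (hUS hu)) _ h2.1,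
          U.mul_mem (U.mul_mem (U.inv_mem hu) h2.2) hu⟩
      exact (ConjFunctor.comm_of_coprime_of_fixed hyp (Q := Z0)
        (S.2.to_le (inf_le_right.trans hUS))
        (fun w hw => mul_inv_eq_iff_eq_mul.mp (hy.2.1 w hw)) h1).symm
    have hd' := hEsup hd
    rw [← SetLike.mem_coe, coe_mul_of_right_le_normalizer_left _ _ (inf_le_right.trans hC'n)] at hd'
    obtain ⟨c, hc, s, hs, rfl⟩ := hd'
    exact ⟨c, hc.1, s, hs, rfl⟩
  · intro hle
    -- an element of `Z` outside `U` lies in `D`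
    have hne : U ≠ U ⊔ Z := fun e => hZU (le_sup_right.trans e.ge)
    have hUZ : U ⊔ Z ≤ (S : Subgroup G) := sup_le hUS (Transfer.ZJAb_le _)
    obtain ⟨w, hw, hwU⟩ := SetLike.exists_of_lt
      (ConjFunctor.lt_nS (S.2.to_le hUZ) le_sup_left hne)
    have hwm : w ∈ U ⊔ Z := hw.1
    rw [← SetLike.mem_coe, coe_mul_of_left_le_normalizer_right _ _
      (hUS.trans (le_normalizer.trans hNS))] at hwm
    obtain ⟨u₀, hu₀, z₀, hz₀, rfl⟩ := hwm
    have hz₀N : z₀ ∈ N := by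
      have := mul_mem (inv_mem (le_normalizer hu₀ : u₀ ∈ N)) hw.2
      rwa [inv_mul_cancel_left] at this
    refine hwU (mul_mem hu₀ (hle ⟨⟨Transfer.ZJAb_le _ hz₀, hz₀N⟩, hz₀N, ?_, fun u hu => ⟨?_, ?_⟩⟩))
    · intro z hz
      rw [(Transfer.ZJAb_commute hz₀ hz.1).eq, mul_inv_cancel_right]
    · have : z₀ * u * z₀⁻¹ * u⁻¹ = z₀ * (u * z₀⁻¹ * u⁻¹) := by group
      rw [this]
      exact mul_mem hz₀ (hZn u (hUS hu) _ (inv_mem hz₀))
    · exact U.mul_mem ((mem_normalizer_iff.mp hz₀N u).mp hu) (U.inv_mem hu)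

theorem ctrl_of_no_bad (S : Sylow p G) (h : ∀ L P : Subgroup G, ¬ Bad p (S : Subgroup G) L P) :
    Ctrl (S : Subgroup G) := fun T g hT hg =>
  real_of_no_bad S (n0 := 0) (fun L P hb => absurd hb (h L P)) T g hT hg Nat.card_pos

theorem not_ctrl_of_bad {S L P : Subgroup G} (hb : Bad p S L P) : ¬ Ctrl S := by
  obtain ⟨hPS, hPL, l, hl, z, hz, hne⟩ := hb
  intro hc
  have hQS : opIn p L ≤ S := (opIn_le_syl hPL).trans hPS
  obtain ⟨h, hh, he⟩ := hc (opIn p L) l hQS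
    ((ConjFunctor.cj_eq_iff.mpr (le_normalizer_opIn L hl)).le.trans hQS)
  apply hne
  rw [← he z hz.2]
  exact (mem_normalizer_iff.mp hh z).mp hz.1

end Cfsg.Agent.ZJWeight
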