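import Cfsg.Agent.Lib.Transfer.PlanarPair
import Cfsg.Agent.Lib.ConjFunctor.Basic

/-!
# A torus element from two transvections
-/

set_option autoImplicit false

namespace Cfsg.Agent.ZJWeight

open Matrix
open scoped MatrixGroups

variable {k : Type*} [Field k]

theorem torus_entries {u : k} {B : Matrix (Fin 2) (Fin 2) k} (hB : B * B = 0)
    (hAB : !![0, u; 0, 0] * B + B * !![0, u; 0, 0] = 1) {i j : k} (hij : i * j = 1) :
    let H := (1 + i • !![0, u; 0, 0]) * (1 - j • B) * (1 + i • !![0, u; 0, 0]) *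
      (1 - !![0, u; 0, 0]) * (1 + B) * (1 - !![0, u; 0, 0])
    H 1 0 = 0 ∧ H 0 0 = i ∧ H 1 1 = j := by
  obtain ⟨q, r, s, t, rfl⟩ : ∃ q r s t, B = !![q, r; s, t] := ⟨_, _, _, _, eta_fin_two B⟩
  have h00 := congrFun (congrFun hAB 0) 0
  have h01 := congrFun (congrFun hAB 0) 1
  have hb := congrFun (congrFun hB 0) 0
  have hu : u ≠ 0 := by
    intro h
    simp [Matrix.mul_apply, Fin.sum_univ_two, h] at h00
  simp [Matrix.mul_apply, Fin.sum_univ_two] at h00 h01 hb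
  have hq : t = -q := by
    have : u * (t + q) = 0 := by linear_combination h01
    exact eq_neg_of_add_eq_zero_left ((mul_eq_zero.mp this).resolve_left hu)
  subst hq
  refine ⟨?_, ?_, ?_⟩ <;> simp [Matrix.mul_apply, Fin.sum_univ_two]
  · grind
  · grind
  · grind

theorem slVal_one_add_pow {M : SL(2, k)} (h : (M.1 - 1) * (M.1 - 1) = 0) (n : ℕ) :
    (M ^ n).1 = 1 + (n : k) • (M.1 - 1) := by
  rw [Transfer.sl_val_pow]
  conv_lhs => rw [show M.1 = 1 + (M.1 - 1) by abel]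
  rw [Transfer.one_add_pow_of_sq h, ← Nat.cast_smul_eq_nsmul k]

theorem slVal_inv {M : SL(2, k)} (h : (M.1 - 1) * (M.1 - 1) = 0) :
    (M⁻¹).1 = 1 - (M.1 - 1) := by
  have h1 : M.1 * (1 - (M.1 - 1)) = 1 := by
    calc M.1 * (1 - (M.1 - 1)) = 1 - (M.1 - 1) * (M.1 - 1) := by
          simp only [mul_sub, sub_mul, mul_one, one_mul]; abel
      _ = 1 := by rw [h, sub_zero]
  exact left_inv_eq_right_inv (by rw [← Transfer.sl_val_mul, inv_mul_cancel]; rfl) h1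

variable {p : ℕ} [hp : Fact p.Prime] [CharP k p]

theorem eq_one_of_pow_prime_pow {z : k} {n : ℕ} (h : z ^ p ^ n = 1) : z = 1 := by
  haveI : ExpChar k p := ExpChar.prime hp.out
  have h1 : (z - 1) ^ p ^ n = 0 := by rw [sub_pow_expChar_pow, one_pow, h, sub_self]
  exact sub_eq_zero.mp (pow_eq_zero_iff (pow_ne_zero n hp.out.ne_zero) |>.mp h1)

/-- A `p`-subgroup of `SL(2,k)` containing a nontrivial upper transvection is upper unitriangular. -/
theorem unitriangular_of_isPGroup {T : Subgroup SL(2, k)} [Finite T] (hT : IsPGroup p T)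
    {X : SL(2, k)} (hX : X ∈ T) {t : k} (ht : t ≠ 0) (hXt : X.1 = !![1, t; 0, 1]) :
    ∀ M ∈ T, M.1 0 0 = 1 ∧ M.1 1 0 = 0 ∧ M.1 1 1 = 1 := by
  haveI : Nontrivial T := ⟨⟨⟨X, hX⟩, 1, fun h => ht (by
    have := congrArg (fun M : T => (M : SL(2, k)).1 0 1) h
    simpa [hXt] using this)⟩⟩
  haveI := hT.center_nontrivial
  obtain ⟨⟨⟨Z, hZT⟩, hZc⟩, hZ1⟩ := exists_ne (1 : Subgroup.center T)
  have hZ : ∀ M ∈ T, M.1 * Z.1 = Z.1 * M.1 := fun M hM => by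
    rw [← Transfer.sl_val_mul, ← Transfer.sl_val_mul]
    exact congrArg (fun M : T => (M : SL(2, k)).1) (Subgroup.mem_center_iff.mp hZc ⟨M, hM⟩)
  have hXZ := hZ X hX
  rw [hXt] at hXZ
  obtain ⟨z, w, s, r, hZe⟩ : ∃ z w s r, Z.1 = !![z, w; s, r] := ⟨_, _, _, _, eta_fin_two Z.1⟩
  rw [hZe] at hXZ
  have e00 := congrFun (congrFun hXZ 0) 0
  have e01 := congrFun (congrFun hXZ 0) 1
  simp [Matrix.mul_apply, Fin.sum_univ_two, ht] at e00 e01
  subst e00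
  have hr : r = z := mul_left_cancel₀ ht (by linear_combination e01)
  subst hr
  have hpowtri : ∀ (M : SL(2, k)), M.1 1 0 = 0 → ∀ n : ℕ, (M ^ n).1 0 0 = M.1 0 0 ^ n ∧
      (M ^ n).1 1 0 = 0 ∧ (M ^ n).1 1 1 = M.1 1 1 ^ n := by
    intro M hM n
    induction n with
    | zero => simp [Transfer.sl_val_one]
    | succ n ih =>
      obtain ⟨i1, i2, i3⟩ := ih
      rw [pow_succ, Transfer.sl_val_mul]
      generalize (M ^ n).1 = P at i1 i2 i3 ⊢
      refine ⟨?_, ?_, ?_⟩ <;> simp [Matrix.mul_apply, Fin.sum_univ_two, hM, i1, i2, i3, pow_succ]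
  have hunit : ∀ M ∈ T, M.1 1 0 = 0 → M.1 0 0 = 1 ∧ M.1 1 1 = 1 := by
    intro M hM hM10
    obtain ⟨n, hn⟩ := hT ⟨M, hM⟩
    have hn' : M ^ p ^ n = 1 := congrArg Subtype.val hn
    obtain ⟨i1, -, i3⟩ := hpowtri M hM10 (p ^ n)
    rw [hn', Transfer.sl_val_one] at i1 i3
    simp at i1 i3
    exact ⟨eq_one_of_pow_prime_pow i1.symm, eq_one_of_pow_prime_pow i3.symm⟩
  have hr1 : r = 1 := by
    have := (hunit Z hZT (by simp [hZe])).1
    simpa [hZe] using this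
  subst hr1
  have hw : w ≠ 0 := fun h => hZ1 (Subtype.ext (Subtype.ext (Subtype.ext (by
    show Z.1 = (1 : Matrix (Fin 2) (Fin 2) k)
    rw [hZe, h, one_fin_two]))))
  intro M hM
  have hMZ := hZ M hM
  rw [hZe] at hMZ
  obtain ⟨m0, m1, m2, m3, hMe⟩ : ∃ a b c d, M.1 = !![a, b; c, d] := ⟨_, _, _, _, eta_fin_two M.1⟩
  rw [hMe] at hMZ
  have f00 := congrFun (congrFun hMZ 0) 0
  simp [Matrix.mul_apply, Fin.sum_univ_two, hw] at f00
  have h10 : M.1 1 0 = 0 := by simp [hMe, f00]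
  exact ⟨(hunit M hM h10).1, h10, (hunit M hM h10).2⟩

/-- In a finite group with two transvections `A B + B A = 1` there is a torus element, upper
triangular with respect to any upper transvection of the group. -/
theorem exists_torus (hp2 : p ≠ 2) (L : Subgroup SL(2, k)) [Finite L] {X₀ Y₀ : SL(2, k)}
    (hX : X₀ ∈ L) (hY : Y₀ ∈ L) {t : k} (ht : t ≠ 0) (hX₀ : X₀.1 = !![1, t; 0, 1])
    (hY₀ : Y₀.1 = !![1, 0; 1, 1]) (a : (ZMod p)ˣ) :
    ∃ M ∈ L, M.1 1 0 = 0 ∧ M.1 0 0 = ZMod.castHom (dvd_refl p) k (a : ZMod p) ∧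
      M.1 1 1 = ZMod.castHom (dvd_refl p) k ((a⁻¹ : (ZMod p)ˣ) : ZMod p) := by
  obtain ⟨U, hU, V, hV, hUq, hVq, hUV⟩ := Transfer.exists_planar_pair (p := p) hp2 L hX hY
    (by rw [hX₀, one_fin_two]; ext i j; fin_cases i <;> fin_cases j <;> simp)
    (by rw [hY₀, one_fin_two]; ext i j; fin_cases i <;> fin_cases j <;> simp)
    (by
      intro h
      have h00 := congrFun (congrFun h 0) 0
      simp [hX₀, hY₀, one_fin_two, Matrix.mul_apply, Fin.sum_univ_two, ht] at h00)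
  -- a Sylow subgroup through the upper transvection
  have hX0p : X₀ ^ p = 1 := Subtype.ext (by
    rw [slVal_one_add_pow (by rw [hX₀, one_fin_two]; ext i j; fin_cases i <;> fin_cases j <;> simp),
      CharP.cast_eq_zero, zero_smul, add_zero]; rfl)
  have hUp : U ^ p = 1 := Subtype.ext (by
    rw [slVal_one_add_pow hUq, CharP.cast_eq_zero, zero_smul, add_zero]; rfl)
  have hcyc : ∀ M : L, M ^ p = 1 → IsPGroup p (Subgroup.zpowers M) := by
    rintro M hM ⟨g, hg⟩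
    obtain ⟨n, rfl⟩ := Subgroup.mem_zpowers_iff.mp hg
    refine ⟨1, Subtype.ext ?_⟩
    show (M ^ n) ^ p ^ 1 = 1
    rw [pow_one, ← zpow_natCast, ← _root_.zpow_mul, mul_comm, _root_.zpow_mul, zpow_natCast, hM, _root_.one_zpow]
  obtain ⟨T, hT⟩ := (hcyc ⟨X₀, hX⟩ (Subtype.ext hX0p)).exists_le_sylow
  obtain ⟨T', hT'⟩ := (hcyc ⟨U, hU⟩ (Subtype.ext hUp)).exists_le_sylow
  obtain ⟨g, hg⟩ := MulAction.exists_smul_eq L T' T
  set T0 := (T : Subgroup L).map L.subtype with hT0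
  haveI : Finite T0 := Finite.of_surjective _ (L.subtype.subgroupMap_surjective (T : Subgroup L))
  have htri := unitriangular_of_isPGroup (T := T0) (T.2.map _)
    (⟨⟨X₀, hX⟩, hT (Subgroup.mem_zpowers _), rfl⟩ : X₀ ∈ T0) ht hX₀
  have hU1mem : (g : SL(2, k)) * U * (g : SL(2, k))⁻¹ ∈ T0 := by
    refine ⟨g * ⟨U, hU⟩ * g⁻¹, ?_, rfl⟩
    rw [← hg, Sylow.coe_subgroup_smul]
    exact ⟨⟨U, hU⟩, hT' (Subgroup.mem_zpowers _), rfl⟩
  obtain ⟨e00, e10, e11⟩ := htri _ hU1mem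
  set U₁ := (g : SL(2, k)) * U * (g : SL(2, k))⁻¹ with hU1
  set V₁ := (g : SL(2, k)) * V * (g : SL(2, k))⁻¹ with hV1
  have hconj : ∀ M : SL(2, k), ((g : SL(2, k)) * M * (g : SL(2, k))⁻¹).1 - 1 =
      (g : SL(2, k)).1 * (M.1 - 1) * ((g : SL(2, k))⁻¹).1 := fun M => by
    rw [Transfer.sl_val_mul, Transfer.sl_val_mul, mul_sub, sub_mul, mul_one,
      ← Transfer.sl_val_mul (g : SL(2, k)) (g : SL(2, k))⁻¹, mul_inv_cancel, Transfer.sl_val_one]
  have hgg : ((g : SL(2, k))⁻¹).1 * (g : SL(2, k)).1 = 1 := by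
    rw [← Transfer.sl_val_mul, inv_mul_cancel, Transfer.sl_val_one]
  have hmulc : ∀ C D : Matrix (Fin 2) (Fin 2) k, ((g : SL(2, k)).1 * C * ((g : SL(2, k))⁻¹).1) *
      ((g : SL(2, k)).1 * D * ((g : SL(2, k))⁻¹).1) =
      (g : SL(2, k)).1 * (C * D) * ((g : SL(2, k))⁻¹).1 := fun C D => by
    calc _ = (g : SL(2, k)).1 * C * (((g : SL(2, k))⁻¹).1 * (g : SL(2, k)).1) * D *
          ((g : SL(2, k))⁻¹).1 := by simp only [mul_assoc]
      _ = _ := by rw [hgg, mul_one]; simp only [mul_assoc]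
  have hUq1 : (U₁.1 - 1) * (U₁.1 - 1) = 0 := by
    rw [hU1, hconj, hmulc, hUq, mul_zero, zero_mul]
  have hVq1 : (V₁.1 - 1) * (V₁.1 - 1) = 0 := by
    rw [hV1, hconj, hmulc, hVq, mul_zero, zero_mul]
  have hUV1 : (U₁.1 - 1) * (V₁.1 - 1) + (V₁.1 - 1) * (U₁.1 - 1) = 1 := by
    rw [hU1, hV1, hconj, hconj, hmulc, hmulc, ← add_mul, ← mul_add, hUV, mul_one,
      ← Transfer.sl_val_mul, mul_inv_cancel, Transfer.sl_val_one]
  have hU1L : U₁ ∈ L := L.mul_mem (L.mul_mem g.2 hU) (L.inv_mem g.2)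
  have hV1L : V₁ ∈ L := L.mul_mem (L.mul_mem g.2 hV) (L.inv_mem g.2)
  have hA : U₁.1 - 1 = !![0, U₁.1 0 1; 0, 0] := by
    rw [one_fin_two]
    ext i j
    fin_cases i <;> fin_cases j <;> simp [e00, e10, e11]
  set φ := ZMod.castHom (dvd_refl p) k
  have hcast : ∀ z : ZMod p, ((z.val : ℕ) : k) = φ z := fun z => by
    rw [← map_natCast φ, ZMod.natCast_zmod_val]
  refine ⟨U₁ ^ (a : ZMod p).val * (V₁ ^ ((a⁻¹ : (ZMod p)ˣ) : ZMod p).val)⁻¹ *
    U₁ ^ (a : ZMod p).val * U₁⁻¹ * V₁ * U₁⁻¹,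
    L.mul_mem (L.mul_mem (L.mul_mem (L.mul_mem (L.mul_mem (L.pow_mem hU1L _)
      (L.inv_mem (L.pow_mem hV1L _))) (L.pow_mem hU1L _)) (L.inv_mem hU1L)) hV1L)
      (L.inv_mem hU1L), ?_⟩
  have hVj : ∀ n : ℕ, ((V₁ ^ n)⁻¹).1 = 1 - (n : k) • (V₁.1 - 1) := fun n => by
    have h1 : ((V₁ ^ n).1 - 1) * ((V₁ ^ n).1 - 1) = 0 := by
      rw [slVal_one_add_pow hVq1, add_sub_cancel_left, smul_mul_smul_comm, hVq1, smul_zero]
    rw [slVal_inv h1, slVal_one_add_pow hVq1, add_sub_cancel_left]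
  simp only [Transfer.sl_val_mul, slVal_one_add_pow hUq1, hVj, slVal_inv hUq1, hcast]
  rw [show V₁.1 = 1 + (V₁.1 - 1) by abel, hA]
  simp only [add_sub_cancel_left]
  rw [hA] at hUV1
  exact torus_entries hVq1 hUV1 (by rw [← map_mul, Units.mul_inv, map_one])

end Cfsg.Agent.ZJWeight
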