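import Cfsg.Agent.Lib.ZJWeight.NilFix
import Cfsg.Agent.Lib.ZJWeight.Torus

/-!
# The two-dimensional model of two quadratic elements
-/

set_option autoImplicit false

namespace Cfsg.Agent.ZJWeight

open Polynomial Matrix

universe u v

variable {p : ℕ} [hp : Fact p.Prime] {U : Type v} [AddCommGroup U] [Module (ZMod p) U]

/-- The polynomial action. -/
theorem aeval_mem {c : Module.End (ZMod p) U} {M : Submodule (ZMod p) U} (hM : ∀ z ∈ M, c z ∈ M)
    (f : (ZMod p)[X]) {z : U} (hz : z ∈ M) : aeval c f z ∈ M := by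
  induction f using Polynomial.induction_on generalizing z with
  | C a => rw [aeval_C, Module.algebraMap_end_apply]; exact M.smul_mem a hz
  | add f g hf hg => rw [map_add, LinearMap.add_apply]; exact M.add_mem (hf hz) (hg hz)
  | monomial n a ih =>
    rw [pow_succ, ← mul_assoc, map_mul, aeval_X, Module.End.mul_apply]
    exact ih (hM z hz)

theorem mem_of_map_mem [Finite U] {c : Module.End (ZMod p) U} {M : Submodule (ZMod p) U}
    (hM : ∀ z ∈ M, c z ∈ M) {R : Submodule (ZMod p) U} (hMR : M ≤ R)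
    (hinj : ∀ z ∈ R, c z = 0 → z = 0) {v : U} (hv : v ∈ R) (h : c v ∈ M) : v ∈ M := by
  have hsur : Function.Surjective (fun z : M => (⟨c z, hM z z.2⟩ : M)) := by
    refine Finite.surjective_of_injective fun z w e => Subtype.ext (sub_eq_zero.mp ?_)
    refine hinj _ (R.sub_mem (hMR z.2) (hMR w.2)) ?_
    rw [map_sub, sub_eq_zero]
    exact congrArg Subtype.val e
  obtain ⟨w, hw⟩ := hsur ⟨c v, h⟩
  have h0 : v - w = 0 := hinj _ (R.sub_mem hv (hMR w.2)) (by
    rw [map_sub, sub_eq_zero]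
    exact (congrArg Subtype.val hw).symm)
  rw [sub_eq_zero.mp h0]
  exact w.2

/-- A maximal invariant subspace not containing the generators, and its quotient field. -/
theorem exists_field_model [Finite U] {A B c : Module.End (ZMod p) U} (hAB : A * B + B * A = c)
    (hB : B * B = 0) (hAc : Commute A c) (hBc : Commute B c) {M R N0 : Submodule (ZMod p) U}
    {E : Set U} (hMR : M ≤ R) (hAR : ∀ z ∈ M, A z = 0) (hinj : ∀ z ∈ R, c z = 0 → z = 0)
    (hcM : ∀ z ∈ M, c z ∈ M) (hEM : ∀ e ∈ E, e ∈ M)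
    (hMmin : ∀ M' : Submodule (ZMod p) U, (∀ z ∈ M', c z ∈ M') → (∀ e ∈ E, e ∈ M') → M ≤ M')
    (hN0M : N0 ≤ M) (hcN0 : ∀ z ∈ N0, c z ∈ N0) (hN0E : ∃ e ∈ E, e ∉ N0) :
    ∃ (k : Type) (_ : Field k) (_ : Finite k) (_ : CharP k p) (_ : Algebra (ZMod p) k) (t : k)
      (Φ : U →ₗ[ZMod p] (Fin 2 → k)) (W : Submodule (ZMod p) U), t ≠ 0 ∧
      (∀ v, ∃ w ∈ W, Φ w = v) ∧
      (∀ w ∈ W, A w ∈ W ∧ B w ∈ W ∧ Φ (A w) = ![t * Φ w 1, 0] ∧ Φ (B w) = ![0, Φ w 0]) ∧
      (∀ w ∈ M, w ∈ W ∧ Φ w 1 = 0) ∧ (∃ e ∈ E, Φ e ≠ 0) ∧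
      (∀ m₁ ∈ N0, ∀ m₂ ∈ N0, Φ (m₁ + B m₂) = 0) ∧
      ∀ w ∈ W, ∃ m₁ ∈ M, ∃ m₂ ∈ M, w = m₁ + B m₂ := by
  classical
  haveI : Fintype {N : Submodule (ZMod p) U //
      N ≤ M ∧ N0 ≤ N ∧ (∀ z ∈ N, c z ∈ N) ∧ ∃ e ∈ E, e ∉ N} := Fintype.ofFinite _
  obtain ⟨⟨N, hNM, hN0, hcN, e, heE, heN⟩, -, hmax⟩ := Finset.exists_max_image
    (Finset.univ : Finset {N : Submodule (ZMod p) U //
      N ≤ M ∧ N0 ≤ N ∧ (∀ z ∈ N, c z ∈ N) ∧ ∃ e ∈ E, e ∉ N})
    (fun N => Nat.card N.1) ⟨⟨N0, hN0M, le_rfl, hcN0, hN0E⟩, Finset.mem_univ _⟩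
  have heM := hEM e heE
  have hbig : ∀ N' : Submodule (ZMod p) U, N' ≤ M → N < N' → (∀ z ∈ N', c z ∈ N') → M ≤ N' := by
    intro N' hN'M hlt hcN'
    refine hMmin N' hcN' fun e' he' => ?_
    by_contra hne
    have h1 := hmax ⟨N', hN'M, hN0.trans hlt.le, hcN', e', he', hne⟩ (Finset.mem_univ _)
    have h2 : Nat.card N < Nat.card N' := by
      rw [← SetLike.coe_sort_coe, ← SetLike.coe_sort_coe, Nat.card_coe_set_eq, Nat.card_coe_set_eq]
      exact Set.ncard_lt_ncard hlt (Set.toFinite _)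
    exact absurd h2 (not_lt.mpr h1)
  -- division by `e`
  have hdiv : ∀ e' ∈ M, e' ∉ N → ∀ z ∈ M, ∃ f : (ZMod p)[X], z - aeval c f e' ∈ N := by
    intro e' he'M he'N z hz
    let N' : Submodule (ZMod p) U :=
      { carrier := {z | z ∈ M ∧ ∃ f : (ZMod p)[X], z - aeval c f e' ∈ N}
        zero_mem' := ⟨zero_mem M, 0, by simp⟩
        add_mem' := by
          rintro z w ⟨hz, f, hf⟩ ⟨hw, g, hg⟩
          refine ⟨add_mem hz hw, f + g, ?_⟩
          rw [map_add, LinearMap.add_apply]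
          have := add_mem hf hg
          convert this using 1
          abel
        smul_mem' := by
          rintro r z ⟨hz, f, hf⟩
          refine ⟨M.smul_mem r hz, r • f, ?_⟩
          rw [map_smul, LinearMap.smul_apply, ← smul_sub]
          exact N.smul_mem r hf }
    have hle : N < N' := by
      refine lt_of_le_of_ne (fun z hz => ⟨hNM hz, 0, by simpa using hz⟩) fun he => he'N ?_
      rw [he]
      exact ⟨he'M, 1, by simp⟩
    refine (hbig N' (fun z hz => hz.1) hle ?_ hz).2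
    rintro z ⟨hz, f, hf⟩
    refine ⟨hcM z hz, Polynomial.X * f, ?_⟩
    rw [map_mul, aeval_X, Module.End.mul_apply, ← map_sub]
    exact hcN _ hf
  let I : Ideal (ZMod p)[X] :=
    { carrier := {f | aeval c f e ∈ N}
      zero_mem' := by simp
      add_mem' := fun {f g} hf hg => by
        show aeval c (f + g) e ∈ N
        rw [map_add, LinearMap.add_apply]
        exact add_mem hf hg
      smul_mem' := fun g f hf => by
        show aeval c (g * f) e ∈ N
        rw [map_mul, Module.End.mul_apply]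
        exact aeval_mem hcN g hf }
  have hImem : ∀ f, f ∈ I ↔ aeval c f e ∈ N := fun f => Iff.rfl
  have hIP : I.IsPrime := by
    refine ⟨fun h => heN ?_, fun {f g} hfg => ?_⟩
    · have := (hImem 1).mp (h ▸ Submodule.mem_top)
      simpa using this
    · by_contra hcon
      push Not at hcon
      obtain ⟨hf, hg⟩ := hcon
      apply hg
      obtain ⟨r, hr⟩ := hdiv _ (aeval_mem hcM f heM) hf e heM
      have h1 := aeval_mem hcN g hr
      rw [map_sub, ← Module.End.mul_apply, ← map_mul, ← Module.End.mul_apply, ← map_mul] at h1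
      have h2 : aeval c (g * r * f) e ∈ N := by
        rw [show g * r * f = r * (f * g) by ring, map_mul, Module.End.mul_apply]
        exact aeval_mem hcN r hfg
      have := add_mem h1 h2
      rw [sub_add_cancel] at this
      exact this
  haveI : Module.Finite (ZMod p) U := Module.Finite.of_finite
  have hint : IsIntegral (ZMod p) c := Algebra.IsIntegral.isIntegral c
  have hI0 : I ≠ ⊥ := fun h => minpoly.ne_zero hint (by
    rw [← Submodule.mem_bot (R := (ZMod p)[X]), ← h]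
    show aeval c (minpoly (ZMod p) c) e ∈ N
    rw [minpoly.aeval]
    simp)
  haveI hImax : I.IsMaximal := hIP.isMaximal hI0
  letI : Field ((ZMod p)[X] ⧸ I) := Ideal.Quotient.field I
  set q := Ideal.Quotient.mk I with hq
  set t := q Polynomial.X with ht
  have ht0 : t ≠ 0 := by
    intro h
    rw [ht, hq, Ideal.Quotient.eq_zero_iff_mem, hImem, aeval_X] at h
    exact heN (mem_of_map_mem hcN (hNM.trans hMR) hinj (hMR heM) h)
  let W : Submodule (ZMod p) U := M ⊔ M.map B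
  let W' : Submodule (ZMod p) U := N ⊔ N.map B
  let Ψ : (ZMod p)[X] → (ZMod p)[X] → U := fun f g => aeval c f e + B (aeval c g e)
  have hA : ∀ m₁ ∈ M, ∀ m₂ ∈ M, A (m₁ + B m₂) = c m₂ := fun m₁ h₁ m₂ h₂ => by
    rw [map_add, hAR m₁ h₁, zero_add, ← hAB, LinearMap.add_apply, Module.End.mul_apply,
      Module.End.mul_apply, hAR m₂ h₂, map_zero, add_zero]
  have hWmem : ∀ w ∈ W, ∃ m₁ ∈ M, ∃ m₂ ∈ M, w = m₁ + B m₂ := by
    intro w hw
    obtain ⟨m₁, h₁, _, ⟨m₂, h₂, rfl⟩, rfl⟩ := Submodule.mem_sup.mp hw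
    exact ⟨m₁, h₁, m₂, h₂, rfl⟩
  have huniq : ∀ f g, Ψ f g ∈ W' → f ∈ I ∧ g ∈ I := by
    intro f g h
    obtain ⟨n₁, hn₁, _, ⟨n₂, hn₂, rfl⟩, hn⟩ := Submodule.mem_sup.mp h
    have hM1 := aeval_mem hcM f heM
    have hM2 := aeval_mem hcM g heM
    have h1 := congrArg A hn
    rw [hA n₁ (hNM hn₁) n₂ (hNM hn₂), hA _ hM1 _ hM2] at h1
    have hg : aeval c g e ∈ N := by
      refine mem_of_map_mem hcN (hNM.trans hMR) hinj (hMR hM2) ?_
      rw [← h1]; exact hcN _ hn₂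
    have h2 : n₂ = aeval c g e := sub_eq_zero.mp (hinj _ (R.sub_mem (hMR (hNM hn₂)) (hMR hM2))
      (by rw [map_sub, h1, sub_self]))
    refine ⟨?_, hg⟩
    have h3 : aeval c f e = n₁ := by
      have := hn
      simp only [Ψ, h2, add_left_inj] at this
      exact this.symm
    show aeval c f e ∈ N
    rw [h3]; exact hn₁
  have hdec : ∀ w : W, ∃ fg : (ZMod p)[X] × (ZMod p)[X], (w : U) - Ψ fg.1 fg.2 ∈ W' := by
    intro w
    obtain ⟨m₁, h₁, m₂, h₂, hw⟩ := hWmem w w.2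
    obtain ⟨f, hf⟩ := hdiv e heM heN m₁ h₁
    obtain ⟨g, hg⟩ := hdiv e heM heN m₂ h₂
    refine ⟨(f, g), ?_⟩
    have : (w : U) - Ψ f g = (m₁ - aeval c f e) + B (m₂ - aeval c g e) := by
      rw [hw]; simp only [Ψ, map_sub]; abel
    rw [this]
    exact Submodule.add_mem_sup hf ⟨_, hg, rfl⟩
  choose d hd using hdec
  let Φ0 : W → (Fin 2 → (ZMod p)[X] ⧸ I) := fun w => ![q (d w).1, q (d w).2]
  have hΦ0 : ∀ (w : W) f g, (w : U) - Ψ f g ∈ W' → Φ0 w = ![q f, q g] := by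
    intro w f g h
    have h1 : Ψ ((d w).1 - f) ((d w).2 - g) ∈ W' := by
      have := sub_mem h (hd w)
      convert this using 1
      simp only [Ψ, map_sub, LinearMap.sub_apply]
      abel
    obtain ⟨hf, hg⟩ := huniq _ _ h1
    simp only [Φ0]
    rw [Ideal.Quotient.eq.mpr hf, Ideal.Quotient.eq.mpr hg]
  let Φ1 : W →ₗ[ZMod p] (Fin 2 → (ZMod p)[X] ⧸ I) :=
    { toFun := Φ0
      map_add' := fun w w' => by
        rw [hΦ0 (w + w') ((d w).1 + (d w').1) ((d w).2 + (d w').2)]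
        · simp only [Φ0]
          ext i; fin_cases i <;> simp
        · have := add_mem (hd w) (hd w')
          convert this using 1
          simp only [Ψ, map_add, LinearMap.add_apply, Submodule.coe_add]
          abel
      map_smul' := fun r w => by
        rw [hΦ0 (r • w) (r • (d w).1) (r • (d w).2)]
        · simp only [Φ0, RingHom.id_apply]
          ext i
          fin_cases i <;> exact map_smul (Ideal.Quotient.mkₐ (ZMod p) I) r _
        · have := W'.smul_mem r (hd w)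
          convert this using 1
          simp only [Ψ, map_smul, LinearMap.smul_apply, Submodule.coe_smul, smul_sub, smul_add] }
  obtain ⟨Φ, hΦ⟩ := LinearMap.exists_extend Φ1
  have hΦw : ∀ w : W, Φ w = Φ0 w := fun w => LinearMap.congr_fun hΦ w
  have hΨW : ∀ f g, Ψ f g ∈ W := fun f g =>
    Submodule.add_mem_sup (aeval_mem hcM f heM) ⟨_, aeval_mem hcM g heM, rfl⟩
  have hΦΨ : ∀ (w : U), w ∈ W → ∀ f g, w - Ψ f g ∈ W' → Φ w = ![q f, q g] := fun w hw f g h =>
    (hΦw ⟨w, hw⟩).trans (hΦ0 _ f g h)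
  have hsurj : ∀ v, ∃ w ∈ W, Φ w = v := by
    intro v
    obtain ⟨f, hf⟩ := Ideal.Quotient.mk_surjective (v 0)
    obtain ⟨g, hg⟩ := Ideal.Quotient.mk_surjective (v 1)
    refine ⟨Ψ f g, hΨW f g, ?_⟩
    rw [hΦΨ _ (hΨW f g) f g (by simp)]
    ext i; fin_cases i <;> simp [hq, hf, hg]
  haveI : Finite ((ZMod p)[X] ⧸ I) := Finite.of_surjective (fun w : U => Φ w 0) fun z => by
    obtain ⟨w, -, hw⟩ := hsurj ![z, 0]
    exact ⟨w, by simp [hw]⟩
  have hW' : ∀ m₁ ∈ N, ∀ m₂ ∈ N, Φ (m₁ + B m₂) = 0 := by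
    intro m₁ h₁ m₂ h₂
    rw [hΦΨ _ (Submodule.add_mem_sup (hNM h₁) ⟨m₂, hNM h₂, rfl⟩) 0 0
      (by simp only [Ψ, map_zero, LinearMap.zero_apply, add_zero, sub_zero]
          exact Submodule.add_mem_sup h₁ ⟨m₂, h₂, rfl⟩)]
    ext i; fin_cases i <;> simp
  refine ⟨_, inferInstance, inferInstance,
    charP_of_injective_algebraMap (algebraMap (ZMod p) ((ZMod p)[X] ⧸ I)).injective p,
    inferInstance, t, Φ, W, ht0, hsurj, ?_, ?_, ⟨e, heE, ?_⟩, fun m₁ h₁ m₂ h₂ =>
      hW' m₁ (hN0 h₁) m₂ (hN0 h₂), hWmem⟩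
  · intro w hw
    obtain ⟨m₁, h₁, m₂, h₂, rfl⟩ := hWmem w hw
    obtain ⟨f, hf⟩ := hdiv e heM heN m₁ h₁
    obtain ⟨g, hg⟩ := hdiv e heM heN m₂ h₂
    have hw0 := hΦΨ _ hw f g (by
      have : m₁ + B m₂ - Ψ f g = (m₁ - aeval c f e) + B (m₂ - aeval c g e) := by
        simp only [Ψ, map_sub]; abel
      rw [this]; exact Submodule.add_mem_sup hf ⟨_, hg, rfl⟩)
    have hAw : A (m₁ + B m₂) ∈ W := by
      rw [hA m₁ h₁ m₂ h₂]; exact Submodule.mem_sup_left (hcM _ h₂)
    have hBB : B (m₁ + B m₂) = B m₁ := by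
      rw [map_add, ← Module.End.mul_apply B B, hB, LinearMap.zero_apply, add_zero]
    have hBw : B (m₁ + B m₂) ∈ W := by
      rw [hBB]; exact Submodule.mem_sup_right ⟨m₁, h₁, rfl⟩
    refine ⟨hAw, hBw, ?_, ?_⟩
    · rw [hΦΨ _ hAw (Polynomial.X * g) 0 ?_, hw0]
      · ext i; fin_cases i <;> simp [ht, hq]
      · rw [hA m₁ h₁ m₂ h₂]
        simp only [Ψ, map_zero, LinearMap.zero_apply, add_zero, map_mul, aeval_X,
          Module.End.mul_apply, ← map_sub]
        exact Submodule.mem_sup_left (hcN _ hg)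
    · rw [hΦΨ _ hBw 0 f ?_, hw0]
      · ext i; fin_cases i <;> simp
      · rw [hBB]
        simp only [Ψ, map_zero, LinearMap.zero_apply, zero_add, ← map_sub]
        exact Submodule.mem_sup_right ⟨_, hf, rfl⟩
  · intro w hw
    refine ⟨Submodule.mem_sup_left hw, ?_⟩
    obtain ⟨f, hf⟩ := hdiv e heM heN w hw
    rw [hΦΨ w (Submodule.mem_sup_left hw) f 0 (by
      simp only [Ψ, map_zero, LinearMap.zero_apply, add_zero]
      exact Submodule.mem_sup_left hf)]
    simp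
  · rw [hΦΨ e (Submodule.mem_sup_left heM) 1 0 (by simp [Ψ])]
    intro h
    simpa [hq] using congrFun h 0

end Cfsg.Agent.ZJWeight
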