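import Cfsg.Agent.Lib.ZJWeight.Out
import Cfsg.Agent.Lib.Transfer.QuadPairSL2

/-!
# Two conjugate quadratic elements whose anticommutator is nilpotent
-/

set_option autoImplicit false

namespace Cfsg.Agent.ZJWeight

open Subgroup

universe u v

variable {p : ℕ} [hp : Fact p.Prime] {U : Type v} [AddCommGroup U] [Module (ZMod p) U]
  {G : Type u} [Group G] [Finite G]

/-- The anticommutator. -/
def cOp (ρ : G →* Module.End (ZMod p) U) (x y : G) : Module.End (ZMod p) U :=
  (ρ x - 1) * (ρ y - 1) + (ρ y - 1) * (ρ x - 1)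

theorem cOp_commute {ρ : G →* Module.End (ZMod p) U} {x y : G} (hx : Quad ρ x) (hy : Quad ρ y)
    {g : G} (hg : g ∈ closure ({x, y} : Set G)) : Commute (ρ g) (cOp ρ x y) := by
  have hA : Commute (ρ x - 1) (cOp ρ x y) := by
    show _ * _ = _ * _
    rw [cOp, mul_add, add_mul, mul_assoc, ← mul_assoc (ρ x - 1) (ρ x - 1), hx, zero_mul, zero_add,
      mul_assoc (ρ y - 1) (ρ x - 1) (ρ x - 1), hx, mul_zero, add_zero]
  have hB : Commute (ρ y - 1) (cOp ρ x y) := by
    show _ * _ = _ * _
    rw [cOp, mul_add, add_mul, ← mul_assoc (ρ y - 1) (ρ y - 1), hy, zero_mul, add_zero,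
      mul_assoc (ρ x - 1) (ρ y - 1) (ρ y - 1), hy, mul_zero, zero_add, mul_assoc]
  have hx' : Commute (ρ x) (cOp ρ x y) := by
    simpa using hA.add_left (Commute.one_left (cOp ρ x y))
  have hy' : Commute (ρ y) (cOp ρ x y) := by
    simpa using hB.add_left (Commute.one_left (cOp ρ x y))
  rw [← Subgroup.mem_toSubmonoid, closure_toSubmonoid_of_finite] at hg
  induction hg using Submonoid.closure_induction with
  | mem z hz => rcases hz with rfl | rfl <;> assumption
  | one => rw [map_one]; exact Commute.one_left _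
  | mul a b _ _ ha hb => rw [map_mul]; exact ha.mul_left hb

/-- If a power of the anticommutator sends `X` into `N`, every element fixes `X` modulo `N`. -/
theorem nil_fix [Finite U] (ρ : G →* Module.End (ZMod p) U) {x g₀ : G} (hx : Quad ρ x)
    (hgen : closure ({x, g₀ * x * g₀⁻¹} : Set G) = ⊤) {X N : Submodule (ZMod p) U}
    (hN : ∀ g : G, ∀ z ∈ N, ρ g z ∈ N) (hxX : ∀ z ∈ X, ρ x z = z) (m : ℕ)
    (hnil : ∀ z ∈ X, (cOp ρ x (g₀ * x * g₀⁻¹) ^ m) z ∈ N) :
    ∀ g : G, ∀ z ∈ X, ρ g z - z ∈ N := by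
  set y := g₀ * x * g₀⁻¹ with hy
  have hyq : Quad ρ y := hx.conj g₀
  set c := cOp ρ x y with hc
  have hcomm : ∀ g : G, Commute (ρ g) c := fun g => cOp_commute hx hyq (hgen.ge (mem_top g))
  let U0 : Submodule (ZMod p) U := N.comap (c ^ m)
  have hU0 : ∀ g : G, ∀ z ∈ U0, ρ g z ∈ U0 := by
    intro g z hz
    show (c ^ m) (ρ g z) ∈ N
    rw [← Module.End.mul_apply, ← ((hcomm g).pow_right m).eq, Module.End.mul_apply]
    exact hN g _ hz
  let N0 : Submodule (ZMod p) U0 := N.comap U0.subtype
  let ρ0 : G →* Module.End (ZMod p) (U0 ⧸ N0) :=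
    { toFun := fun g => N0.mapQ N0 ((ρ g).restrict (hU0 g)) (fun z hz => hN g _ hz)
      map_one' := by
        refine Submodule.linearMap_qext _ (LinearMap.ext fun z => ?_)
        simp only [LinearMap.comp_apply, Submodule.mkQ_apply,
          Module.End.one_apply]
        show Submodule.Quotient.mk ((ρ 1).restrict (hU0 1) z) = Submodule.Quotient.mk z
        congr 1
        exact Subtype.ext (by simp [LinearMap.restrict_coe_apply])
      map_mul' := fun g h => by
        refine Submodule.linearMap_qext _ (LinearMap.ext fun z => ?_)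
        simp only [LinearMap.comp_apply, Submodule.mkQ_apply,
          Module.End.mul_apply]
        show Submodule.Quotient.mk ((ρ (g * h)).restrict (hU0 _) z) =
          Submodule.Quotient.mk ((ρ g).restrict (hU0 g) ((ρ h).restrict (hU0 h) z))
        congr 1
        exact Subtype.ext (by simp [LinearMap.restrict_coe_apply]) }
  have hρ0 : ∀ (g : G) (z : U0), ρ0 g (Submodule.Quotient.mk z) =
      Submodule.Quotient.mk ⟨ρ g z, hU0 g z z.2⟩ := fun g z => rfl
  have hquad : ∀ g : G, Quad ρ g → Quad ρ0 g := by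
    intro g hg
    refine Submodule.linearMap_qext _ (LinearMap.ext fun z => ?_)
    simp only [LinearMap.comp_apply, Submodule.mkQ_apply, Module.End.mul_apply,
      LinearMap.sub_apply, Module.End.one_apply, hρ0, LinearMap.zero_apply,
      ← Submodule.Quotient.mk_sub]
    rw [show (0 : U0 ⧸ N0) = Submodule.Quotient.mk 0 from rfl]
    congr 1
    refine Subtype.ext ?_
    have := LinearMap.congr_fun hg (z : U)
    simpa using this
  have hcU : ∀ z ∈ U0, c z ∈ U0 := by
    intro z hz
    show (c ^ m) (c z) ∈ N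
    rw [← Module.End.mul_apply, ← pow_succ, pow_succ', Module.End.mul_apply]
    show c ((c ^ m) z) ∈ N
    rw [hc, cOp]
    simp only [LinearMap.add_apply, Module.End.mul_apply, LinearMap.sub_apply,
      Module.End.one_apply]
    refine add_mem (sub_mem (hN x _ ?_) ?_) (sub_mem (hN y _ ?_) ?_) <;>
      exact sub_mem (hN _ _ hz) hz
  have hnil0 : IsNilpotent ((ρ0 x - 1) * (ρ0 y - 1) + (ρ0 y - 1) * (ρ0 x - 1)) := by
    refine ⟨m, ?_⟩
    have key : ∀ (j : ℕ) (z : U0), ∃ w : U0, (w : U) = (c ^ j) z ∧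
        (((ρ0 x - 1) * (ρ0 y - 1) + (ρ0 y - 1) * (ρ0 x - 1)) ^ j) (Submodule.Quotient.mk z) =
          Submodule.Quotient.mk w := by
      intro j
      induction j with
      | zero => exact fun z => ⟨z, by simp, by simp⟩
      | succ j ih =>
        intro z
        obtain ⟨w, hw, e⟩ := ih z
        refine ⟨⟨c w, hcU w w.2⟩, ?_, ?_⟩
        · rw [pow_succ', Module.End.mul_apply, ← hw]
        · rw [pow_succ', Module.End.mul_apply, e]
          simp only [LinearMap.add_apply, Module.End.mul_apply, LinearMap.sub_apply,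
            Module.End.one_apply, hρ0, ← Submodule.Quotient.mk_sub, ← Submodule.Quotient.mk_add]
          rfl
    refine Submodule.linearMap_qext _ (LinearMap.ext fun z => ?_)
    obtain ⟨w, hw, e⟩ := key m z
    rw [LinearMap.comp_apply, Submodule.mkQ_apply, e, LinearMap.comp_apply, LinearMap.zero_apply,
      Submodule.Quotient.mk_eq_zero]
    show (w : U) ∈ N
    rw [hw]
    exact z.2
  have hq : IsPGroup p (G ⧸ ρ0.ker) := by
    intro gb
    obtain ⟨g, rfl⟩ := QuotientGroup.mk'_surjective _ gb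
    haveI : Finite (U0 ⧸ N0) := Quotient.finite _
    obtain ⟨k, hk⟩ := Transfer.exists_pow_eq_one_of_nilpotent_anticomm ρ0 x y (hquad x hx)
      (hquad y hyq) hnil0 (hgen.ge (mem_top g))
    refine ⟨k, ?_⟩
    rw [← map_pow]
    exact (QuotientGroup.eq_one_iff _).mpr (by rw [MonoidHom.mem_ker, map_pow, hk])
  have hcyc : zpowers (QuotientGroup.mk' ρ0.ker x) = ⊤ := by
    refine zpowers_eq_top_of_normalClosure hq ?_
    refine top_le_iff.mp ?_
    rw [← map_top_of_surjective (QuotientGroup.mk' ρ0.ker) (QuotientGroup.mk'_surjective _),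
      ← hgen, MonoidHom.map_closure, closure_le]
    rintro _ ⟨z, hz, rfl⟩
    rcases hz with rfl | rfl
    · exact subset_normalClosure rfl
    · rw [hy, map_mul, map_mul, map_inv]
      exact (normalClosure_normal).conj_mem _
        (subset_normalClosure (Set.mem_singleton (QuotientGroup.mk' ρ0.ker x))) _
  intro g z hz
  obtain ⟨k, hk⟩ := mem_zpowers_iff.mp (hcyc.ge (mem_top (QuotientGroup.mk' ρ0.ker g)))
  rw [← map_zpow] at hk
  have hk' : ρ0 (g⁻¹ * x ^ k) = 1 := by
    have h1 : QuotientGroup.mk' ρ0.ker (g⁻¹ * x ^ k) = 1 := by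
      rw [map_mul, map_inv, hk, inv_mul_cancel]
    exact (QuotientGroup.eq_one_iff _).mp h1
  have hxk : ρ (x ^ k) z = z := by
    obtain ⟨j, hj⟩ := Submonoid.mem_powers_iff _ _ |>.mp
      ((isOfFinOrder_of_finite x).mem_powers_iff_mem_zpowers.mpr ⟨k, rfl⟩ :
        x ^ k ∈ Submonoid.powers x)
    rw [← hj]
    clear hj
    induction j with
    | zero => simp
    | succ j ih => rw [pow_succ, map_mul, Module.End.mul_apply, hxX z hz, ih]
  have h2 := LinearMap.congr_fun hk' (Submodule.Quotient.mk ⟨z, hnil z hz⟩)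
  rw [hρ0, Module.End.one_apply, Submodule.Quotient.eq] at h2
  have h3 : ρ (g⁻¹ * x ^ k) z - z ∈ N := h2
  rw [map_mul, Module.End.mul_apply, hxk] at h3
  have h4 := hN g _ h3
  rw [map_sub, ← Module.End.mul_apply, ← map_mul, mul_inv_cancel, map_one,
    Module.End.one_apply] at h4
  simpa using neg_mem h4

end Cfsg.Agent.ZJWeight
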