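import Cfsg.Agent.Lib.ZJWeight.CentralQuad

/-!
# The stabiliser of a subspace and the wanted outcome
-/

set_option autoImplicit false

namespace Cfsg.Agent.ZJWeight

universe u v

variable {p : ℕ} [hp : Fact p.Prime] {U : Type v} [AddCommGroup U] [Module (ZMod p) U]
  {G : Type u} [Group G] [Finite G]

/-- The stabiliser of a subspace. -/
def stab (ρ : G →* Module.End (ZMod p) U) (X : Submodule (ZMod p) U) : Subgroup G where
  carrier := {g | ∀ z ∈ X, ρ g z ∈ X}
  one_mem' := fun z hz => by simpa using hz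
  mul_mem' := fun {g h} hg hh z hz => by
    rw [map_mul, Module.End.mul_apply]
    exact hg _ (hh z hz)
  inv_mem' := fun {g} hg z hz => by
    have key : ∀ k : ℕ, ρ (g ^ k) z ∈ X := by
      intro k
      induction k with
      | zero => simpa using hz
      | succ k ih =>
        rw [pow_succ', map_mul, Module.End.mul_apply]
        exact hg _ ih
    have h1 : g⁻¹ = g ^ (orderOf g - 1) := by
      refine inv_eq_of_mul_eq_one_right ?_
      rw [← pow_succ', Nat.sub_add_cancel (orderOf_pos g), pow_orderOf_eq_one]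
    rw [h1]
    exact key _

theorem mem_stab {ρ : G →* Module.End (ZMod p) U} {X : Submodule (ZMod p) U} {g : G} :
    g ∈ stab ρ X ↔ ∀ z ∈ X, ρ g z ∈ X := Iff.rfl

/-- A linear image of a two-dimensional Borel module in `U`, with a weight `a` in `X`. -/
def Out (ρ : G →* Module.End (ZMod p) U) (X N : Submodule (ZMod p) U) (a : ZMod p) : Prop :=
  ∃ x n : G, x ∈ stab ρ X ∧ n ∈ stab ρ X ∧ (∃ c ∈ X, c ≠ 0 ∧ ρ n c = a • c) ∧
    ∃ (W : Submodule (ZMod p) U) (φ : U →ₗ[ZMod p] (Fin 2 → ZMod p)) (b : ZMod p),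
      (∀ v, ∃ w ∈ W, φ w = v) ∧
      (∀ w ∈ W, ρ x w ∈ W ∧ ρ n w ∈ W ∧ φ (ρ x w) = ![φ w 0 + φ w 1, φ w 1] ∧
        φ (ρ n w) = ![a * φ w 0 + b * φ w 1, a⁻¹ * φ w 1]) ∧
      ∀ w ∈ W, w ∈ N → φ w = 0

end Cfsg.Agent.ZJWeight
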